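import Cfsg.Agent.S1250
import Cfsg.Agent.S1251
import Cfsg.Agent.S0542
import Cfsg.Agent.Components.Layer
import Cfsg.Agent.Components.PLocal
import Cfsg.Agent.Cores.PCore
import Cfsg.Agent.H46.HalfClasses.Centre
import Cfsg.Agent.H52.Commuting.Basic

/-!
# Components and a strongly closed abelian 2-subgroup

In a group with trivial odd core a strongly closed abelian 2-subgroup `A` normalises every
component, and either centralises it or meets it outside its centre; in the second case the central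
quotient of the component has a non-trivial strongly closed abelian 2-subgroup as well.
-/

set_option autoImplicit false
set_option linter.style.haveILetI false

namespace Cfsg.Agent.H48.WA

open Subgroup Cfsg.Agent
open scoped commutatorElement

universe u

variable {X : Type u} [Group X] [Finite X]

local instance fact_two : Fact (Nat.Prime 2) := ⟨Nat.prime_two⟩

/-! ### Restriction to a subgroup -/

/-- A conjugate of `A` meets a subgroup `M` in a strongly closed subgroup that holds `A ⊓ M`. -/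
theorem closed_inter {S : Sylow 2 X} {A : Subgroup X}
    (hA : Cfsg.IsStronglyClosed A (S : Subgroup X)) (M : Subgroup X) :
    ∃ (h : X) (R : Sylow 2 ↥M),
      Cfsg.IsStronglyClosed ((H48.cj h A).subgroupOf M ⊓ (R : Subgroup ↥M)) (R : Subgroup ↥M) ∧
        A.subgroupOf M ≤ (H48.cj h A).subgroupOf M ⊓ (R : Subgroup ↥M) := by
  obtain ⟨R, hR⟩ := (S.isPGroup'.comap_subtype (K := M)).exists_le_sylow
  obtain ⟨h, hh⟩ := H52.Commuting.exists_cover S (R.isPGroup'.map M.subtype)
  refine ⟨h, R, ⟨inf_le_right, fun x hx g hg => ⟨mem_subgroupOf.2 ?_, hg⟩⟩, fun x hx =>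
    ⟨mem_subgroupOf.2 ?_, hR (mem_subgroupOf.2 (hA.1 (mem_subgroupOf.1 hx)))⟩⟩
  · refine H52.Commuting.mem_cj_of_mem_conjs hA ?_ (hh ⟨_, hg, rfl⟩)
    simpa using H52.Commuting.conj_mem_conjs
      (H52.Commuting.mem_conjs_of_mem_cj (mem_subgroupOf.1 hx.1)) (g : X)
  · exact H52.Commuting.mem_cj_of_mem_conjs hA
      (H52.Commuting.mem_conjs_self (mem_subgroupOf.1 hx))
      (hh ⟨x, hR (mem_subgroupOf.2 (hA.1 (mem_subgroupOf.1 hx))), rfl⟩)

/-! ### The centraliser of a subnormal perfect subgroup -/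

/-- If `A` meets the subnormal perfect subgroup `H` inside its centre, then `A ⊓ N(H)`
centralises `H`. -/
theorem inf_normalizer_le_centralizer {S : Sylow 2 X} {A : Subgroup X}
    (hA : Cfsg.IsStronglyClosed A (S : Subgroup X)) {H : Subgroup X} (hsn : H.IsSubnormal)
    (hperf : ⁅H, H⁆ = H) (hO : Cfsg.oddCore ↥H = ⊥) (hAH : A ⊓ H ≤ centralizer (H : Set X)) :
    A ⊓ normalizer (H : Set X) ≤ centralizer (H : Set X) := by
  classical
  set M := normalizer (H : Set X) with hM
  obtain ⟨h, R, hB, hAB⟩ := closed_inter hA M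
  set B := (H48.cj h A).subgroupOf M ⊓ (R : Subgroup ↥M)
  -- every conjugate of an element of `A` inside `H` centralises `H`
  have hconj : ∀ y ∈ H, y ∈ H52.Commuting.Conjs A → y ∈ centralizer (H : Set X) := by
    intro y hy hyA
    obtain ⟨P, hP⟩ := Cfsg.Agent.S0542.result 2 H hsn S
    have hy2 : IsPGroup 2 ↥(zpowers (⟨y, hy⟩ : ↥H)) :=
      ((H52.Commuting.isPGroup_zpowers_conjs hA.1 hyA).comap_subtype (K := H)).to_le
        (K := (zpowers y).subgroupOf H) (zpowers_le.2 (mem_subgroupOf.2 (mem_zpowers y)))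
    obtain ⟨Q, hQ⟩ := hy2.exists_le_sylow
    obtain ⟨l, hl⟩ := MulAction.exists_smul_eq (↥H) Q P
    have hlP : l * ⟨y, hy⟩ * l⁻¹ ∈ (P : Subgroup ↥H) := by
      rw [← hl]; exact ⟨_, hQ (mem_zpowers _), rfl⟩
    rw [hP, mem_subgroupOf] at hlP
    have hlA : (l : X) * y * (l : X)⁻¹ ∈ A := by
      have := H52.Commuting.mem_cj_of_mem_conjs hA (h := 1)
        (H52.Commuting.conj_mem_conjs hyA (l : X)) (by rw [H48.cj_one]; simpa using hlP)
      rwa [H48.cj_one] at this
    have hlc := hAH ⟨hlA, H.mul_mem (H.mul_mem l.2 hy) (H.inv_mem l.2)⟩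
    have hcl := mem_centralizer_iff.1 hlc l l.2
    rwa [show y = (l : X)⁻¹ * ((l : X) * y * (l : X)⁻¹) * l by group, mul_assoc, ← hcl,
      inv_mul_cancel_left]
  -- the quotient by the centre
  set Hm := H.subgroupOf M with hHm
  haveI : Hm.Normal := normal_subgroupOf_iff_le_normalizer le_normalizer |>.2 le_rfl
  set Z := Hm ⊓ centralizer (Hm : Set ↥M) with hZ
  set π := QuotientGroup.mk' Z
  have hπ : Function.Surjective π := QuotientGroup.mk'_surjective Z
  set Hq := Hm.map π
  haveI : Hq.Normal := (inferInstance : Hm.Normal).map π hπ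
  have hmem_cent : ∀ y : ↥M, (y : X) ∈ centralizer (H : Set X) → y ∈ centralizer (Hm : Set ↥M) :=
    fun y hy => mem_centralizer_iff.2 fun z hz =>
      Subtype.ext (mem_centralizer_iff.1 hy z (mem_subgroupOf.1 hz))
  have hdisj : B.map π ⊓ Hq = ⊥ := by
    rw [eq_bot_iff]
    rintro _ ⟨⟨b, hb, rfl⟩, ⟨k, hk, hkb⟩⟩
    have hz : b⁻¹ * k ∈ Z := QuotientGroup.eq.1 hkb.symm
    have hbH : b ∈ Hm := by
      have := Hm.mul_mem hk (Hm.inv_mem hz.1)
      simpa using this
    exact mem_bot.2 ((QuotientGroup.eq_one_iff b).2 ⟨hbH, hmem_cent b (hconj b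
      (mem_subgroupOf.1 hbH) (H52.Commuting.mem_conjs_of_mem_cj (mem_subgroupOf.1 hb.1)))⟩)
  have hOq : Cfsg.oddCore ↥Hq = ⊥ := by
    set f : ↥H →* ↥Hq := (π.comp (Subgroup.inclusion (le_normalizer (H := H)))).codRestrict Hq
      fun x => ⟨_, mem_subgroupOf.2 x.2, rfl⟩ with hf
    have hfs : Function.Surjective f := by
      rintro ⟨_, k, hk, rfl⟩
      exact ⟨⟨k, mem_subgroupOf.1 hk⟩, rfl⟩
    have hker : f.ker = center ↥H := by
      ext x
      rw [MonoidHom.mem_ker, Subtype.ext_iff]
      show (Subgroup.inclusion (le_normalizer (H := H)) x : ↥M ⧸ Z) = 1 ↔ _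
      rw [QuotientGroup.eq_one_iff, mem_center_iff]
      refine ⟨fun hx y => Subtype.ext ?_, fun hx => ⟨mem_subgroupOf.2 x.2,
        hmem_cent _ (mem_centralizer_iff.2 fun y hy => congrArg Subtype.val (hx ⟨y, hy⟩))⟩⟩
      have := congrArg (fun w : ↥M => (w : X))
        (mem_centralizer_iff.1 hx.2 ⟨y, le_normalizer y.2⟩ (mem_subgroupOf.2 y.2))
      simpa using this
    have hq := H46.HalfClasses.core_quotient hO f.ker hker.le
      (hker ▸ H46.HalfClasses.center_isPGroup hO)
    have := Cores.pPrimeCore_map_mulEquiv (p := 2)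
      (QuotientGroup.quotientKerEquivOfSurjective f hfs)
    rw [hq, Subgroup.map_bot] at this
    exact this.symm
  obtain hcl := Cfsg.Agent.S1251.result (R.mapSurjective hπ) (B.map π)
    (by rw [Sylow.coe_mapSurjective]; exact Cfsg.Agent.S1250.result R B hB Z) Hq
    (by rw [normalizer_eq_top]; exact le_top) hOq hdisj
  intro a ha
  have haB : (⟨a, ha.2⟩ : ↥M) ∈ B := hAB (mem_subgroupOf.2 ha.1)
  -- `[a, H]` is central, so trivial
  set Am := zpowers (⟨a, ha.2⟩ : ↥M)
  have h1 : ⁅Am, Hm⁆ ≤ Z := by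
    rw [commutator_le]
    intro x hx k hk
    rw [← QuotientGroup.eq_one_iff (N := Z)]
    show π ⁅x, k⁆ = 1
    rw [map_commutatorElement, commutatorElement_eq_one_iff_mul_comm]
    exact (mem_centralizer_iff.1 (hcl (mem_map_of_mem π ((zpowers_le.2 haB) hx))) (π k)
      (mem_map_of_mem π hk)).symm
  have hp : ⁅Hm, Hm⁆ = Hm := by
    apply map_injective M.subtype_injective
    rw [map_commutator, hHm, map_subgroupOf_eq_of_le le_normalizer, hperf]
  have h2 : ⁅Am, Hm⁆ = ⊥ := Components.commutator_eq_bot_of_perfect' hp (by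
    rw [commutator_eq_bot_iff_le_centralizer]
    exact fun x hx => (h1 hx).2)
  refine mem_centralizer_iff.2 fun y hy => ?_
  exact congrArg Subtype.val (Components.commute_of_commutator_eq_bot h2 (mem_zpowers _)
    (show (⟨y, le_normalizer hy⟩ : ↥M) ∈ Hm from mem_subgroupOf.2 hy)).symm

/-! ### The dichotomy for components -/

/-- A subnormal subgroup inherits the trivial odd core. -/
theorem oddCore_subnormal (hO : Cfsg.oddCore X = ⊥) {H : Subgroup X} (hH : H.IsSubnormal) :
    Cfsg.oddCore ↥H = ⊥ := by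
  rw [← map_eq_bot_iff_of_injective _ H.subtype_injective]
  exact le_bot_iff.1 ((Cores.map_pPrimeCore_le_of_isSubnormal hH).trans hO.le)

/-- **`A` normalises every component.** -/
theorem le_normalizer_component {S : Sylow 2 X} {A : Subgroup X}
    (hA : Cfsg.IsStronglyClosed A (S : Subgroup X)) (hab : IsMulCommutative ↥A)
    (hO : Cfsg.oddCore X = ⊥) {L : Subgroup X} (hL : Cfsg.IsComponent L) :
    A ≤ normalizer (L : Set X) := by
  classical
  have hc : ∀ a ∈ A, ∀ b ∈ A, a * b = b * a := fun a ha b hb =>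
    congrArg Subtype.val (mul_comm' (⟨a, ha⟩ : ↥A) ⟨b, hb⟩)
  intro a ha
  by_contra hn
  set P := fun b : ↥A => L.map (MulAut.conj (b : X)).toMonoidHom with hP
  set H := ⨆ b, P b with hH
  have hPc : ∀ b, Cfsg.IsComponent (P b) := fun b => Components.component_conj hL _
  have hLP : L = P 1 := by
    show L = L.map _
    ext x
    simp
  have hle : ∀ b, P b ≤ H := le_iSup P
  have hHE : H ≤ Cfsg.layer X := iSup_le fun b => Components.component_le_layer (hPc b)
  have hsn : H.IsSubnormal := by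
    refine Subgroup.IsSubnormal.step H (Cfsg.layer X) hHE (Subgroup.Normal.isSubnormal inferInstance)
      ((normal_subgroupOf_iff_le_normalizer hHE).2 fun g hg => ?_)
    exact iInf_normalizer_le_normalizer_iSup P
      (mem_iInf.2 fun b => Components.layer_le_normalizer_component (hPc b) hg)
  have hperf : ⁅H, H⁆ = H := le_antisymm (commutator_le_self _) (iSup_le fun b =>
    (Components.component_perfect (hPc b)).ge.trans (commutator_mono (hle b) (hle b)))
  have hAH : A ≤ normalizer (H : Set X) := by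
    have key : ∀ c ∈ A, ∀ x ∈ H, c * x * c⁻¹ ∈ H := by
      intro c hcA x hx
      have : H.map (MulAut.conj c).toMonoidHom ≤ H := by
        rw [hH, Subgroup.map_iSup]
        refine iSup_le fun b => le_trans (le_of_eq ?_) (hle ⟨c * b, mul_mem hcA b.2⟩)
        rw [hP, Subgroup.map_map]
        congr 1
        ext y
        simp [mul_assoc]
      exact this ⟨x, hx, rfl⟩
    intro c hcA
    rw [mem_normalizer_iff]
    refine fun x => ⟨key c hcA x, fun hx => ?_⟩
    have := key c⁻¹ (inv_mem hcA) _ hx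
    simpa [mul_assoc] using this
  by_cases hcase : A ⊓ H ≤ centralizer (H : Set X)
  · have hfix := inf_normalizer_le_centralizer hA hsn hperf (oddCore_subnormal hO hsn) hcase
      ⟨ha, hAH ha⟩
    exact hn (centralizer_le_normalizer _
      (centralizer_le (SetLike.coe_subset_coe.2 (hLP ▸ hle 1)) hfix))
  obtain ⟨x, ⟨hxA, hxH⟩, hxc⟩ := SetLike.not_le_iff_exists.1 hcase
  -- `x` moves some conjugate of `L`, so all of them, as `A` is abelian
  have hxL : x ∉ centralizer (L : Set X) := fun hxL => by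
    have hHx : H ≤ centralizer ({x} : Set X) := iSup_le fun b => by
      rintro _ ⟨l, hl, rfl⟩
      rw [mem_centralizer_singleton_iff]
      show (b : X) * l * (b : X)⁻¹ * x = x * ((b : X) * l * (b : X)⁻¹)
      have e1 := mem_centralizer_iff.1 hxL l hl
      have e2 : Commute x (b : X) := hc x hxA b b.2
      calc (b : X) * l * (b : X)⁻¹ * x = (b : X) * (l * x) * (b : X)⁻¹ := by
            rw [mul_assoc _ _ x, ← e2.inv_right.eq]; group
        _ = (b : X) * (x * l) * (b : X)⁻¹ := by rw [e1]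
        _ = x * ((b : X) * l * (b : X)⁻¹) := by rw [← mul_assoc, ← e2.eq]; group
    exact hxc (mem_centralizer_iff.2 fun y hy => mem_centralizer_singleton_iff.1 (hHx hy))
  have hne : L.map (MulAut.conj a).toMonoidHom ≠ L := fun e =>
    hn (Components.mem_normalizer_of_map_conj_eq e)
  have hALc : A ⊓ L ≤ centralizer (L : Set X) := by
    rintro w ⟨hwA, hwL⟩
    refine commutator_eq_bot_iff_le_centralizer.1
      (Components.components_commute (Components.component_conj hL a) hL hne) ⟨w, hwL, ?_⟩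
    show a * w * a⁻¹ = w
    rw [hc a ha w hwA, mul_inv_cancel_right]
  exact hxL (inf_normalizer_le_centralizer hA hL.1 (Components.component_perfect hL)
    (oddCore_subnormal hO hL.1) hALc ⟨hxA, Components.layer_le_normalizer_component hL (hHE hxH)⟩)

/-- **The dichotomy:** `A` centralises a component or meets it outside its centre. -/
theorem component_dichotomy {S : Sylow 2 X} {A : Subgroup X}
    (hA : Cfsg.IsStronglyClosed A (S : Subgroup X)) (hab : IsMulCommutative ↥A)
    (hO : Cfsg.oddCore X = ⊥) {L : Subgroup X} (hL : Cfsg.IsComponent L) :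
    A ≤ centralizer (L : Set X) ∨ ¬ A ⊓ L ≤ centralizer (L : Set X) := by
  refine or_iff_not_imp_right.2 fun h a ha => ?_
  exact inf_normalizer_le_centralizer hA hL.1 (Components.component_perfect hL)
    (oddCore_subnormal hO hL.1) (not_not.1 h) ⟨ha, le_normalizer_component hA hab hO hL ha⟩

/-- A met component gives a strongly closed abelian subgroup of its simple quotient. -/
theorem met_quotient {S : Sylow 2 X} {A : Subgroup X}
    (hA : Cfsg.IsStronglyClosed A (S : Subgroup X)) (hab : IsMulCommutative ↥A) {L : Subgroup X}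
    (hmet : ¬ A ⊓ L ≤ centralizer (L : Set X)) :
    ∃ (R : Sylow 2 (↥L ⧸ center ↥L)) (B : Subgroup (↥L ⧸ center ↥L)), B ≠ ⊥ ∧
      IsMulCommutative ↥B ∧ Cfsg.IsStronglyClosed B (R : Subgroup (↥L ⧸ center ↥L)) := by
  obtain ⟨h, R, hB, hAB⟩ := closed_inter hA L
  set π := QuotientGroup.mk' (center ↥L)
  set B := (H48.cj h A).subgroupOf L ⊓ (R : Subgroup ↥L)
  refine ⟨R.mapSurjective (QuotientGroup.mk'_surjective _), B.map π, fun e => hmet ?_, ?_, ?_⟩
  · rintro w ⟨hwA, hwL⟩
    have hmem : π ⟨w, hwL⟩ ∈ B.map π :=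
      mem_map_of_mem π (hAB (mem_subgroupOf.2 hwA : (⟨w, hwL⟩ : ↥L) ∈ A.subgroupOf L))
    rw [e, mem_bot] at hmem
    have hcen := (QuotientGroup.eq_one_iff _).1 hmem
    exact mem_centralizer_iff.2 fun y hy =>
      congrArg Subtype.val (mem_center_iff.1 hcen ⟨y, hy⟩)
  · refine ⟨⟨?_⟩⟩
    rintro ⟨_, u, hu, rfl⟩ ⟨_, v, hv, rfl⟩
    refine Subtype.ext ?_
    show π u * π v = π v * π u
    rw [← map_mul, ← map_mul]
    congr 1
    refine Subtype.ext ?_
    obtain ⟨u', hu', eu⟩ := mem_subgroupOf.1 hu.1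
    obtain ⟨v', hv', ev⟩ := mem_subgroupOf.1 hv.1
    have hcomm : u' * v' = v' * u' := congrArg Subtype.val (mul_comm' (⟨u', hu'⟩ : ↥A) ⟨v', hv'⟩)
    show (u : X) * v = v * u
    rw [← eu, ← ev, ← map_mul, ← map_mul, hcomm]
  · rw [Sylow.coe_mapSurjective]
    exact Cfsg.Agent.S1250.result R B hB (center ↥L)

end Cfsg.Agent.H48.WA
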