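import Cfsg.Agent.H77.WA.Defs
import Cfsg.Agent.H59.StrongClosure
import Cfsg.Agent.H39.Dihedral

/-!
# Strongly closed abelian 2-subgroups: reduction to a configuration

A minimal counterexample has an elementary strongly closed subgroup which is irreducible under its
normaliser; the steps exclude it.
-/

set_option autoImplicit false
set_option linter.style.haveILetI false

namespace Cfsg.Agent.H48.WA

open Subgroup Cfsg.Agent

universe u

local instance fact_two_red : Fact (Nat.Prime 2) := ⟨Nat.prime_two⟩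

/-- An elementary strongly closed subgroup, irreducible under its normaliser. -/
theorem exists_irreducible {G : Type u} [Group G] [Finite G] {S : Sylow 2 G} {A : Subgroup G}
    (hne : A ≠ ⊥) (hab : IsMulCommutative ↥A) (hA : Cfsg.IsStronglyClosed A (S : Subgroup G)) :
    ∃ C : Subgroup G, C ≠ ⊥ ∧ Cfsg.IsElementaryAbelian 2 C ∧
      Cfsg.IsStronglyClosed C (S : Subgroup G) ∧
      ∀ B : Subgroup G, B ≤ C → normalizer (C : Set G) ≤ normalizer (B : Set G) → B = ⊥ ∨ B = C := by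
  classical
  have hc : ∀ a ∈ A, ∀ b ∈ A, a * b = b * a := fun a ha b hb =>
    congrArg Subtype.val (mul_comm' (⟨a, ha⟩ : ↥A) ⟨b, hb⟩)
  set W : Subgroup G :=
    { carrier := {x | x ∈ A ∧ x * x = 1}
      one_mem' := ⟨one_mem _, one_mul 1⟩
      mul_mem' := fun {x y} hx hy => ⟨mul_mem hx.1 hy.1, by
        rw [show x * y * (x * y) = x * (y * x) * y by group, hc y hy.1 x hx.1,
          show x * (x * y) * y = x * x * (y * y) by group, hx.2, hy.2, one_mul]⟩
      inv_mem' := fun {x} hx => ⟨inv_mem hx.1, by rw [← mul_inv_rev, hx.2, inv_one]⟩ } with hW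
  have hmemW : ∀ {x : G}, x ∈ W ↔ x ∈ A ∧ x * x = 1 := fun {x} => Iff.rfl
  have hWA : W ≤ A := fun x hx => (hmemW.1 hx).1
  have hWne : W ≠ ⊥ := fun e => by
    have hp : IsPGroup 2 ↥A := S.isPGroup'.to_le hA.1
    haveI : Nontrivial ↥A := (nontrivial_iff_ne_bot _).2 hne
    obtain ⟨n, hn, hcard⟩ := hp.nontrivial_iff_card.1 inferInstance
    obtain ⟨x, hx⟩ := exists_prime_orderOf_dvd_card' (G := ↥A) 2 (hcard ▸ dvd_pow_self 2 hn.ne')
    have hx2 : orderOf (x : G) = 2 := by rw [Subgroup.orderOf_coe, hx]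
    have hxW : (x : G) ∈ W := hmemW.2 ⟨x.2, H39.mul_self_of_orderOf_eq_two hx2⟩
    rw [e, mem_bot] at hxW
    exact H39.ne_one_of_orderOf_eq_two hx2 hxW
  have hWab : IsMulCommutative ↥W :=
    ⟨⟨fun x y => Subtype.ext (hc x (hWA x.2) y (hWA y.2))⟩⟩
  have hWcl : Cfsg.IsStronglyClosed W (S : Subgroup G) :=
    ⟨hWA.trans hA.1, fun x hx g hg => hmemW.2 ⟨hA.2 x (hWA hx) g hg, by
      rw [show g * x * g⁻¹ * (g * x * g⁻¹) = g * (x * x) * g⁻¹ by group, (hmemW.1 hx).2, mul_one,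
        mul_inv_cancel]⟩⟩
  have hex : ∃ k, ∃ C : Subgroup G, C ≤ W ∧ C ≠ ⊥ ∧
      normalizer (W : Set G) ≤ normalizer (C : Set G) ∧ Nat.card C = k :=
    ⟨_, W, le_rfl, hWne, le_rfl, rfl⟩
  obtain ⟨C, hCW, hCne, hCn, hCcard⟩ := Nat.find_spec hex
  obtain ⟨T, hWT, hT⟩ := H59.controlsStrongFusion_of_stronglyClosed S W hWab hWcl
  refine ⟨C, hCne, ⟨⟨⟨fun x y => Subtype.ext (hc x (hWA (hCW x.2)) y (hWA (hCW y.2)))⟩⟩,
    fun x hx => by rw [pow_two]; exact (hmemW.1 (hCW hx)).2⟩,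
    ⟨hCW.trans hWcl.1, fun x hx g hg => ?_⟩, fun B hB hBn => ?_⟩
  · obtain ⟨n, hn, e⟩ := (hT {x} (Set.singleton_subset_iff.2 (hWT (hCW hx)))).2 g (by
      rintro _ ⟨y, rfl, rfl⟩; exact hWT (hWcl.2 _ (hCW hx) g hg))
    rw [e x rfl]
    exact (mem_normalizer_iff.1 (hCn hn) x).1 hx
  · by_cases hB1 : B = ⊥
    · exact Or.inl hB1
    refine Or.inr (Subgroup.eq_of_le_of_card_ge hB ?_)
    rw [hCcard]
    exact Nat.find_min' hex ⟨B, hB.trans hCW, hB1, hCn.trans hBn, rfl⟩

/-- The statement of S1169. -/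
def GoldschmidtStatement : Prop :=
  ∀ (G : Type u) [Group G] [Finite G] [IsSimpleGroup G] (S : Sylow 2 G) (A : Subgroup G),
    A ≠ ⊥ → IsMulCommutative A → Cfsg.IsStronglyClosed A (S : Subgroup G) →
      IsMulCommutative (S : Subgroup G) ∨ ∃ H : Subgroup G, Cfsg.IsStronglyEmbedded H

/-- No configuration exists. -/
theorem false_of_cfg (htw : H77.WA.TwistStep.{u}) (htop : H77.WA.TopStep.{u})
    (hmany : H77.WA.ManyBlocksStep.{u}) (hsmall : H77.WA.SmallTopStep.{u})
    (hno : H77.WA.NoMetStep.{u}) (htwo : H77.WA.RankTwoStep.{u}) {G : Type u} [Group G] [Finite G]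
    {S : Sylow 2 G} {A : Subgroup G} (h : H77.WA.Cfg S A) : False := by
  by_cases h4 : Nat.card A ≤ 4
  · exact htwo G S A h h4
  obtain ⟨k, hk⟩ := IsPGroup.iff_card.1 (S.isPGroup'.to_le h.closed.1)
  have h8 : 8 ≤ Nat.card A := by
    rw [hk] at h4 ⊢
    have hk3 : 3 ≤ k := by
      by_contra hlt
      have := Nat.pow_le_pow_right (show 1 ≤ 2 by norm_num) (show k ≤ 2 by omega)
      omega
    exact Nat.pow_le_pow_right (show 1 ≤ 2 by norm_num) hk3
  by_cases hmet : ∃ b L, b ∈ A ∧ b ≠ 1 ∧ H77.WA.CMet A b L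
  · have hcl := htw G S A h
    rcases htop G S A h hcl hmet with ⟨Ps, hPs⟩ | hs
    · exact hmany G S A Ps h hcl hPs
    · exact hsmall G S A h hcl hs
  · exact hno G S A h h8 fun b hb hb1 L hL => hmet ⟨b, L, hb, hb1, hL⟩

/-- **Goldschmidt's theorem from the steps.** -/
theorem goldschmidt_of_steps (htw : H77.WA.TwistStep.{u}) (htop : H77.WA.TopStep.{u})
    (hmany : H77.WA.ManyBlocksStep.{u}) (hsmall : H77.WA.SmallTopStep.{u})
    (hno : H77.WA.NoMetStep.{u}) (htwo : H77.WA.RankTwoStep.{u}) :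
    GoldschmidtStatement.{u} := by
  have key : ∀ n, H77.WA.Small.{u} n := by
    intro n
    induction n with
    | zero => intro X _ _ hX; exact absurd hX (Nat.not_lt_zero _)
    | succ n ih =>
      intro X _ _ hX hs hna R B hB hBc hcl
      by_contra hcon
      obtain ⟨C, hC, hCe, hCcl, hCirr⟩ := exists_irreducible hB hBc hcl
      refine false_of_cfg htw htop hmany hsmall hno htwo (S := R) (A := C)
        ⟨hs, hna, hCe, hC, hCcl, hCirr, fun hR => hcon (Or.inl (H10.Walter.absyl_of_sylow R hR)),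
          fun hSE => hcon (Or.inr hSE), ?_⟩
      intro Y _ _ hY
      exact ih Y (lt_of_lt_of_le hY (Nat.lt_succ_iff.1 hX))
  intro G _ _ _ S A hA hab hcl
  by_cases hna : IsMulCommutative G
  · exact Or.inl ⟨⟨fun x y => Subtype.ext (hna.is_comm.comm (x : G) (y : G))⟩⟩
  · exact (key (Nat.card G + 1) G (Nat.lt_succ_self _) inferInstance hna S A hA hab hcl).imp_left
      fun h => h S

end Cfsg.Agent.H48.WA
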