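import Cfsg.Agent.H48.WA.Rigid
import Cfsg.Agent.H77.WA.Defs
import Cfsg.Agent.H88.Walter.Conj
import Cfsg.Agent.Components.CyclicSylow

/-!
# The structure facts for strongly closed abelian 2-subgroups

The structure of a core-free group with a strongly closed elementary abelian 2-subgroup, of the
centralisers of involutions modulo their cores, and the action of `N(A)` on the met components.
-/

set_option autoImplicit false
set_option linter.style.haveILetI false
set_option linter.unusedSectionVars false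

namespace Cfsg.Agent.H48.WA

open Subgroup Cfsg.Agent
open scoped Pointwise

universe u

local instance fact_two_st : Fact (Nat.Prime 2) := ⟨Nat.prime_two⟩

/-- The two forms of Bender's list. -/
theorem isBenderGroup_of_list {G : Type u} [Group G]
    (h : H76.PostBender.IsBenderGroup G) : Cfsg.IsBenderGroup G := by
  rcases h with hl | hs | ⟨F, iF, iT, q, hF, hq, h4, he⟩
  · exact Or.inl hl
  · exact Or.inr (Or.inr hs)
  · haveI := H76.PostBender.charP_two_of_card hF hq
    obtain ⟨k, -, hk⟩ := FiniteField.card F 2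
    obtain ⟨n, -, rfl⟩ := (Nat.dvd_prime_pow Nat.prime_two).1
      (show q ∣ 2 ^ (k : ℕ) from hk ▸ hF ▸ dvd_pow_self q two_ne_zero)
    refine Or.inr (Or.inl ⟨F, iF, iT, n, ?_, hF, he⟩)
    by_contra hlt
    have := Nat.pow_le_pow_right (show 1 ≤ 2 by norm_num) (Nat.lt_succ_iff.1 (not_le.1 hlt))
    omega

/-- The conclusion gives one of the two types. -/
theorem type_of_concl {Y : Type u} [Group Y] [Finite Y] (hs : IsSimpleGroup Y)
    (hna : ¬ IsMulCommutative Y) (h : Concl Y) : H77.WA.AType Y ∨ H77.WA.NType Y := by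
  by_cases hab : H10.Walter.AbSyl Y
  · exact Or.inl ⟨hs, hna, hab, H10.Walter.walterHyp Y hs hna hab⟩
  · obtain ⟨H, hH⟩ := h.resolve_left hab
    haveI := hs
    refine Or.inr ⟨hs, hna, isBenderGroup_of_list (Bridge.bender Y ?_ H hH), hab⟩
    by_contra hne
    push Not at hne
    exact hna ⟨⟨hne⟩⟩

variable {X : Type u} [Group X] [Finite X] {S : Sylow 2 X} {A : Subgroup X}

theorem met_iff (hA : Cfsg.IsStronglyClosed A (S : Subgroup X)) (hab : IsMulCommutative ↥A)
    (hO : Cfsg.oddCore X = ⊥) {L : Subgroup X} : H77.WA.Met A L ↔ IsMet A L :=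
  ⟨fun h => ⟨h.1, (component_dichotomy hA hab hO h.1).resolve_left h.2⟩,
    fun h => ⟨h.1, fun hle => h.2 (inf_le_left.trans hle)⟩⟩

/-- A met component: its involutions modulo the centre come from `A`. -/
theorem sq_mem_center_iff (hA : Cfsg.IsStronglyClosed A (S : Subgroup X))
    (hsq : ∀ a ∈ A, a * a = 1) (hO : Cfsg.oddCore X = ⊥) {L : Subgroup X} (hL : IsMet A L)
    (hR : Rigid (↥L ⧸ center ↥L)) (T : Sylow 2 ↥L)
    (hT : A.subgroupOf L ≤ (T : Subgroup ↥L)) {t : ↥L} (ht : t ∈ (T : Subgroup ↥L)) :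
    t * t ∈ center ↥L ↔ t ∈ A.subgroupOf L ⊔ center ↥L := by
  constructor
  swap
  · intro h
    rw [← SetLike.mem_coe, Subgroup.mul_normal] at h
    obtain ⟨a, ha, c, hc, rfl⟩ := h
    rw [show a * c * (a * c) = a * (c * a) * c by group, ← mem_center_iff.1 hc a,
      show a * (a * c) * c = a * a * (c * c) by group,
      show a * a = 1 from Subtype.ext (hsq _ (mem_subgroupOf.1 ha)), one_mul]
    exact mul_mem hc hc
  intro htt
  obtain ⟨P, hP⟩ := Cfsg.Agent.S0542.result 2 L hL.1.1 S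
  obtain ⟨l, hl⟩ := MulAction.exists_smul_eq (↥L) T P
  have hlP : ∀ y ∈ (T : Subgroup ↥L), l * y * l⁻¹ ∈ (P : Subgroup ↥L) := fun y hy => by
    rw [← hl]; exact ⟨_, hy, rfl⟩
  have hPS : ∀ {y : ↥L}, y ∈ (P : Subgroup ↥L) → (y : X) ∈ (S : Subgroup X) := fun {y} hy => by
    rw [hP, mem_subgroupOf] at hy; exact hy
  have hlN : l ∈ normalizer ((A.subgroupOf L : Subgroup ↥L) : Set ↥L) :=
    H39.mem_normalizer_of_conj_mem fun y hy => mem_subgroupOf.2
      (hA.2 y (mem_subgroupOf.1 hy) l (hPS (hlP y (hT hy))))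
  -- the centre is in every Sylow subgroup
  have hZP : center ↥L ≤ (P : Subgroup ↥L) := fun c hc => by
    obtain ⟨Q, hQ⟩ := (H46.HalfClasses.center_isPGroup (oddCore_subnormal hO hL.1.1)).exists_le_sylow
    obtain ⟨g, hg⟩ := MulAction.exists_smul_eq (↥L) Q P
    rw [← hg]
    refine ⟨c, hQ hc, ?_⟩
    show g * c * g⁻¹ = c
    rw [mem_center_iff.1 hc g, mul_inv_cancel_right]
  set s := l * t * l⁻¹ with hsdef
  suffices h : s ∈ A.subgroupOf L ⊔ center ↥L by
    rw [← SetLike.mem_coe, Subgroup.mul_normal] at h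
    obtain ⟨a, ha, c, hc, e⟩ := h
    have e' : t = l⁻¹ * a * l * c := by
      calc t = l⁻¹ * s * l := by rw [hsdef]; group
        _ = l⁻¹ * (a * c) * l := by rw [← e]
        _ = l⁻¹ * a * c * l := by group
        _ = l⁻¹ * a * (l * c) := by rw [mul_assoc (l⁻¹ * a), ← mem_center_iff.1 hc l]
        _ = l⁻¹ * a * l * c := by group
    rw [e']
    refine mul_mem (mem_sup_left ?_) (mem_sup_right hc)
    have h2 := (mem_normalizer_iff.1 (inv_mem hlN) a).1 ha
    rwa [inv_inv] at h2
  have hss : s * s ∈ center ↥L := by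
    rw [show s * s = l * (t * t) * l⁻¹ by rw [hsdef]; group, mem_center_iff.1 htt l,
      mul_inv_cancel_right]
    exact htt
  by_cases hsZ : s ∈ center ↥L
  · exact mem_sup_right hsZ
  -- a non-central element of `A ⊓ L`
  obtain ⟨z, hz, hzc⟩ := SetLike.not_le_iff_exists.1 hL.2
  set π := QuotientGroup.mk' (center ↥L)
  have hπ : Function.Surjective π := QuotientGroup.mk'_surjective _
  set zL : ↥L := ⟨z, hz.2⟩
  have hzP : zL ∈ (P : Subgroup ↥L) := by rw [hP, mem_subgroupOf]; exact hA.1 hz.1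
  have hz1 : π zL ≠ 1 := fun e => hzc (mem_centralizer_iff.2 fun y hy =>
    congrArg Subtype.val (mem_center_iff.1 ((QuotientGroup.eq_one_iff _).1 e) ⟨y, hy⟩))
  obtain ⟨gq, -, hgq⟩ := hR.conj (P.mapSurjective hπ) (π zL)
    (by rw [Sylow.coe_mapSurjective]; exact mem_map_of_mem π hzP) (π s)
    (by rw [Sylow.coe_mapSurjective]; exact mem_map_of_mem π (hlP t ht))
    (H39.orderOf_eq_two_of_mul_self (by
      rw [← map_mul, show zL * zL = 1 from Subtype.ext (hsq z hz.1), map_one]) hz1)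
    (H39.orderOf_eq_two_of_mul_self (by
      rw [← map_mul]; exact (QuotientGroup.eq_one_iff _).2 hss)
      fun e => hsZ ((QuotientGroup.eq_one_iff _).1 e))
  obtain ⟨g, rfl⟩ := hπ gq
  rw [← map_inv, ← map_mul, ← map_mul] at hgq
  have hc : (g * zL * g⁻¹)⁻¹ * s ∈ center ↥L := QuotientGroup.eq.1 hgq
  have hgP : g * zL * g⁻¹ ∈ (P : Subgroup ↥L) := by
    rw [show g * zL * g⁻¹ = s * ((g * zL * g⁻¹)⁻¹ * s)⁻¹ by group]
    exact mul_mem (hlP t ht) (hZP (inv_mem hc))
  rw [← mul_inv_cancel_left (g * zL * g⁻¹) s]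
  exact mul_mem (mem_sup_left (mem_subgroupOf.2 (hA.2 z hz.1 g (hPS hgP)))) (mem_sup_right hc)

/-- A met component with abelian Sylow 2-subgroups modulo its centre is simple. -/
theorem center_eq_bot_of_abSyl (hA : Cfsg.IsStronglyClosed A (S : Subgroup X))
    (hab : IsMulCommutative ↥A) (hsq : ∀ a ∈ A, a * a = 1) (hO : Cfsg.oddCore X = ⊥)
    {L : Subgroup X} (hL : IsMet A L) (hR : Rigid (↥L ⧸ center ↥L))
    (habs : H10.Walter.AbSyl (↥L ⧸ center ↥L)) : center ↥L = ⊥ := by
  haveI : Group.IsPerfect ↥L := hL.1.2.1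
  have hna := Components.qs_quotient_not_comm hL.1.2
  have hp2 := H46.HalfClasses.center_isPGroup (oddCore_subnormal hO hL.1.1)
  obtain ⟨P, hP⟩ := Cfsg.Agent.S0542.result 2 L hL.1.1 S
  have hAP : A.subgroupOf L ≤ (P : Subgroup ↥L) := fun x hx => by
    rw [hP, mem_subgroupOf]; exact hA.1 (mem_subgroupOf.1 hx)
  set π := QuotientGroup.mk' (center ↥L)
  have hπ : Function.Surjective π := QuotientGroup.mk'_surjective _
  have hsq2 := (H50.Walter.shapeData _ hL.1.2.2 hna habs
    (H10.Walter.walterHyp _ hL.1.2.2 hna habs) (P.mapSurjective hπ)).sq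
  have hPc : ∀ x ∈ (P : Subgroup ↥L), ∀ y ∈ (P : Subgroup ↥L), x * y = y * x := by
    have hmem : ∀ x ∈ (P : Subgroup ↥L), ∃ a ∈ A.subgroupOf L, ∃ c ∈ center ↥L, a * c = x := by
      intro x hx
      have h := (sq_mem_center_iff hA hsq hO hL hR P hAP hx).1 ((QuotientGroup.eq_one_iff _).1
        (by
          show π (x * x) = 1
          rw [map_mul]
          exact hsq2 _ (by rw [Sylow.coe_mapSurjective]; exact mem_map_of_mem π hx)))
      rw [← SetLike.mem_coe, Subgroup.mul_normal] at h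
      obtain ⟨a, ha, c, hc, e⟩ := h
      exact ⟨a, ha, c, hc, e⟩
    intro x hx y hy
    obtain ⟨a, ha, c, hc, rfl⟩ := hmem x hx
    obtain ⟨b, hb, d, hd, rfl⟩ := hmem y hy
    have e1 : a * b = b * a := Subtype.ext (show (a : X) * b = b * a from congrArg Subtype.val
      (mul_comm' (⟨_, mem_subgroupOf.1 ha⟩ : ↥A) ⟨_, mem_subgroupOf.1 hb⟩))
    have hcc := mem_center_iff.1 hc
    have hdd := mem_center_iff.1 hd
    calc a * c * (b * d) = a * (c * b) * d := by group
      _ = a * (b * c) * d := by rw [hcc b]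
      _ = a * b * (c * d) := by group
      _ = b * a * (d * c) := by rw [e1, hdd c]
      _ = b * (a * d) * c := by group
      _ = b * (d * a) * c := by rw [hdd a]
      _ = b * d * (a * c) := by group
  haveI : IsMulCommutative ↥(P : Subgroup ↥L) :=
    ⟨⟨fun x y => Subtype.ext (hPc x x.2 y y.2)⟩⟩
  rw [eq_bot_iff]
  intro c hc
  by_contra hc1
  obtain ⟨u, hu, hu2, -⟩ := exists_central_invol hp2 fun e => hc1 (e ▸ hc)
  exact H39.ne_one_of_orderOf_eq_two hu2
    (Components.eq_one_of_perfect_center P hu (hu2 ▸ pow_orderOf_eq_one u))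

/-- `A` induces at least a four-group on a met component. -/
theorem four_le_index (hA : Cfsg.IsStronglyClosed A (S : Subgroup X))
    (hab : IsMulCommutative ↥A) (hsq : ∀ a ∈ A, a * a = 1) (hO : Cfsg.oddCore X = ⊥)
    {L : Subgroup X} (hL : IsMet A L) (hR : Rigid (↥L ⧸ center ↥L)) :
    4 * Nat.card ↥(A ⊓ centralizer (L : Set X)) ≤ Nat.card A := by
  set C := A ⊓ centralizer (L : Set X) with hC
  have hCA : C ≤ A := inf_le_left
  by_contra hlt
  have hidx := (C.subgroupOf A).card_mul_index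
  rw [Nat.card_congr (subgroupOfEquivOfLe hCA).toEquiv] at hidx
  have h3 : (C.subgroupOf A).index < 4 := by
    by_contra hge
    push Not at hge
    exact hlt (hidx ▸ (mul_comm 4 _).trans_le (Nat.mul_le_mul le_rfl hge))
  have hAp : IsPGroup 2 ↥A := fun a => ⟨1, Subtype.ext (by
    rw [pow_one, SubmonoidClass.coe_pow, pow_two]; exact hsq a a.2)⟩
  obtain ⟨k, hk⟩ := hAp.index (C.subgroupOf A)
  have hk1 : k ≤ 1 := by
    by_contra hk1
    push Not at hk1
    have := Nat.pow_le_pow_right (show 1 ≤ 2 by norm_num) hk1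
    omega
  obtain ⟨z, hz, hzc⟩ := SetLike.not_le_iff_exists.1 hL.2
  have hkey : ∀ a ∈ A, a ∉ C → z⁻¹ * a ∈ C := by
    intro a ha haC
    have hzC : z ∉ C := fun h => hzc h.2
    interval_cases k
    · exfalso
      refine haC (mem_subgroupOf.1 ((index_eq_one.1 (hk.trans (pow_zero 2))).symm ▸
        mem_top (⟨a, ha⟩ : ↥A)))
    · have h := (mul_mem_iff_of_index_two (hk.trans (pow_one 2))
        (a := (⟨z, hz.1⟩ : ↥A)⁻¹) (b := ⟨a, ha⟩)).2
      refine mem_subgroupOf.1 (h ?_)
      rw [inv_mem_iff]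
      exact iff_of_false (fun e => hzC (mem_subgroupOf.1 e)) (fun e => haC (mem_subgroupOf.1 e))
  haveI := hL.1.2.2
  have hna := Components.qs_quotient_not_comm hL.1.2
  obtain ⟨P, hP⟩ := Cfsg.Agent.S0542.result 2 L hL.1.1 S
  have hAP : A.subgroupOf L ≤ (P : Subgroup ↥L) := fun x hx => by
    rw [hP, mem_subgroupOf]; exact hA.1 (mem_subgroupOf.1 hx)
  set π := QuotientGroup.mk' (center ↥L)
  have hπ : Function.Surjective π := QuotientGroup.mk'_surjective _
  set zL : ↥L := ⟨z, hz.2⟩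
  have hcen : ∀ x : ↥L, (x : X) ∈ centralizer (L : Set X) → x ∈ center ↥L := fun x hx =>
    mem_center_iff.2 fun y => Subtype.ext (mem_centralizer_iff.1 hx y y.2)
  have hz1 : π zL ≠ 1 := fun e => hzc (mem_centralizer_iff.2 fun y hy =>
    congrArg Subtype.val (mem_center_iff.1 ((QuotientGroup.eq_one_iff _).1 e) ⟨y, hy⟩))
  have hz2 : π zL * π zL = 1 := by
    rw [← map_mul, show zL * zL = 1 from Subtype.ext (hsq z hz.1), map_one]
  have ho := H39.orderOf_eq_two_of_mul_self hz2 hz1
  have huniq : ∀ y ∈ (P.mapSurjective hπ : Subgroup (↥L ⧸ center ↥L)), y * y = 1 → y ≠ 1 →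
      y = π zL := by
    intro y hy hy2 hy1
    rw [Sylow.coe_mapSurjective] at hy
    obtain ⟨t, ht, rfl⟩ := hy
    have htt : t * t ∈ center ↥L := (QuotientGroup.eq_one_iff _).1 (by rw [← map_mul] at hy2; exact hy2)
    have h := (sq_mem_center_iff hA hsq hO hL hR P hAP ht).1 htt
    rw [← SetLike.mem_coe, Subgroup.mul_normal] at h
    obtain ⟨a, ha, c, hc, rfl⟩ := h
    have e1 : π (a * c) = π a := by
      rw [map_mul, show π c = 1 from (QuotientGroup.eq_one_iff _).2 hc, mul_one]
    rw [e1] at hy1 ⊢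
    have haC : (a : X) ∉ C := fun h' => hy1 ((QuotientGroup.eq_one_iff _).2 (hcen a h'.2))
    exact (QuotientGroup.eq.2 (hcen (zL⁻¹ * a) (hkey _ (mem_subgroupOf.1 ha) haC).2)).symm
  have hmem : π zL ∈ (P.mapSurjective hπ : Subgroup (↥L ⧸ center ↥L)) := by
    rw [Sylow.coe_mapSurjective]
    exact mem_map_of_mem π (hAP (mem_subgroupOf.2 hz.1))
  have hcentral := Cores.glaubermanZStar (P.mapSurjective hπ) ho hmem fun g hg =>
    huniq _ hg (by
      rw [show g * π zL * g⁻¹ * (g * π zL * g⁻¹) = g * (π zL * π zL) * g⁻¹ by group, hz2, mul_one,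
        mul_inv_cancel]) fun e => hz1 (by simpa using e)
  haveI : (Cfsg.oddCore (↥L ⧸ center ↥L)).Characteristic := Cores.pPrimeCore_characteristic
  rcases (inferInstance : (Cfsg.oddCore (↥L ⧸ center ↥L)).Normal).eq_bot_or_eq_top with e | e
  · have hcz : π zL ∈ center (↥L ⧸ center ↥L) := mem_center_iff.2 fun g => by
      have h := hcentral g
      rw [e, mem_bot, mul_inv_eq_one, mul_inv_eq_iff_eq_mul] at h
      exact h.symm
    rcases (inferInstance : (center (↥L ⧸ center ↥L)).Normal).eq_bot_or_eq_top with e' | e'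
    · rw [e', mem_bot] at hcz; exact hz1 hcz
    · exact hna ⟨⟨fun a b => mem_center_iff.1 (e' ▸ mem_top b) a⟩⟩
  · have h1 : Odd (Nat.card (↥L ⧸ center ↥L)) := by
      rw [← card_top (G := ↥L ⧸ center ↥L), ← e]; exact Cores.odd_card_oddCore
    exact (Nat.not_even_iff_odd.2 h1) (even_iff_two_dvd.2 (ho ▸ orderOf_dvd_natCard (π zL)))

/-- **The structure facts.** -/
theorem structFacts : H77.WA.StructFacts.{u} := by
  intro X _ _ S A hO hel hA hsmall
  have hab : IsMulCommutative ↥A := hel.1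
  have hsq : ∀ a ∈ A, a * a = 1 := fun a ha => by rw [← pow_two]; exact hel.2 a ha
  have hsm : Small.{u} (Nat.card X + 1) := fun Y _ _ h1 h2 h3 R B h4 h5 h6 =>
    hsmall Y h1 h2 h3 R B h4 h5 h6
  have hm : ∀ {L}, H77.WA.Met A L ↔ IsMet A L := fun {L} => met_iff hA hab hO
  have hR : ∀ L, IsMet A L → Rigid (↥L ⧸ center ↥L) := fun L hL =>
    component_rigid hsm (Nat.lt_succ_self _) hA hab hL
  have hcentral : ∀ L, IsMet A L → L ≤ centralizer (Cfsg.pCore 2 X : Set X) := fun L hL => by
    have h := commutator_eq_bot_iff_le_centralizer.1 (Components.component_commutator_fitting hL.1)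
    rwa [fitting_eq_pCore_two hO] at h
  refine ⟨fun L hL => le_normalizer_component hA hab hO hL, fun L hL => ?_,
    fun L hL habs => center_eq_bot_of_abSyl hA hab hsq hO (hm.1 hL) (hR L (hm.1 hL)) habs,
    fun L hL T hT t ht => sq_mem_center_iff hA hsq hO (hm.1 hL) (hR L (hm.1 hL)) T hT ht,
    fun L hL => le_inf_sup_centralizer hA hab hsq hO hL.1 (hm.1 hL).2 (hR L (hm.1 hL)),
    fun L hL => four_le_index hA hab hsq hO (hm.1 hL) (hR L (hm.1 hL)),
    fun L hL x => hm.2 (isMet_conj hA (hm.1 hL) x), ?_, ?_, inf_pCore_normal hA⟩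
  · exact type_of_concl hL.1.2.2 (Components.qs_quotient_not_comm hL.1.2)
      (component_concl hsm (Nat.lt_succ_self _) hA hab hL.1 (hm.1 hL).2)
  · have e : A ⊔ ⨆ L : {L : Subgroup X // H77.WA.Met A L}, (L : Subgroup X) =
        normalClosure (A : Set X) := by
      refine le_antisymm (sup_le le_normalClosure (iSup_le fun L => ?_)) ?_
      · rw [normalClosure_eq hA hab hsq hO hR]
        exact le_sup_of_le_right (le_sSup (show L.1 ∈ {L | IsMet A L} from hm.1 L.2))
      · rw [normalClosure_eq hA hab hsq hO hR]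
        exact sup_le_sup inf_le_left (sSup_le fun L hL => le_iSup
          (fun L : {L : Subgroup X // H77.WA.Met A L} => (L : Subgroup X)) ⟨L, hm.2 hL⟩)
    rw [e]
    exact normalClosure_normal
  · refine le_antisymm (le_inf inf_le_left (le_iInf fun L => ?_)) fun a ha => ?_
    · exact inf_le_right.trans (le_centralizer_iff.1 (hcentral _ (hm.1 L.2)))
    · refine ⟨ha.1, mem_pCore_of_centralizer_layer hA hab hsq hO ha.1 ?_⟩
      have hle : Cfsg.layer X ≤ centralizer ({a} : Set X) := Components.layer_le_iff.2 fun L hL => by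
        have hcL : a ∈ centralizer (L : Set X) := by
          rcases component_dichotomy hA hab hO hL with h | h
          · exact h ha.1
          · exact (mem_iInf.1 ha.2) ⟨L, hm.2 ⟨hL, h⟩⟩
        exact fun z hz => mem_centralizer_singleton_iff.2 (mem_centralizer_iff.1 hcL z hz)
      exact mem_centralizer_iff.2 fun z hz => mem_centralizer_singleton_iff.1 (hle hz)

/-- **The structure of `C(x)` modulo its core.** -/
theorem barStruct : H77.WA.BarStruct.{u} := by
  intro G _ _ S A h x hxA hx2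
  set M := centralizer ({x} : Set G) with hM
  have hAM : A ≤ M := fun a ha =>
    mem_centralizer_singleton_iff.2 (mem_centralizer_iff.1 hxA a ha)
  have hAp : IsPGroup 2 ↥A := S.isPGroup'.to_le h.closed.1
  obtain ⟨R, hR⟩ := (hAp.comap_subtype (K := M)).exists_le_sylow
  obtain ⟨Q, hQ⟩ := (R.isPGroup'.map M.subtype).exists_le_sylow
  obtain ⟨g, hg⟩ := MulAction.exists_smul_eq G Q S
  have hgS : ∀ y ∈ (Q : Subgroup G), g * y * g⁻¹ ∈ (S : Subgroup G) := fun y hy => by
    rw [← hg]; exact ⟨y, hy, rfl⟩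
  have hgN : g ∈ normalizer (A : Set G) := H39.mem_normalizer_of_conj_mem fun a ha =>
    h.closed.2 a ha g (hgS a (hQ ⟨⟨a, hAM ha⟩, hR ha, rfl⟩))
  have hclM : Cfsg.IsStronglyClosed (A.subgroupOf M) (R : Subgroup ↥M) := by
    refine ⟨hR, fun a ha m hm => mem_subgroupOf.2 ?_⟩
    have h1 := h.closed.2 a (mem_subgroupOf.1 ha) (g * m) (by
      have h2 := hgS _ (hQ ⟨_, hm, rfl⟩)
      simpa [mul_assoc] using h2)
    have h3 := (mem_normalizer_iff.1 hgN ((m : G) * a * (m : G)⁻¹)).2 (by
      simpa [mul_assoc] using h1)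
    simpa using h3
  set N := Cfsg.pPrimeCore 2 ↥M
  set π := H21.Walter.coreProj x
  refine structFacts (H88.Walter.Bb x) (R.mapSurjective (H88.Walter.coreProj_surjective x))
    (H21.Walter.coreImage x A) (H10.Walter.oddCore_bar _) ⟨?_, ?_⟩ ?_ ?_
  · refine ⟨⟨?_⟩⟩
    rintro ⟨_, u, hu, rfl⟩ ⟨_, v, hv, rfl⟩
    refine Subtype.ext ?_
    show π u * π v = π v * π u
    rw [← map_mul, ← map_mul, show u * v = v * u from Subtype.ext (show (u : G) * v = v * u from congrArg Subtype.val
      (h.elem.1.is_comm.comm (⟨_, mem_subgroupOf.1 hu⟩ : ↥A) ⟨_, mem_subgroupOf.1 hv⟩))]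
  · rintro _ ⟨u, hu, rfl⟩
    rw [← map_pow, show u ^ 2 = 1 from Subtype.ext (h.elem.2 _ (mem_subgroupOf.1 hu)), map_one]
  · rw [Sylow.coe_mapSurjective]
    exact Cfsg.Agent.S1250.result R _ hclM N
  · have hne : M ≠ ⊤ := fun e => by
      have hxc : x ∈ center G := mem_center_iff.2 fun y =>
        mem_centralizer_singleton_iff.1 (e ▸ mem_top y : y ∈ M)
      haveI := h.simple
      rcases (inferInstance : (center G).Normal).eq_bot_or_eq_top with e' | e'
      · rw [e', mem_bot] at hxc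
        exact H39.ne_one_of_orderOf_eq_two hx2 hxc
      · exact h.nonab ⟨⟨fun a b => mem_center_iff.1 (e' ▸ mem_top b) a⟩⟩
    have hlt : Nat.card ↥M < Nat.card G :=
      lt_of_le_of_ne (card_le_card_group M) fun e => hne (eq_top_of_card_eq M e)
    have hle : Nat.card (H88.Walter.Bb x) ≤ Nat.card ↥M :=
      Nat.card_le_card_of_surjective _ (H88.Walter.coreProj_surjective x)
    exact fun Y _ _ hY => h.small Y (by omega)

/-- **`N(A)` permutes the met components.** -/
theorem conjFacts : H77.WA.ConjFacts.{u} := by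
  intro G _ _ A n hn b L hL
  set e := H88.Walter.barEquiv n b
  set L' := L.map e.toMonoidHom
  have himg : (H21.Walter.coreImage b A).map e.toMonoidHom ≤
      H21.Walter.coreImage (n * b * n⁻¹) A := by
    rintro _ ⟨_, ⟨a, ha, rfl⟩, rfl⟩
    exact ⟨H88.Walter.centEquiv n b a,
      mem_subgroupOf.2 ((mem_normalizer_iff.1 hn _).1 (mem_subgroupOf.1 ha)),
      (H88.Walter.barEquiv_proj n b a).symm⟩
  have hcomp : Cfsg.IsComponent L' := Components.component_map_equiv e hL.1
  have hpre : H88.Walter.pre (n * b * n⁻¹) L' =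
      (H88.Walter.pre b L).map (MulAut.conj n).toMonoidHom := (H88.Walter.map_pre n b L).symm
  refine ⟨L', ⟨hcomp, fun hle => hL.2 fun y hy => ?_⟩, ?_, ?_, hpre, ?_⟩
  · have h1 := hle (himg (mem_map_of_mem e.toMonoidHom hy))
    rw [← H88.Walter.map_centralizer_equiv e L] at h1
    obtain ⟨z, hz, ez⟩ := h1
    exact e.injective ez ▸ hz
  · rw [H88.Walter.vp, H88.Walter.vp, hpre, map_inf _ _ _ (MulAut.conj n).injective,
      Coprime.map_conj_eq hn]
  · rw [H88.Walter.qp, H88.Walter.qp, H88.Walter.cen, H88.Walter.cen,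
      map_inf _ _ _ (MulAut.conj n).injective, Coprime.map_conj_eq hn, H88.Walter.map_pre,
      H88.Walter.map_centralizer_equiv]
  · let f : ↥L ≃* ↥L' := e.subgroupMap L
    refine ⟨(QuotientGroup.congr (center ↥L) (center ↥L') f ?_).symm⟩
    ext y
    constructor
    · rintro ⟨x, hx, rfl⟩
      refine mem_center_iff.2 fun w => ?_
      obtain ⟨v, rfl⟩ := f.surjective w
      show f v * f x = f x * f v
      rw [← map_mul, ← map_mul, mem_center_iff.1 hx v]
    · intro hy
      refine ⟨f.symm y, mem_center_iff.2 fun v => f.injective ?_, f.apply_symm_apply y⟩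
      rw [map_mul, map_mul, f.apply_symm_apply]
      exact mem_center_iff.1 hy (f v)

end Cfsg.Agent.H48.WA
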