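import Mathlib.GroupTheory.PGroup
import Mathlib.FieldTheory.Finite.Basic

/-!
# Transvections on three lines give an element of order four

A group of automorphisms of a group of exponent `p` containing two commuting involutions with
lines as fixed spaces, an element rotating the three lines and a `p`-element centralizing the first
and inverted by the second, contains an element of order 4.
-/

set_option autoImplicit false
set_option linter.unusedSectionVars false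

namespace Cfsg.Agent.H48.WA

open Subgroup

universe u v

variable {W : Type v} [CommGroup W] {p : ℕ} [hp : Fact p.Prime]

theorem pint : Prime (p : ℤ) :=
  Nat.prime_iff_prime_int.mp hp.out

/-- In exponent `p` the powers of a non-trivial element are distinct modulo `p`. -/
theorem dvd_of_zpow_eq_one (hW : ∀ w : W, w ^ p = 1) {w : W} (hw : w ≠ 1) {i : ℤ}
    (hi : w ^ i = 1) : (p : ℤ) ∣ i := by
  rw [← orderOf_eq_prime (hW w) hw]
  exact orderOf_dvd_iff_zpow_eq_one.2 hi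

theorem zpow_eq_of_dvd (hW : ∀ w : W, w ^ p = 1) (w : W) {i j : ℤ} (h : (p : ℤ) ∣ i - j) :
    w ^ i = w ^ j := by
  obtain ⟨c, hc⟩ := h
  rw [← mul_inv_eq_one, ← zpow_sub, hc, zpow_mul, zpow_natCast, hW, one_zpow]

theorem zpow_eq_one_of_dvd (hW : ∀ w : W, w ^ p = 1) (w : W) {i : ℤ} (h : (p : ℤ) ∣ i) :
    w ^ i = 1 := by
  rw [zpow_eq_of_dvd hW w (j := 0) (by simpa using h), zpow_zero]

theorem not_dvd_two (hp2 : p ≠ 2) : ¬ (p : ℤ) ∣ 2 := fun h =>
  hp2 ((Nat.prime_dvd_prime_iff_eq hp.out Nat.prime_two).1 (by exact_mod_cast h))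

theorem eq_one_of_eq_inv (hW : ∀ w : W, w ^ p = 1) (hp2 : p ≠ 2) {w : W} (h : w = w⁻¹) :
    w = 1 := by
  by_contra hw
  refine not_dvd_two hp2 (dvd_of_zpow_eq_one hW hw ?_)
  rw [zpow_two]
  exact eq_inv_iff_mul_eq_one.1 h

/-- Division modulo `p`. -/
theorem exists_mul_sub (hW : ∀ w : W, w ^ p = 1) {r : ℤ} (hr : ¬ (p : ℤ) ∣ r) (t : ℤ) :
    ∃ k : ℕ, ∀ w : W, w ^ ((k : ℤ) * r) = w ^ t := by
  have hr' : (r : ZMod p) ≠ 0 := fun h => hr ((ZMod.intCast_zmod_eq_zero_iff_dvd r p).1 h)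
  refine ⟨((t : ZMod p) / r).val, fun w => zpow_eq_of_dvd hW w ?_⟩
  rw [← ZMod.intCast_zmod_eq_zero_iff_dvd]
  push_cast
  rw [ZMod.natCast_zmod_val, div_mul_cancel₀ _ hr', sub_self]

theorem not_dvd_mul {i j : ℤ} (hi : ¬ (p : ℤ) ∣ i) (hj : ¬ (p : ℤ) ∣ j) : ¬ (p : ℤ) ∣ i * j :=
  fun h => (pint.dvd_or_dvd h).elim hi hj

/-- The Weyl element of two opposite transvections. -/
theorem exists_order_four (hW : ∀ w : W, w ^ p = 1) (hp2 : p ≠ 2) (Γ : Subgroup (MulAut W))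
    (hsq : ∀ m ∈ Γ, m ^ 4 = 1 → m ^ 2 = 1) {e₁ e₂ e₃ : W} (he₁ : e₁ ≠ 1)
    (hgen : ∀ w : W, ∃ i j l : ℤ, w = e₁ ^ i * e₂ ^ j * e₃ ^ l)
    {x y : MulAut W} (hx : x ∈ Γ) (hy : y ∈ Γ) {t r : ℤ}
    (hx1 : x e₁ = e₁) (hx2 : x e₂ = e₂ * e₁ ^ t) (hx3 : x e₃ = e₃)
    (hy1 : y e₁ = e₁ * e₂ ^ r) (hy2 : y e₂ = e₂) (hy3 : y e₃ = e₃)
    (ht : ¬ (p : ℤ) ∣ t) (hr : ¬ (p : ℤ) ∣ r) : False := by
  obtain ⟨n, hn⟩ := exists_mul_sub (W := W) hW (not_dvd_mul hr ht) (-1)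
  have hyn : ∀ i : ℕ, (y ^ i) e₁ = e₁ * e₂ ^ ((i : ℤ) * r) ∧ (y ^ i) e₂ = e₂ ∧ (y ^ i) e₃ = e₃ := by
    intro i
    induction i with
    | zero => simp
    | succ i ih =>
      simp only [pow_succ', MulAut.mul_apply, ih.1, ih.2.1, ih.2.2, map_mul, map_zpow, hy1, hy2,
        hy3, and_true]
      push_cast
      rw [add_mul, one_mul, add_comm, zpow_add, mul_assoc]
  obtain ⟨hz1, hz2, hz3⟩ := hyn n
  set s : ℤ := (n : ℤ) * r with hs
  have hst : ∀ w : W, w ^ (s * t) = w⁻¹ := fun w => by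
    rw [hs, mul_assoc, hn, zpow_neg_one]
  have hts : ∀ w : W, w ^ (t * s) = w⁻¹ := fun w => by rw [mul_comm]; exact hst w
  set m : MulAut W := x * y ^ n * x with hm
  have hm1 : m e₁ = e₂ ^ s := by
    simp only [hm, MulAut.mul_apply, hx1, hz1, map_mul, map_zpow, hx2, mul_zpow, ← zpow_mul, hts]
    rw [mul_comm (e₂ ^ s), ← mul_assoc, mul_inv_cancel, one_mul]
  have hz : (y ^ n) (e₂ * e₁ ^ t) = e₁ ^ t := by
    simp only [map_mul, map_zpow, hz2, hz1, mul_zpow, ← zpow_mul, hst]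
    rw [mul_comm (e₁ ^ t), ← mul_assoc, mul_inv_cancel, one_mul]
  have hm2 : m e₂ = e₁ ^ t := by
    simp only [hm, MulAut.mul_apply, hx2, hz, map_zpow, hx1]
  have hm3 : m e₃ = e₃ := by simp only [hm, MulAut.mul_apply, hx3, hz3]
  have h1 : (m ^ 2) e₁ = e₁⁻¹ := by
    simp only [pow_two, MulAut.mul_apply, hm1, map_zpow, hm2, ← zpow_mul, hts]
  have h2 : (m ^ 2) e₂ = e₂⁻¹ := by
    simp only [pow_two, MulAut.mul_apply, hm2, map_zpow, hm1, ← zpow_mul, hst]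
  have h3 : (m ^ 2) e₃ = e₃ := by simp only [pow_two, MulAut.mul_apply, hm3]
  have h4 : m ^ 4 = 1 := by
    refine MulEquiv.ext fun w => ?_
    obtain ⟨i, j, l, rfl⟩ := hgen w
    rw [show (4 : ℕ) = 2 * 2 from rfl, pow_mul, pow_two (m ^ 2)]
    simp only [MulAut.mul_apply, MulAut.one_apply, map_mul, map_zpow, map_inv, h1, h2, h3, inv_inv]
  refine he₁ (eq_one_of_eq_inv hW hp2 ?_)
  rw [← h1, hsq m (Γ.mul_mem (Γ.mul_mem hx (pow_mem hy n)) hx) h4, MulAut.one_apply]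

/-- A transvection and a rotation of three lines. -/
theorem false_of_transvection (hW : ∀ w : W, w ^ p = 1) (hp2 : p ≠ 2) (Γ : Subgroup (MulAut W))
    (hsq : ∀ m ∈ Γ, m ^ 4 = 1 → m ^ 2 = 1) {k u : MulAut W} (hk : k ∈ Γ) (hu : u ∈ Γ)
    {e₁ e₂ e₃ : W} (he₁ : e₁ ≠ 1) (hgen : ∀ w : W, ∃ i j l : ℤ, w = e₁ ^ i * e₂ ^ j * e₃ ^ l)
    (hk1 : k e₁ = e₂) (hk2 : k e₂ = e₃) {l : ℤ} (hk3 : k e₃ = e₁ ^ l)
    (hu1 : u e₁ = e₁) (hu2 : u e₂ = e₂) {s : ℤ} (hu3 : u e₃ = e₃ * e₂ ^ s)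
    (hs : ¬ (p : ℤ) ∣ s) : False := by
  have hl : ¬ (p : ℤ) ∣ l := fun h => by
    refine he₁ (k.injective (k.injective (k.injective ?_)))
    simp only [hk1, hk2, hk3, zpow_eq_one_of_dvd hW e₁ h, map_one]
  have hconj : ∀ (g : MulAut W) (w : W), (k * g * k⁻¹) (k w) = k (g w) := fun g w => by
    simp only [MulAut.mul_apply, MulAut.inv_apply_self]
  have hinv : ∀ (g : MulAut W) (w : W), g w = w → g⁻¹ w = w := fun g w h => by
    conv_lhs => rw [← h, MulAut.inv_apply_self]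
  obtain ⟨i, hi⟩ := exists_mul_sub (W := W) hW hl 1
  have hcancel : ∀ w : W, (w ^ l) ^ (i : ℤ) = w := fun w => by
    rw [← zpow_mul, mul_comm, hi, zpow_one]
  -- conjugating once
  set u₂ := k * u * k⁻¹ with hu₂
  have h22 : u₂ e₂ = e₂ := by rw [← hk1, hconj, hu1]
  have h23 : u₂ e₃ = e₃ := by rw [← hk2, hconj, hu2]
  have h21 : u₂ e₁ = e₁ * e₃ ^ (s * i) := by
    have h := hconj u e₃
    rw [hk3, map_zpow, hu3, map_mul, map_zpow, hk3, hk2] at h
    have h' := congrArg (· ^ (i : ℤ)) h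
    simp only [mul_zpow, hcancel] at h'
    rw [h', ← zpow_mul]
  have hr : ¬ (p : ℤ) ∣ s * i := fun h => hs ((pint.dvd_or_dvd h).resolve_right fun hi' => he₁ (by
    rw [← zpow_one e₁, ← hi e₁]
    exact zpow_eq_one_of_dvd hW e₁ (dvd_mul_of_dvd_left hi' l)))
  set r := s * (i : ℤ)
  -- conjugating twice
  set u₃ := k * u₂ * k⁻¹ with hu₃
  have h33 : u₃ e₃ = e₃ := by rw [← hk2, hconj, h22]
  have h32 : u₃ e₂ = e₂ * e₁ ^ (l * r) := by
    rw [← hk1, hconj, h21, map_mul, map_zpow, hk3, ← zpow_mul]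
  have h31 : u₃ e₁ = e₁ := by
    have h := hconj u₂ e₃
    rw [hk3, map_zpow, h23, hk3] at h
    have h' := congrArg (· ^ (i : ℤ)) h
    simpa only [hcancel] using h'
  -- the commutator
  have hi3 : u₂⁻¹ e₁ = e₁ * (e₃ ^ r)⁻¹ := by
    have h := congrArg (⇑u₂⁻¹) h21
    rw [MulAut.inv_apply_self, map_mul, map_zpow, hinv u₂ e₃ h23] at h
    exact eq_mul_inv_of_mul_eq h.symm
  have hj3 : u⁻¹ e₃ = e₃ * (e₂ ^ s)⁻¹ := by
    have h := congrArg (⇑u⁻¹) hu3
    rw [MulAut.inv_apply_self, map_mul, map_zpow, hinv u e₂ hu2] at h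
    exact eq_mul_inv_of_mul_eq h.symm
  set c := u * u₂ * u⁻¹ * u₂⁻¹ with hc
  have hc2 : c e₂ = e₂ := by
    simp only [hc, MulAut.mul_apply, hinv u₂ e₂ h22, hinv u e₂ hu2, h22, hu2]
  have hc3 : c e₃ = e₃ := by
    simp only [hc, MulAut.mul_apply, hinv u₂ e₃ h23, hj3, map_mul, map_zpow, map_inv, h22, h23,
      hu2, hu3, mul_inv_cancel_right]
  have hc1 : c e₁ = e₁ * e₂ ^ (s * r) := by
    simp only [hc, MulAut.mul_apply, hi3, map_mul, map_zpow, map_inv, hinv u e₁ hu1, hj3, h21,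
      h22, h23, hu1, hu2, hu3, mul_zpow, inv_zpow, mul_inv_rev, inv_inv, ← zpow_mul]
    rw [mul_inv_cancel_left, mul_comm (e₃ ^ r), ← mul_assoc, mul_inv_cancel_right]
  exact exists_order_four hW hp2 Γ hsq he₁ hgen
    (Γ.mul_mem (Γ.mul_mem hk (Γ.mul_mem (Γ.mul_mem hk hu) (Γ.inv_mem hk))) (Γ.inv_mem hk))
    (Γ.mul_mem (Γ.mul_mem (Γ.mul_mem hu (Γ.mul_mem (Γ.mul_mem hk hu) (Γ.inv_mem hk)))
      (Γ.inv_mem hu)) (Γ.inv_mem (Γ.mul_mem (Γ.mul_mem hk hu) (Γ.inv_mem hk))))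
    h31 h32 h33 hc1 hc2 hc3 (not_dvd_mul hl hr) (not_dvd_mul hs hr)

/-- An automorphism of `p`-power order is trivial on an invariant cyclic quotient of order `p`. -/
theorem coeff_one {u : MulAut W} (hu : ∃ i : ℕ, u ^ p ^ i = 1) (N : Subgroup W)
    (hN : ∀ n ∈ N, u n ∈ N) {y : W} {δ : ℤ} (hy : u y * (y ^ δ)⁻¹ ∈ N)
    (hfree : ∀ j : ℤ, y ^ j ∈ N → (p : ℤ) ∣ j) : (p : ℤ) ∣ δ - 1 := by
  have key : ∀ n : ℕ, (u ^ n) y * (y ^ δ ^ n)⁻¹ ∈ N := by
    intro n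
    induction n with
    | zero => simp
    | succ n ih =>
      have h1 := hN _ ih
      rw [map_mul, map_inv, map_zpow, ← MulAut.mul_apply, ← pow_succ'] at h1
      have h2 := N.zpow_mem hy (δ ^ n)
      rw [mul_zpow, inv_zpow, ← zpow_mul, ← pow_succ'] at h2
      have h3 := N.mul_mem h1 h2
      rwa [mul_assoc, inv_mul_cancel_left] at h3
  obtain ⟨i, hi⟩ := hu
  have h := key (p ^ i)
  rw [hi, MulAut.one_apply] at h
  have h2 := hfree (1 - δ ^ p ^ i) (by rwa [zpow_sub, zpow_one])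
  rw [← ZMod.intCast_zmod_eq_zero_iff_dvd] at h2 ⊢
  push_cast at h2 ⊢
  rw [ZMod.pow_card_pow, sub_eq_zero] at h2
  rw [← h2, sub_self]

/-- The case of a fixed second line. -/
theorem false_of_fixed (hW : ∀ w : W, w ^ p = 1) (hp2 : p ≠ 2) (Γ : Subgroup (MulAut W))
    (hsq : ∀ m ∈ Γ, m ^ 4 = 1 → m ^ 2 = 1) {a b c k u : MulAut W} (hk : k ∈ Γ) (hu : u ∈ Γ)
    (hab : a * b = c) (hcomm : b * a = a * b) (ha2 : a * a = 1) (hb2 : b * b = 1)
    (hnofix : ∀ w, a w = w → b w = w → w = 1)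
    {e : W} (he : a e = e) (he1 : e ≠ 1) (hline : ∀ w, a w = w → w ∈ zpowers e)
    (hka : k * a = b * k) (hkb : k * b = c * k) (hkc : k * c = a * k)
    (hua : u * a = a * u) (hup : ∃ i : ℕ, u ^ p ^ i = 1) (hu1 : u ≠ 1)
    (hfix : ∃ w, b w = w ∧ w ≠ 1 ∧ u w = w) : False := by
  have happ : ∀ {g h g' h' : MulAut W}, g * h = g' * h' → ∀ w, g (h w) = g' (h' w) :=
    fun e w => by rw [← MulAut.mul_apply, e, MulAut.mul_apply]
  -- the three lines
  set f := k e with hf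
  set g := k f with hg
  have hfb : b f = f := by rw [hf, ← happ hka, he]
  have hgc : c g = g := by rw [hg, ← happ hkb, hfb]
  have hlb : ∀ w, b w = w → w ∈ zpowers f := fun w hw => by
    obtain ⟨i, hi⟩ := mem_zpowers_iff.1 (hline (k.symm w) (k.injective (by
      rw [happ hka, MulEquiv.apply_symm_apply, hw])))
    exact mem_zpowers_iff.2 ⟨i, by rw [hf, ← map_zpow, hi, MulEquiv.apply_symm_apply]⟩
  have hlc : ∀ w, c w = w → w ∈ zpowers g := fun w hw => by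
    obtain ⟨i, hi⟩ := mem_zpowers_iff.1 (hlb (k.symm w) (k.injective (by
      rw [happ hkb, MulEquiv.apply_symm_apply, hw])))
    exact mem_zpowers_iff.2 ⟨i, by rw [hg, ← map_zpow, hi, MulEquiv.apply_symm_apply]⟩
  obtain ⟨l, hl⟩ := mem_zpowers_iff.1 (hline (k g) (by rw [← happ hkc, hgc]))
  have haa : ∀ w, a (a w) = w := fun w => by rw [← MulAut.mul_apply, ha2, MulAut.one_apply]
  have hbb : ∀ w, b (b w) = w := fun w => by rw [← MulAut.mul_apply, hb2, MulAut.one_apply]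
  have hba := happ hcomm
  have hcab : ∀ w, c w = a (b w) := fun w => by rw [← hab, MulAut.mul_apply]
  have hinva : ∀ w, b w = w → a w = w⁻¹ := fun w hw =>
    eq_inv_of_mul_eq_one_left (hnofix _ (by rw [map_mul, haa, mul_comm])
      (by rw [map_mul, hba, hw]))
  have hfa : a f = f⁻¹ := hinva f hfb
  have hgab : a g = b g := by
    conv_lhs => rw [← hgc, hcab, haa]
  have hga : a g = g⁻¹ := by
    refine eq_inv_of_mul_eq_one_left (hnofix _ (by rw [map_mul, haa, mul_comm]) ?_)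
    rw [map_mul, ← hgab, hgab, hbb, mul_comm]
  have hgb : b g = g⁻¹ := hgab ▸ hga
  have hf1 : f ≠ 1 := fun h => he1 (k.injective (h.trans (map_one _).symm))
  have hg1 : g ≠ 1 := fun h => hf1 (k.injective (h.trans (map_one _).symm))
  obtain ⟨h', hh'⟩ := exists_mul_sub (W := W) hW (not_dvd_two hp2) 1
  have hhalf : ∀ w : W, (w * w) ^ (h' : ℤ) = w := fun w => by
    rw [← zpow_two, ← zpow_mul, mul_comm, hh', zpow_one]
  have hplane : ∀ w, a w = w⁻¹ → ∃ i j : ℤ, w = f ^ i * g ^ j := by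
    intro w hw
    obtain ⟨i, hi⟩ := mem_zpowers_iff.1 (hlb (w * b w) (by rw [map_mul, hbb, mul_comm]))
    obtain ⟨j, hj⟩ := mem_zpowers_iff.1 (hlc (w * (b w)⁻¹) (by
      rw [hcab, map_mul b, map_inv, hbb, map_mul, map_inv, ← hba, hw, map_inv, inv_inv, mul_comm]))
    refine ⟨i * h', j * h', ?_⟩
    rw [zpow_mul, zpow_mul, ← mul_zpow, hi, hj, mul_mul_mul_comm, mul_inv_cancel, mul_one, hhalf]
  have hgen : ∀ w : W, ∃ i j m : ℤ, w = e ^ i * f ^ j * g ^ m := by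
    intro w
    obtain ⟨i, hi⟩ := mem_zpowers_iff.1 (hline (w * a w) (by rw [map_mul, haa, mul_comm]))
    obtain ⟨j, m, hjm⟩ := hplane (w * (a w)⁻¹) (by
      rw [map_mul, map_inv, haa, mul_inv_rev, inv_inv])
    refine ⟨i * h', j * h', m * h', ?_⟩
    rw [zpow_mul, zpow_mul, zpow_mul, ← mul_zpow, ← mul_zpow, mul_assoc (e ^ i), ← hjm, hi,
      mul_mul_mul_comm, mul_inv_cancel, mul_one, hhalf]
  -- `u`
  have hue : u e = e := by
    obtain ⟨i, hi⟩ := mem_zpowers_iff.1 (hline (u e) (by rw [← happ hua, he]))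
    have hd := coeff_one hup ⊥ (fun n hn => by rw [mem_bot.1 hn, map_one]; exact one_mem _)
      (y := e) (δ := i) (by rw [hi, mul_inv_cancel]; exact one_mem _)
      fun j hj => dvd_of_zpow_eq_one hW he1 (mem_bot.1 hj)
    rw [← hi, zpow_eq_of_dvd hW e hd, zpow_one]
  have huf : u f = f := by
    obtain ⟨w, hwb, hw1, hwu⟩ := hfix
    obtain ⟨i, hi⟩ := mem_zpowers_iff.1 (hlb w hwb)
    obtain ⟨j, hj⟩ := exists_mul_sub (W := W) hW (r := i)
      (fun h => hw1 (hi ▸ zpow_eq_one_of_dvd hW f h)) 1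
    have h := congrArg (· ^ (j : ℤ)) hwu
    simp only [← hi, map_zpow, ← zpow_mul, mul_comm i, hj, zpow_one] at h
    exact h
  obtain ⟨α, δ, hug⟩ := hplane (u g) (by rw [← happ hua, hga, map_inv])
  have hd : (p : ℤ) ∣ δ - 1 := by
    refine coeff_one hup (zpowers f) (fun n hn => ?_) (y := g) ?_ fun j hj => ?_
    · obtain ⟨i, rfl⟩ := mem_zpowers_iff.1 hn
      rw [map_zpow, huf]
      exact zpow_mem (mem_zpowers f) i
    · rw [hug, mul_inv_cancel_right]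
      exact zpow_mem (mem_zpowers f) α
    · obtain ⟨i, hi⟩ := mem_zpowers_iff.1 hj
      refine dvd_of_zpow_eq_one hW hg1 (eq_one_of_eq_inv hW hp2 ?_)
      have h := congrArg (⇑b) hi
      rw [map_zpow, map_zpow, hfb, hgb, hi, inv_zpow] at h
      exact h
  rw [zpow_eq_of_dvd hW g hd, zpow_one, mul_comm] at hug
  refine false_of_transvection hW hp2 Γ hsq hk hu he1 hgen rfl rfl hl.symm hue huf hug fun h =>
    hu1 (MulEquiv.ext fun w => ?_)
  obtain ⟨i, j, m, rfl⟩ := hgen w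
  rw [zpow_eq_one_of_dvd hW f h, mul_one] at hug
  simp only [map_mul, map_zpow, hue, huf, hug, MulAut.one_apply]

/-- **The endgame.** -/
theorem false_of_lines [Finite W] (hW : ∀ w : W, w ^ p = 1) (hp2 : p ≠ 2) (Γ : Subgroup (MulAut W))
    (hsq : ∀ m ∈ Γ, m ^ 4 = 1 → m ^ 2 = 1) {a b c k u : MulAut W} (hk : k ∈ Γ) (hu : u ∈ Γ)
    (hab : a * b = c) (hcomm : b * a = a * b) (ha2 : a * a = 1) (hb2 : b * b = 1)
    (hnofix : ∀ w, a w = w → b w = w → w = 1)
    {e : W} (he : a e = e) (he1 : e ≠ 1) (hline : ∀ w, a w = w → w ∈ zpowers e)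
    (hka : k * a = b * k) (hkb : k * b = c * k) (hkc : k * c = a * k)
    (hua : u * a = a * u) (hbu : b * u = u⁻¹ * b) (hup : ∃ i : ℕ, u ^ p ^ i = 1) (hu1 : u ≠ 1) :
    False := by
  have happ : ∀ {g h g' h' : MulAut W}, g * h = g' * h' → ∀ w, g (h w) = g' (h' w) :=
    fun e w => by rw [← MulAut.mul_apply, e, MulAut.mul_apply]
  have hbb : ∀ w, b (b w) = w := fun w => by rw [← MulAut.mul_apply, hb2, MulAut.one_apply]
  let P : Subgroup W := {
    carrier := {w | a w = w⁻¹}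
    one_mem' := by simp
    mul_mem' := fun {v w} hv hw => by
      simp only [Set.mem_ofPred_eq, map_mul, mul_inv] at *
      rw [hv, hw]
    inv_mem' := fun {w} hw => by
      simp only [Set.mem_ofPred_eq, map_inv] at *
      rw [hw] }
  have hP : ∀ {w : W}, w ∈ P ↔ a w = w⁻¹ := Iff.rfl
  let U : Subgroup (MulAut W) := zpowers u
  have hUP : ∀ n ∈ U, ∀ w ∈ P, n w ∈ P := by
    intro n hn w hw
    obtain ⟨i, rfl⟩ := mem_zpowers_iff.1 hn
    rw [hP, happ ((show Commute a u from hua.symm).zpow_right i).eq, hP.1 hw, map_inv]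
  let act : MulAction U P :=
    { smul := fun n w => ⟨(n : MulAut W) w, hUP n n.2 w w.2⟩
      one_smul := fun w => Subtype.ext rfl
      mul_smul := fun m n w => Subtype.ext rfl }
  have hUp : IsPGroup p U := by
    obtain ⟨i, hi⟩ := hup
    rintro ⟨n, hn⟩
    obtain ⟨j, rfl⟩ := mem_zpowers_iff.1 hn
    refine ⟨i, Subtype.ext ?_⟩
    show (u ^ j) ^ p ^ i = 1
    rw [← zpow_natCast, ← zpow_mul, mul_comm, zpow_mul, zpow_natCast, hi, one_zpow]
  -- a non-trivial element inverted by `a`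
  have hk1 : k e ≠ 1 := fun h => he1 (k.injective (h.trans (map_one _).symm))
  have hke : b (k e) = k e := by rw [← happ hka, he]
  have hkeP : k e ∈ P := eq_inv_of_mul_eq_one_left (hnofix _
    (by rw [map_mul, ← happ (show a * a = (1 : MulAut W) * 1 by rw [ha2, mul_one]).symm,
      MulAut.one_apply, MulAut.one_apply, mul_comm])
    (by rw [map_mul, happ hcomm, hke]))
  have hPdvd : p ∣ Nat.card P := by
    have h := orderOf_dvd_natCard (⟨k e, hkeP⟩ : P)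
    rwa [orderOf_eq_prime (Subtype.ext (by simpa using hW (k e)))
      (fun h' => hk1 (congrArg Subtype.val h'))] at h
  obtain ⟨⟨w, hw⟩, hwfix, hw1⟩ := hUp.exists_fixed_point_of_prime_dvd_card_of_fixed_point P hPdvd
    (a := 1) (fun n => Subtype.ext (map_one (n : MulAut W)))
  have huw : u w = w := congrArg Subtype.val (hwfix ⟨u, mem_zpowers u⟩)
  have hubw : u (b w) = b w := by
    have h : b w = u⁻¹ (b w) := by conv_lhs => rw [← huw, happ hbu]
    conv_lhs => rw [h, MulAut.apply_inv_self]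
  by_cases hf : w * b w = 1
  · -- the fixed line belongs to `c`
    have hbw : b w = w⁻¹ := eq_inv_of_mul_eq_one_right hf
    have hcw : c w = w := by
      rw [← hab, MulAut.mul_apply, hbw, map_inv, hP.1 hw, inv_inv]
    have ha' : a⁻¹ = a := inv_eq_of_mul_eq_one_right ha2
    have hac : a * c = b := by rw [← hab, ← mul_assoc, ha2, one_mul]
    refine false_of_fixed hW hp2 Γ hsq (a := a) (b := c) (c := b) (Γ.inv_mem hk) hu hac
      (by rw [hac, ← hab, mul_assoc, hcomm, ← mul_assoc, ha2, one_mul]) ha2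
      (by rw [← hab, mul_assoc, ← mul_assoc b a b, hcomm, mul_assoc a b b, hb2, mul_one, ha2])
      (fun v hv1 hv2 => hnofix v hv1 ?_) he he1 hline ?_ ?_ ?_ hua hup hu1
      ⟨w, hcw, fun h => hw1 (Subtype.ext h.symm), huw⟩
    · rw [← hab, MulAut.mul_apply] at hv2
      conv_rhs => rw [← hv1]
      exact a.injective (by rw [hv2, hv1, hv1])
    · rw [inv_mul_eq_iff_eq_mul, ← mul_assoc, hkc, mul_inv_cancel_right]
    · rw [inv_mul_eq_iff_eq_mul, ← mul_assoc, hkb, mul_inv_cancel_right]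
    · rw [inv_mul_eq_iff_eq_mul, ← mul_assoc, hka, mul_inv_cancel_right]
  · exact false_of_fixed hW hp2 Γ hsq hk hu hab hcomm ha2 hb2 hnofix he he1 hline hka hkb hkc hua
      hup hu1 ⟨w * b w, by rw [map_mul, hbb, mul_comm], hf, by rw [map_mul, huw, hubw]⟩

end Cfsg.Agent.H48.WA
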