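import Cfsg.Agent.H77.WA.FourCentDefs
import Cfsg.Agent.H1.WA.TorusLink
import Cfsg.Agent.H21.WA.FourBalance
import Cfsg.Agent.H50.WA.AFacts
import Cfsg.Agent.Components.PLocal

/-!
# `|A| = 4`, `T` of order 16: the kernels and the tori

For `z ∈ T ∖ A` the kernel `T ⊓ cen z L` of the action on the component has order 4, complements
`A`, and is the kernel at each of its involutions.  An element of `C(a)` centralizing such a kernel
`R` centralizes `A` modulo the cores of `C(a)` and of the `C(ar)`, so those inverted by `b` lie in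
these cores and act in a cyclic torus on the component of `z`.
-/

set_option autoImplicit false
set_option linter.unusedSectionVars false
set_option linter.unusedVariables false
set_option linter.style.haveILetI false

namespace Cfsg.Agent.H48.WA.FM

open Subgroup Cfsg.Agent
open Cfsg.Agent.H88.Walter (Bb pre cen core mem_pre)
open Cfsg.Agent.H21.Walter (coreProj coreImage coreProj_eq_one_iff)
open Cfsg.Agent.H21.WA (mem_coreImage)
open Cfsg.Agent.H1.WA (Frame)
open Cfsg.Agent.H77.WA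
open scoped commutatorElement

universe u

local instance fact_two_fm : Fact (Nat.Prime 2) := ⟨Nat.prime_two⟩

variable {G : Type u} [Group G] [Finite G] {S : Sylow 2 G} {A T P : Subgroup G}

/-- The four-group is generated by any two of its involutions. -/
theorem four_cases (hA : Cfsg.IsElementaryAbelian 2 A) (hc : Nat.card A = 4) {a b : G}
    (ha : a ∈ A) (hb : b ∈ A) (ha1 : a ≠ 1) (hb1 : b ≠ 1) (hab : a ≠ b) {x : G} (hx : x ∈ A) :
    x = 1 ∨ x = a ∨ x = b ∨ x = a * b := by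
  by_contra hne
  simp only [not_or] at hne
  obtain ⟨h1, h2, h3, h4⟩ := hne
  have hab1 : a * b ≠ 1 := fun e => hab (by
    rw [mul_eq_one_iff_eq_inv.1 e, inv_eq_of_mul_eq_one_right (H1.WA.sq_of_mem hA hb)])
  have haab : a * b ≠ a := fun e => hb1 (mul_eq_left.1 e)
  have hbab : a * b ≠ b := fun e => ha1 (mul_eq_right.1 e)
  let f : Fin 5 → ↥A := ![⟨1, one_mem A⟩, ⟨a, ha⟩, ⟨b, hb⟩, ⟨a * b, mul_mem ha hb⟩, ⟨x, hx⟩]
  have hf : Function.Injective f := by
    intro i j e
    have e' : (f i : G) = f j := congrArg Subtype.val e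
    fin_cases i <;> fin_cases j <;> first
      | rfl
      | (exfalso; simp [f] at e'; first
          | exact ha1 e' | exact ha1 e'.symm | exact hb1 e' | exact hb1 e'.symm
          | exact hab e' | exact hab e'.symm | exact hab1 e' | exact hab1 e'.symm
          | exact haab e' | exact haab e'.symm | exact hbab e' | exact hbab e'.symm
          | exact h1 e' | exact h1 e'.symm | exact h2 e' | exact h2 e'.symm
          | exact h3 e' | exact h3 e'.symm | exact h4 e' | exact h4 e'.symm)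
  have := Nat.card_le_card_of_injective f hf
  rw [Nat.card_fin, hc] at this
  omega

/-- An element of odd order lies in every subgroup containing its square. -/
theorem mem_of_sq {X : Type*} [Group X] (K : Subgroup X) {x : X} (hodd : Odd (orderOf x))
    (h : x * x ∈ K) : x ∈ K := by
  obtain ⟨i, hi⟩ := hodd
  have h1 := K.pow_mem h (i + 1)
  rwa [← pow_two, ← pow_mul, show 2 * (i + 1) = orderOf x + 1 by omega, pow_succ,
    pow_orderOf_eq_one, one_mul] at h1

/-- The image of an element of odd order has odd order. -/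
theorem odd_proj {z g : G} (hgz : g ∈ centralizer ({z} : Set G)) (hodd : Odd (orderOf g)) :
    Odd (orderOf (coreProj z ⟨g, hgz⟩)) :=
  hodd.of_dvd_nat (Subgroup.orderOf_mk g hgz ▸ orderOf_map_dvd (coreProj z) ⟨g, hgz⟩)

/-- A commutator in the core. -/
theorem comm_mem_core {z g t : G} (hg : g ∈ centralizer ({z} : Set G))
    (ht : t ∈ centralizer ({z} : Set G))
    (h : Commute (coreProj z ⟨g, hg⟩) (coreProj z ⟨t, ht⟩)) : g * t * g⁻¹ * t⁻¹ ∈ core z :=
  (coreProj_eq_one_iff (x := (⟨g, hg⟩ * ⟨t, ht⟩ * ⟨g, hg⟩⁻¹ * ⟨t, ht⟩⁻¹ :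
    ↥(centralizer ({z} : Set G))))).1 (by
      rw [map_mul, map_mul, map_mul, map_inv, map_inv, h.eq]; group)

section Basic

variable (h2 : TwoCfg S A) (hF : FourFrame A T)
include h2 hF

theorem outer {z : G} (hz : z ∈ T) (hzA : z ∉ A) : Outer A z :=
  ⟨hF.le_cent hz, orderOf_eq_prime (hF.elem.2 z hz) fun e => hzA (e ▸ one_mem A), hzA⟩

theorem le_centralizer_elt {z : G} (hz : z ∈ T) : T ≤ centralizer ({z} : Set G) :=
  H21.Walter.le_centralizer_self hF.elem hz

theorem A_le_centralizer {z : G} (hz : z ∈ T) : A ≤ centralizer ({z} : Set G) :=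
  hF.le.trans (le_centralizer_elt h2 hF hz)

theorem commute_T {s t : G} (hs : s ∈ T) (ht : t ∈ T) : Commute s t :=
  H1.WA.comm_of_mem hF.elem hs ht

/-- The image of an element of `A#` is not trivial. -/
theorem proj_ne_one {z a : G} (ha : a ∈ A) (ha1 : a ≠ 1)
    (haz : a ∈ centralizer ({z} : Set G)) : coreProj z ⟨a, haz⟩ ≠ 1 := fun e =>
  ha1 (H1.WA.eq_one_of_mem_core h2.cfg.elem ha (coreProj_eq_one_iff.1 e))

/-- The met component is unique. -/
theorem met_unique {z : G} {L L' : Subgroup (Bb z)} (hL : Frame A z L) (hL' : CMet A z L') :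
    L' = L := by
  by_contra hne
  exact hL'.2 (hL.le.trans (commutator_eq_bot_iff_le_centralizer.1
    (Components.components_commute hL.met.1 hL'.1 fun e => hne e.symm)))

/-- What commutes with an element of the image of `A` fixes the component. -/
theorem mem_normalizer_component {z a : G} {L : Subgroup (Bb z)} (hL : Frame A z L) (ha : a ∈ A)
    (ha1 : a ≠ 1) (haz : a ∈ centralizer ({z} : Set G)) {y : Bb z}
    (hy : Commute y (coreProj z ⟨a, haz⟩)) : y ∈ normalizer (L : Set (Bb z)) := by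
  set v := coreProj z ⟨a, haz⟩
  have hvL : v ∈ L := hL.le (H88.Walter.coreImage_mem haz ha)
  refine H39.mem_normalizer_iff_map_conj.2 ?_
  by_contra hne
  have hc := commutator_eq_bot_iff_le_centralizer.1
    (Components.components_commute (Components.component_conj hL.met.1 y) hL.met.1 hne)
  have hv : v ∈ centralizer (L : Set (Bb z)) := hc ⟨v, hvL, by
    show y * v * y⁻¹ = v
    rw [hy.eq, mul_inv_cancel_right]⟩
  have h1 : (⟨v, hvL⟩ : ↥L) ∈ center ↥L := mem_center_iff.2 fun l =>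
    Subtype.ext (mem_centralizer_iff.1 hv l l.2)
  rw [hL.center_bot, mem_bot] at h1
  exact proj_ne_one h2 hF ha ha1 haz (congrArg Subtype.val h1)

/-- Commutators with `A` in `C(a)` lie in the core. -/
theorem comm_mem_core_self {a a' g : G} (ha : a ∈ A) (ha1 : a ≠ 1) (ha' : a' ∈ A)
    (hg : g ∈ centralizer ({a} : Set G)) : g * a' * g⁻¹ * a'⁻¹ ∈ core a := by
  have hAa : centralizer (A : Set G) ≤ centralizer ({a} : Set G) :=
    centralizer_le (Set.singleton_subset_iff.2 ha)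
  obtain ⟨k, hk, c, hc, rfl⟩ := (Coprime.mem_sup_iff (hAa.trans (H88.Walter.core_normal a))).1
    (h2.cover a ha ha1 hg)
  have ha'n : a' ∈ normalizer (core a : Set G) := H88.Walter.core_normal a
    (hAa (H1.WA.le_cent_self h2.cfg.elem ha'))
  rw [show k * c * a' * (k * c)⁻¹ * a'⁻¹ = k * (c * a' * c⁻¹) * k⁻¹ * a'⁻¹ by group,
    H1.WA.conj_comm hc ha', show k * a' * k⁻¹ * a'⁻¹ = k * (a' * k⁻¹ * a'⁻¹) by group]
  exact mul_mem hk ((mem_normalizer_iff.1 ha'n _).1 (inv_mem hk))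

/-- A 2-element centralizing an element of `T ∖ A` is an involution. -/
theorem sq_of_two {y g : G} (hy : y ∈ T) (hyA : y ∉ A) (hg : g ∈ centralizer ({y} : Set G))
    (h : ∃ k : ℕ, g ^ 2 ^ k = 1) : g * g = 1 := by
  obtain ⟨Q, hQ⟩ := H21.WA.exists_sylow_eq h2 hF hy hyA
  have hp : IsPGroup 2 ↥(zpowers (⟨g, hg⟩ : ↥(centralizer ({y} : Set G)))) := by
    obtain ⟨k, hk⟩ := h
    rintro ⟨x, hx⟩
    obtain ⟨i, rfl⟩ := mem_zpowers_iff.1 hx
    refine ⟨k, Subtype.ext ?_⟩
    show ((⟨g, hg⟩ : ↥(centralizer ({y} : Set G))) ^ i) ^ 2 ^ k = 1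
    rw [← zpow_natCast, ← zpow_mul, mul_comm, zpow_mul, zpow_natCast,
      show (⟨g, hg⟩ : ↥(centralizer ({y} : Set G))) ^ 2 ^ k = 1 from Subtype.ext (by simpa using hk),
      one_zpow]
  obtain ⟨c, hc⟩ := H39.exists_conj_le_sylow hp Q
  have h1 := hc _ (mem_zpowers _)
  rw [hQ, mem_subgroupOf] at h1
  have h2' : (c : G) * g * (c : G)⁻¹ ∈ T := h1
  have h3 : (c : G) * g * (c : G)⁻¹ * ((c : G) * g * (c : G)⁻¹) = 1 :=
    H1.WA.sq_of_mem hF.elem h2'
  calc g * g = (c : G)⁻¹ * ((c : G) * g * (c : G)⁻¹ * ((c : G) * g * (c : G)⁻¹)) * c := by group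
    _ = 1 := by rw [h3]; group

variable (hP : FourShape A T P)
include hP

/-- The cores are balanced towards the involutions of `A`. -/
theorem core_inf_le {y a : G} (hy : y ∈ T) (hyA : y ∉ A) (ha : a ∈ A) (ha1 : a ≠ 1) :
    core y ⊓ centralizer ({a} : Set G) ≤ core a := by
  have hya : y ∈ centralizer ({a} : Set G) :=
    centralizer_le (Set.singleton_subset_iff.2 ha) (hF.le_cent hy)
  have hzy : zpowers y ≤ centralizer ({a} : Set G) := zpowers_le.2 hya
  set W := coreImage a (core y ⊓ centralizer ({a} : Set G))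
  have hWodd : Odd (Nat.card W) := H21.Walter.card_coreImage_odd a fun h =>
    Nat.not_even_iff_odd.2 (H88.Walter.odd_of_le (H88.Walter.core_odd y) inf_le_left)
      (even_iff_two_dvd.2 h)
  have hWn : centralizer (coreImage a (zpowers y) : Set (Bb a)) ≤ normalizer (W : Set (Bb a)) := by
    refine H21.Walter.centralizer_le_normalizer_coreImage
      (IsPGroup.of_card (n := 1) (by
        rw [Nat.card_zpowers, (outer h2 hF hy hyA).2.1, pow_one])) ?_ hzy
    exact (inf_le_inf ((centralizer_le (Set.singleton_subset_iff.2 (mem_zpowers y))).trans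
      (H88.Walter.core_normal y)) le_normalizer).trans inf_normalizer_le_normalizer_inf
  have hU : H21.Walter.LocalPieces.Under (coreImage a (zpowers y)) W := by
    refine ⟨hWodd, hWn, fun e he he1 => ⟨W, hWodd, ?_, ?_, le_rfl⟩⟩
    · refine fun w hw => mem_centralizer_singleton_iff.2 ?_
      obtain ⟨k, hka, hk, rfl⟩ := mem_coreImage.1 hw
      obtain ⟨x, hxa, hx, rfl⟩ := mem_coreImage.1 he
      obtain ⟨i, rfl⟩ := mem_zpowers_iff.1 hx
      rw [← map_mul, ← map_mul]
      refine congrArg _ (Subtype.ext ?_)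
      exact ((show Commute k y from
        mem_centralizer_singleton_iff.1 (H88.Walter.core_le y hk.1)).zpow_right i).eq
    · refine fun g hg => hWn (mem_centralizer_iff.2 fun w hw => ?_)
      have hey : e = coreProj a ⟨y, hya⟩ := by
        obtain ⟨x, hxa, hx, rfl⟩ := mem_coreImage.1 he
        obtain ⟨i, rfl⟩ := mem_zpowers_iff.1 hx
        rcases Int.even_or_odd i with ⟨j, rfl⟩ | ⟨j, rfl⟩
        · refine absurd ?_ he1
          have h1 : y ^ (j + j) = 1 := by
            rw [← two_mul, zpow_mul, zpow_two, H1.WA.sq_of_mem hF.elem hy, one_zpow]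
          rw [show (⟨y ^ (j + j), hxa⟩ : ↥(centralizer ({a} : Set G))) = 1 from Subtype.ext h1,
            map_one]
        · refine congrArg _ (Subtype.ext ?_)
          show y ^ (2 * j + 1) = y
          rw [zpow_add_one, zpow_mul, zpow_two, H1.WA.sq_of_mem hF.elem hy, one_zpow, one_mul]
      obtain ⟨x, hxa, hx, rfl⟩ := mem_coreImage.1 hw
      obtain ⟨i, rfl⟩ := mem_zpowers_iff.1 hx
      rw [show (⟨y ^ i, hxa⟩ : ↥(centralizer ({a} : Set G))) = ⟨y, hya⟩ ^ i from
        Subtype.ext (by simp), map_zpow, ← hey]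
      exact ((show Commute g e from mem_centralizer_singleton_iff.1 hg).symm.zpow_left i).eq
  exact (H21.WA.coreImage_eq_bot_iff inf_le_right).1
    (H21.WA.eq_bot_inside h2 hF hP ha ha1 (zpowers_le.2 hy) hU)

end Basic

section Kernels

variable (htf : TypeFacts.{u}) (hbs : BarStruct.{u}) (h2 : TwoCfg S A) (hF : FourFrame A T)
include htf hbs h2 hF

theorem exists_frame {z : G} (hz : z ∈ T) (hzA : z ∉ A) : ∃ L, Frame A z L :=
  H1.WA.frame_of_toral htf hbs h2 (hF.all_toral z hz hzA)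

variable {z : G} (hz : z ∈ T) (hzA : z ∉ A) {L : Subgroup (Bb z)} (hL : Frame A z L)
include hz hzA hL

theorem kernel_split {t : G} (ht : t ∈ T) : ∃ a ∈ A, a⁻¹ * t ∈ T ⊓ cen z L := by
  obtain ⟨hzc, hz2, -⟩ := outer h2 hF hz hzA
  obtain ⟨a, ha, h⟩ := H1.WA.exists_split htf hbs h2 hzc hz2 hL (t := t)
    ⟨hF.le_cent ht, le_centralizer_elt h2 hF hz ht⟩
    ⟨1, by rw [pow_one, pow_two]; exact H1.WA.sq_of_mem hF.elem ht⟩
  exact ⟨a, ha, Subgroup.mul_mem _ (Subgroup.inv_mem _ (hF.le ha)) ht, h⟩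

theorem kernel_not_A {r : G} (hr : r ∈ T ⊓ cen z L) (hr1 : r ≠ 1) : r ∉ A := fun hrA => hr1 (by
  have h : r ∈ A ⊓ cen z L := ⟨hrA, hr.2⟩
  rwa [H1.WA.inf_cen_eq_bot htf hbs h2 (hF.le_cent hz) hL, mem_bot] at h)

theorem self_mem_kernel : z ∈ T ⊓ cen z L :=
  ⟨hz, H1.WA.self_mem_cen L⟩

theorem kernel_card : Nat.card ↥(T ⊓ cen z L) = 4 := by
  set R := T ⊓ cen z L
  have hb : Function.Bijective fun p : ↥A × ↥R =>
      (⟨(p.1 : G) * p.2, mul_mem (hF.le p.1.2) p.2.2.1⟩ : ↥T) := by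
    refine ⟨fun ⟨a, r⟩ ⟨a', r'⟩ e => ?_, fun ⟨t, ht⟩ => ?_⟩
    · have e1 : (a : G) * r = a' * r' := congrArg Subtype.val e
      have e2 : (a' : G)⁻¹ * a = r' * (r : G)⁻¹ := by
        rw [inv_mul_eq_iff_eq_mul, ← mul_assoc, ← e1, mul_inv_cancel_right]
      have h1 : (r' : G) * (r : G)⁻¹ = 1 := by
        by_contra hne
        exact kernel_not_A htf hbs h2 hF hz hzA hL (mul_mem r'.2 (inv_mem r.2)) hne
          (e2 ▸ mul_mem (inv_mem a'.2) a.2)
      rw [h1] at e2
      exact Prod.ext (Subtype.ext (inv_mul_eq_one.1 e2).symm)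
        (Subtype.ext (mul_inv_eq_one.1 h1).symm)
    · obtain ⟨a, ha, hr⟩ := kernel_split htf hbs h2 hF hz hzA hL ht
      exact ⟨(⟨a, ha⟩, ⟨_, hr⟩), Subtype.ext (mul_inv_cancel_left a t)⟩
  have h := Nat.card_eq_of_bijective _ hb
  rw [Nat.card_prod, h2.card, hF.card] at h
  omega

/-- The kernel is the kernel at each of its involutions. -/
theorem kernel_eq {s : G} (hs : s ∈ T ⊓ cen z L) (hs1 : s ≠ 1) {J : Subgroup (Bb s)}
    (hJ : Frame A s J) : T ⊓ cen s J = T ⊓ cen z L := by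
  have hsA := kernel_not_A htf hbs h2 hF hz hzA hL hs hs1
  obtain ⟨hzc, hz2, -⟩ := outer h2 hF hz hzA
  obtain ⟨hsc, hs2, -⟩ := outer h2 hF hs.1 hsA
  obtain ⟨J', hJ', -, -, hM, him⟩ := H21.WA.link h2.cfg hbs htf hzc hz2 hsc hs2 hL.met hs.2
  obtain rfl := met_unique h2 hF hJ hJ'
  set M := H88.Walter.perfPart (centralizer ({s} : Set G) ⊓ pre z L)
  have hMD : M ≤ centralizer ({s} : Set G) ⊓ pre z L := H88.Walter.perfPart_le _
  have hle : T ⊓ cen s J' ≤ T ⊓ cen z L := fun t ht => ⟨ht.1, H21.WA.centralizer_inf_cen_le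
    hL.met.1 ((hMD.trans inf_le_right).trans (H88.Walter.pre_le z L)) (hMD.trans inf_le_left) him hM
    ⟨le_centralizer_elt h2 hF hz ht.1, ht.2⟩⟩
  exact eq_of_le_of_card_ge hle (by
    rw [kernel_card htf hbs h2 hF hz hzA hL, kernel_card htf hbs h2 hF hs.1 hsA hJ])

/-- Different kernels meet trivially. -/
theorem kernel_disjoint {y : G} (hy : y ∈ T) (hyA : y ∉ A) {L' : Subgroup (Bb y)}
    (hL' : Frame A y L') (hyz : y ∉ T ⊓ cen z L) {s : G} (hs : s ∈ T ⊓ cen z L)
    (hs' : s ∈ T ⊓ cen y L') : s = 1 := by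
  by_contra hs1
  have hsA := kernel_not_A htf hbs h2 hF hz hzA hL hs hs1
  obtain ⟨J, hJ⟩ := exists_frame htf hbs h2 hF hs.1 hsA
  refine hyz ?_
  rw [← kernel_eq htf hbs h2 hF hz hzA hL hs hs1 hJ, kernel_eq htf hbs h2 hF hy hyA hL' hs' hs1 hJ]
  exact self_mem_kernel htf hbs h2 hF hy hyA hL'

theorem mul_not_A {a r : G} (ha : a ∈ A) (hr : r ∈ T ⊓ cen z L) (hr1 : r ≠ 1) : a * r ∉ A :=
  fun h => kernel_not_A htf hbs h2 hF hz hzA hL hr hr1 (by simpa using mul_mem (inv_mem ha) h)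

theorem mul_not_kernel {a r : G} (ha : a ∈ A) (ha1 : a ≠ 1) (hr : r ∈ T ⊓ cen z L) :
    a * r ∉ T ⊓ cen z L := fun h =>
  kernel_not_A htf hbs h2 hF hz hzA hL (by simpa using mul_mem h (inv_mem hr)) ha1 ha

/-- What centralizes `a` and the kernel centralizes `A` modulo the core of `C(ar)`. -/
theorem comm_mem_core_mul {a r g a' : G} (ha : a ∈ A) (ha1 : a ≠ 1) (hr : r ∈ T ⊓ cen z L)
    (hr1 : r ≠ 1) (hga : g ∈ centralizer ({a} : Set G))
    (hgR : g ∈ centralizer ((T ⊓ cen z L : Subgroup G) : Set G)) (ha' : a' ∈ A) :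
    g * a' * g⁻¹ * a'⁻¹ ∈ core (a * r) := by
  set R := T ⊓ cen z L with hR
  set y := a * r with hy
  have hyT : y ∈ T := mul_mem (hF.le ha) hr.1
  have hyA := mul_not_A htf hbs h2 hF hz hzA hL ha hr hr1
  have hyR : y ∉ R := mul_not_kernel htf hbs h2 hF hz hzA hL ha ha1 hr
  obtain ⟨Ly, hLy⟩ := exists_frame htf hbs h2 hF hyT hyA
  have hsplit : ∀ s : ↥R, ∃ b : ↥A, (b : G)⁻¹ * s ∈ T ⊓ cen y Ly := fun s => by
    obtain ⟨b, hb, h⟩ := kernel_split htf hbs h2 hF hyT hyA hLy s.2.1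
    exact ⟨⟨b, hb⟩, h⟩
  choose f hf using hsplit
  have hfi : Function.Injective f := fun s s' e => by
    have h1 : ((f s : G)⁻¹ * s)⁻¹ * ((f s' : G)⁻¹ * s') ∈ T ⊓ cen y Ly :=
      mul_mem (inv_mem (hf s)) (hf s')
    rw [e, show ((f s' : G)⁻¹ * s)⁻¹ * ((f s' : G)⁻¹ * s') = (s : G)⁻¹ * s' by group] at h1
    exact Subtype.ext (inv_mul_eq_one.1 (kernel_disjoint htf hbs h2 hF hz hzA hL hyT hyA hLy hyR
      (mul_mem (inv_mem s.2) s'.2) h1))
  obtain ⟨s, hs⟩ := (hfi.bijective_of_nat_card_le (by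
    rw [h2.card, kernel_card htf hbs h2 hF hz hzA hL])).2 ⟨a', ha'⟩
  have hs' := hf s
  rw [hs] at hs'
  obtain ⟨hcy, hcC⟩ := mem_pre.1 hs'.2
  have hgy : g ∈ centralizer ({y} : Set G) := mem_centralizer_singleton_iff.2
    ((show Commute g a from mem_centralizer_singleton_iff.1 hga).mul_right
      (show Commute g r from (mem_centralizer_iff.1 hgR r hr).symm)).eq
  have hsy : (s : G) ∈ centralizer ({y} : Set G) := le_centralizer_elt h2 hF hyT s.2.1
  have ha'y := A_le_centralizer h2 hF hyT ha'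
  have hay := A_le_centralizer h2 hF hyT ha
  set gb := coreProj y ⟨g, hgy⟩ with hgb
  set ab := coreProj y ⟨a', ha'y⟩ with hab
  set c := coreProj y (⟨_, hcy⟩ : ↥(centralizer ({y} : Set G))) with hc
  have hac : ab * c = coreProj y ⟨(s : G), hsy⟩ := by
    rw [hab, hc, ← map_mul]
    exact congrArg _ (Subtype.ext (mul_inv_cancel_left a' (s : G)))
  have hgN : gb ∈ normalizer (Ly : Set (Bb y)) :=
    mem_normalizer_component h2 hF hLy ha ha1 hay (by
      rw [hgb, commute_iff_eq, ← map_mul, ← map_mul]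
      exact congrArg _ (Subtype.ext (mem_centralizer_singleton_iff.1 hga)))
  have habL : ab ∈ Ly := hLy.le (H88.Walter.coreImage_mem ha'y ha')
  have hgs : gb * (ab * c) * gb⁻¹ = ab * c := by
    rw [hac, hgb, ← map_inv, ← map_mul, ← map_mul]
    refine congrArg _ (Subtype.ext ?_)
    show g * (s : G) * g⁻¹ = s
    rw [← mem_centralizer_iff.1 hgR s s.2, mul_inv_cancel_right]
  set j := gb * ab * gb⁻¹ * ab⁻¹ with hj
  have hjL : j ∈ Ly := mul_mem ((mem_normalizer_iff.1 hgN ab).1 habL) (inv_mem habL)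
  have hjC : j ∈ centralizer (Ly : Set (Bb y)) := by
    have hjeq : j = ab * (c * (gb * c⁻¹ * gb⁻¹)) * ab⁻¹ := by
      calc j = gb * (ab * c) * gb⁻¹ * (gb * c⁻¹ * gb⁻¹) * ab⁻¹ := by rw [hj]; group
        _ = _ := by rw [hgs]; group
    have hn : ∀ {n : Bb y}, n ∈ normalizer (Ly : Set (Bb y)) → ∀ {x : Bb y},
        x ∈ centralizer (Ly : Set (Bb y)) → n * x * n⁻¹ ∈ centralizer (Ly : Set (Bb y)) :=
      fun {n} hn {x} hx =>
        (mem_normalizer_iff.1 (Components.normalizer_le_normalizer_centralizer Ly hn) x).1 hx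
    rw [hjeq]
    exact hn (le_normalizer habL) (mul_mem hcC (hn hgN (inv_mem hcC)))
  have h1 : (⟨j, hjL⟩ : ↥Ly) ∈ center ↥Ly :=
    mem_center_iff.2 fun l => Subtype.ext (mem_centralizer_iff.1 hjC l l.2)
  rw [hLy.center_bot, mem_bot] at h1
  refine comm_mem_core hgy ha'y ?_
  exact mul_inv_eq_iff_eq_mul.1 (mul_inv_eq_one.1 (congrArg Subtype.val h1))

/-- The elements inverted by `b` lie in the cores. -/
theorem mem_cores {a b g : G} (ha : a ∈ A) (ha1 : a ≠ 1) (hb : b ∈ A)
    (hga : g ∈ centralizer ({a} : Set G))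
    (hgR : g ∈ centralizer ((T ⊓ cen z L : Subgroup G) : Set G)) (hinv : b * g * b⁻¹ = g⁻¹)
    (hodd : Odd (orderOf g)) :
    g ∈ core a ∧ ∀ r ∈ T ⊓ cen z L, r ≠ 1 → g ∈ core (a * r) := by
  have hsq : g * g = g * b * g⁻¹ * b⁻¹ := by
    calc g * g = g * (b * g * b⁻¹)⁻¹ := by rw [hinv, inv_inv]
      _ = g * b * g⁻¹ * b⁻¹ := by group
  refine ⟨mem_of_sq _ hodd (hsq ▸ comm_mem_core_self h2 hF ha ha1 hb hga), fun r hr hr1 => ?_⟩
  exact mem_of_sq _ hodd (hsq ▸ comm_mem_core_mul htf hbs h2 hF hz hzA hL ha ha1 hr hr1 hga hgR hb)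

/-- The elements inverted by `b` act on the component as its elements. -/
theorem mem_component {a b g : G} (ha : a ∈ A) (ha1 : a ≠ 1) (hb : b ∈ A)
    (hga : g ∈ centralizer ({a} : Set G)) (hgz : g ∈ centralizer ({z} : Set G))
    (hinv : b * g * b⁻¹ = g⁻¹) (hodd : Odd (orderOf g)) :
    coreProj z ⟨g, hgz⟩ ∈ L ∧
      Commute (coreProj z ⟨g, hgz⟩) (coreProj z ⟨a, A_le_centralizer h2 hF hz ha⟩) := by
  have hcomm : Commute (coreProj z ⟨g, hgz⟩) (coreProj z ⟨a, A_le_centralizer h2 hF hz ha⟩) := by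
    rw [commute_iff_eq, ← map_mul, ← map_mul]
    exact congrArg _ (Subtype.ext (mem_centralizer_singleton_iff.1 hga))
  refine ⟨mem_of_sq _ (odd_proj hgz hodd) ?_, hcomm⟩
  have hgN := mem_normalizer_component h2 hF hL ha ha1 _ hcomm
  have hbz := A_le_centralizer h2 hF hz hb
  have hbL : coreProj z ⟨b, hbz⟩ ∈ L := hL.le (H88.Walter.coreImage_mem hbz hb)
  have h := mul_mem ((mem_normalizer_iff.1 hgN _).1 hbL) (inv_mem hbL)
  rw [← map_inv, ← map_mul, ← map_mul, ← map_inv, ← map_mul] at h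
  rw [← map_mul]
  convert h using 2
  refine Subtype.ext ?_
  show g * g = g * b * g⁻¹ * b⁻¹
  calc g * g = g * (b * g * b⁻¹)⁻¹ := by rw [hinv, inv_inv]
    _ = g * b * g⁻¹ * b⁻¹ := by group

/-- The elements of odd order of `L` centralizing an involution of `A` lie in a cyclic group. -/
theorem exists_cyclic {a : G} (ha : a ∈ A) (ha1 : a ≠ 1) :
    ∃ C : Subgroup (Bb z), IsCyclic ↥C ∧ ∀ x ∈ L,
      Commute x (coreProj z ⟨a, A_le_centralizer h2 hF hz ha⟩) → Odd (orderOf x) → x ∈ C := by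
  set v := coreProj z ⟨a, A_le_centralizer h2 hF hz ha⟩ with hvdef
  have hvL : v ∈ L := hL.le (H88.Walter.coreImage_mem _ ha)
  have hv1 : v ≠ 1 := proj_ne_one h2 hF ha ha1 _
  have hv2 : v * v = 1 := by
    rw [hvdef, ← map_mul, show (⟨a, _⟩ * ⟨a, _⟩ : ↥(centralizer ({z} : Set G))) = 1 from
      Subtype.ext (H1.WA.sq_of_mem h2.cfg.elem ha), map_one]
  set π := QuotientGroup.mk' (center ↥L) with hπ
  have hπi : Function.Injective π := by
    rw [← MonoidHom.ker_eq_bot_iff, QuotientGroup.ker_mk', hL.center_bot]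
  rcases hL.atype.2.2.2 with ⟨F, _, _, n, hn, hq, ⟨i⟩⟩ | ⟨F, _, _, h5, h8, ⟨i⟩⟩ | hR
  · refine ⟨⊥, isCyclic_of_subsingleton, fun x hx hxv hodd => mem_bot.2 ?_⟩
    let φ : ↥L →* Matrix.ProjectiveSpecialLinearGroup (Fin 2) F := i.toMonoidHom.comp π
    have hφ : Function.Injective φ := i.injective.comp hπi
    have h := H50.WA.sq_centralizer_even n hn hq (v := φ ⟨v, hvL⟩)
      (fun e => hv1 (congrArg Subtype.val (hφ (e.trans (map_one φ).symm))))
      (by rw [← map_mul, show (⟨v, hvL⟩ : ↥L) * ⟨v, hvL⟩ = 1 from Subtype.ext hv2, map_one])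
      (x := φ ⟨x, hx⟩) (mem_centralizer_singleton_iff.2 (by
        rw [← map_mul, ← map_mul]; exact congrArg φ (Subtype.ext hxv.eq)))
    rw [← map_mul] at h
    have h' : x * x = 1 := congrArg Subtype.val (hφ (h.trans (map_one φ).symm))
    exact mem_bot.1 (mem_of_sq ⊥ hodd (by rw [h']; exact one_mem _))
  · let φ : ↥L →* Matrix.ProjectiveSpecialLinearGroup (Fin 2) F := i.toMonoidHom.comp π
    have hφ : Function.Injective φ := i.injective.comp hπi
    have hodd' : Odd (Fintype.card F) := Nat.odd_iff.2 (by omega)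
    set w := φ ⟨v, hvL⟩ with hw
    have hw1 : w ≠ 1 := fun e => hv1 (congrArg Subtype.val (hφ (e.trans (map_one φ).symm)))
    have hw2 : w * w = 1 := by
      rw [hw, ← map_mul, show (⟨v, hvL⟩ : ↥L) * ⟨v, hvL⟩ = 1 from Subtype.ext hv2, map_one]
    have hu := H88.Walter.PSL.not_isUni hodd' hw1 hw2
    haveI := Linear.Dickson.isCyclic_cen hu
    haveI : IsCyclic ↥((Linear.Dickson.cen w).comap φ) :=
      isCyclic_of_injective (φ.subgroupComap (Linear.Dickson.cen w)) fun x y e =>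
        Subtype.ext (hφ (congrArg Subtype.val e))
    refine ⟨((Linear.Dickson.cen w).comap φ).map L.subtype,
      isCyclic_of_surjective _ (L.subtype.subgroupMap_surjective _), fun x hx hxv hodd => ?_⟩
    refine ⟨⟨x, hx⟩, ?_, rfl⟩
    show φ ⟨x, hx⟩ ∈ Linear.Dickson.cen w
    have hN : φ ⟨x, hx⟩ ∈ centralizer ({w} : Set _) := mem_centralizer_singleton_iff.2 (by
      rw [hw, ← map_mul, ← map_mul]; exact congrArg φ (Subtype.ext hxv.eq))
    rw [H88.Walter.PSL.centralizer_eq hodd' hw1 hw2] at hN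
    rcases Linear.Dickson.normalizer_cases hu (mem_normalizer_iff.1 hN) with h | ⟨h, -⟩
    · exact h
    · rw [← map_mul] at h
      have h' : x * x = 1 := congrArg Subtype.val (hφ (h.trans (map_one φ).symm))
      have hx1 : x = 1 := mem_bot.1 (mem_of_sq ⊥ hodd (by rw [h']; exact one_mem _))
      rw [show (⟨x, hx⟩ : ↥L) = 1 from Subtype.ext hx1, map_one]
      exact one_mem _
  · exfalso
    obtain ⟨T₀, hT₀⟩ := ((H1.WA.isPGroup_of_elem (H21.WA.elem_coreImage h2.cfg.elem z) :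
      IsPGroup 2 ↥(coreImage z A)).comap_subtype (K := L)).exists_le_sylow
    have h8 := hR.1 (T₀.mapSurjective (QuotientGroup.mk'_surjective (center ↥L)))
    rw [Sylow.coe_mapSurjective, Subgroup.card_map_of_injective hπi, hL.sylow T₀ hT₀,
      Nat.card_congr (subgroupOfEquivOfLe hL.le).toEquiv,
      H1.WA.card_coreImage_A h2.cfg.elem (hF.le_cent hz), h2.card] at h8
    omega

/-- Elements of the core commuting with `a` and the kernel centralize `A`. -/
theorem commute_of_mem_core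
    (hE : ∀ E : Subgroup G, E ≤ T → 8 ≤ Nat.card E → Cfsg.signalizerDelta 2 E = ⊥)
    {a b g : G} (ha : a ∈ A) (ha1 : a ≠ 1) (hb : b ∈ A)
    (hga : g ∈ centralizer ({a} : Set G))
    (hgR : g ∈ centralizer ((T ⊓ cen z L : Subgroup G) : Set G)) (hgk : g ∈ core z) :
    Commute g b := by
  set R := T ⊓ cen z L with hR
  set d := g * b * g⁻¹ * b⁻¹ with hd
  have hbT := hF.le hb
  have hone : ∀ r ∈ R, r ≠ 1 → d ∈ core r := by
    intro r hr hr1
    have hrA := kernel_not_A htf hbs h2 hF hz hzA hL hr hr1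
    obtain ⟨J, hJ⟩ := exists_frame htf hbs h2 hF hr.1 hrA
    have hzJ : z ∈ cen r J := by
      have := self_mem_kernel htf hbs h2 hF hz hzA hL
      rw [← kernel_eq htf hbs h2 hF hz hzA hL hr hr1 hJ] at this
      exact this.2
    obtain ⟨hzr, hzC⟩ := mem_pre.1 hzJ
    have hgr : g ∈ centralizer ({r} : Set G) :=
      mem_centralizer_singleton_iff.2 (mem_centralizer_iff.1 hgR r hr).symm
    set W := coreImage r (core z ⊓ centralizer ({r} : Set G))
    have hWodd : Odd (Nat.card W) := H21.Walter.card_coreImage_odd r fun h =>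
      Nat.not_even_iff_odd.2 (H88.Walter.odd_of_le (H88.Walter.core_odd z) inf_le_left)
        (even_iff_two_dvd.2 h)
    have hWn : J ≤ normalizer (W : Set (Bb r)) := by
      refine le_trans ?_ (H21.Walter.centralizer_le_normalizer_coreImage
        (P := zpowers z) (IsPGroup.of_card (n := 1) (by
          rw [Nat.card_zpowers, (outer h2 hF hz hzA).2.1, pow_one]))
        ((inf_le_inf ((centralizer_le (Set.singleton_subset_iff.2 (mem_zpowers z))).trans
          (H88.Walter.core_normal z)) le_normalizer).trans inf_normalizer_le_normalizer_inf)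
        (zpowers_le.2 hzr))
      rw [le_centralizer_iff]
      intro w hw
      obtain ⟨x, hxr, hx, rfl⟩ := mem_coreImage.1 hw
      obtain ⟨i, rfl⟩ := mem_zpowers_iff.1 hx
      rw [show (⟨z ^ i, hxr⟩ : ↥(centralizer ({r} : Set G))) = ⟨z, hzr⟩ ^ i from
        Subtype.ext (by simp), map_zpow]
      exact zpow_mem hzC i
    have hWc := commutator_eq_bot_iff_le_centralizer.1 (Components.component_commutator_solvable
      hJ.met.1 (H21.WA.isSolvable_odd hWodd) hWn)
    have hgW : coreProj r ⟨g, hgr⟩ ∈ W := H88.Walter.coreImage_mem hgr ⟨hgk, hgr⟩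
    have hbr := A_le_centralizer h2 hF hr.1 hb
    have hbJ := hJ.le (H88.Walter.coreImage_mem hbr hb)
    exact comm_mem_core hgr hbr (mem_centralizer_iff.1 (hWc hbJ) _ hgW)
  set E := R ⊔ zpowers a with hEdef
  have haT := hF.le ha
  have hET : E ≤ T := sup_le inf_le_left (zpowers_le.2 haT)
  have hE8 : 8 ≤ Nat.card E := by
    have hlt : R < E := lt_of_le_of_ne le_sup_left fun e =>
      kernel_not_A htf hbs h2 hF hz hzA hL
        (show a ∈ R from e ▸ mem_sup_right (mem_zpowers a)) ha1 ha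
    have h4 : 4 < Nat.card E := by
      rw [← kernel_card htf hbs h2 hF hz hzA hL]
      exact lt_of_le_of_ne (card_le_of_le hlt.le) fun e => hlt.ne
        (eq_of_le_of_card_ge hlt.le e.ge)
    have h16 : Nat.card E ∣ 2 ^ 4 := by
      have := card_dvd_of_le hET
      rwa [hF.card] at this
    obtain ⟨k, hk, e⟩ := (Nat.dvd_prime_pow Nat.prime_two).1 h16
    rw [e] at h4 ⊢
    interval_cases k <;> omega
  have hmem : d ∈ Cfsg.signalizerDelta 2 E := by
    refine mem_iInf.2 fun ⟨e, he, he1⟩ => ?_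
    show d ∈ core e
    have hRn : zpowers a ≤ normalizer (R : Set G) := (zpowers_le.2
      (mem_centralizer_iff.2 fun s hs => (commute_T h2 hF hs.1 haT).eq)).trans
        (centralizer_le_normalizer _)
    obtain ⟨r, hr, w, hw, rfl⟩ := (Coprime.mem_sup_iff hRn).1 he
    obtain ⟨i, rfl⟩ := mem_zpowers_iff.1 hw
    rcases Int.even_or_odd i with ⟨j, rfl⟩ | ⟨j, rfl⟩
    · have h1 : a ^ (j + j) = 1 := by
        rw [← two_mul, zpow_mul, zpow_two, H1.WA.sq_of_mem h2.cfg.elem ha, one_zpow]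
      rw [h1, mul_one] at he1 ⊢
      exact hone r hr he1
    · have h1 : a ^ (2 * j + 1) = a := by
        rw [zpow_add_one, zpow_mul, zpow_two, H1.WA.sq_of_mem h2.cfg.elem ha, one_zpow, one_mul]
      rw [h1, (commute_T h2 hF hr.1 haT).eq] at he1 ⊢
      by_cases hr1 : r = 1
      · rw [hr1, mul_one]; exact comm_mem_core_self h2 hF ha ha1 hb hga
      · exact comm_mem_core_mul htf hbs h2 hF hz hzA hL ha ha1 hr hr1 hga hgR hb
  rw [hE E hET hE8, mem_bot] at hmem
  exact mul_inv_eq_iff_eq_mul.1 (mul_inv_eq_one.1 hmem)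

end Kernels

end Cfsg.Agent.H48.WA.FM
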