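import Cfsg.Agent.H48.WA.FourTori
import Cfsg.Agent.H48.WA.FourEnd
import Cfsg.Agent.H88.Walter.Conj
import Cfsg.Agent.H47.FourFreeTools
import Mathlib.GroupTheory.Abelianization.Defs

/-!
# `|A| = 4`, `T` of order 16: the tori give an element of order 4

An element of the torus at `z` lies in the core of `C(za)`; a chief factor of the centralizer of
the kernel of `za` on that core has three lines as fixed spaces of the involutions of `A`, the
conjugate element of the torus at `za` induces a transvection and with the rotation of `A` an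
element of order 4, but the Sylow 2-subgroup of `C(za)` is elementary.
-/

set_option autoImplicit false
set_option linter.unusedSectionVars false
set_option linter.unusedVariables false
set_option linter.style.haveILetI false

namespace Cfsg.Agent.H48.WA.FM

open Subgroup Cfsg.Agent
open Cfsg.Agent.H88.Walter (Bb pre cen core mem_pre barEquiv centEquiv)
open Cfsg.Agent.H21.Walter (coreProj coreImage coreProj_eq_one_iff)
open Cfsg.Agent.H21.WA (mem_coreImage)
open Cfsg.Agent.H1.WA (Frame)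
open Cfsg.Agent.H77.WA

universe u

local instance fact_two_module : Fact (Nat.Prime 2) := ⟨Nat.prime_two⟩

variable {G : Type u} [Group G] [Finite G]

/-- A group whose 2-elements are involutions has no image with an element of order 4. -/
theorem sq_range {H K : Type*} [Group H] [Finite H] [Group K] (φ : H →* K)
    (h : ∀ g : H, (∃ k : ℕ, g ^ 2 ^ k = 1) → g * g = 1) :
    ∀ m ∈ φ.range, m ^ 4 = 1 → m ^ 2 = 1 := by
  rintro _ ⟨g, rfl⟩ h4
  obtain ⟨n, o, ho, hno⟩ := Nat.exists_eq_two_pow_mul_odd (orderOf_pos g).ne'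
  have h2 := h (g ^ o) ⟨n, by rw [← pow_mul, mul_comm, ← hno, pow_orderOf_eq_one]⟩
  have h3 : φ g ^ (2 * o) = 1 := by
    rw [two_mul, pow_add, ← map_pow, ← map_mul, h2, map_one]
  have h5 : orderOf (φ g) ∣ Nat.gcd (2 * 2) (2 * o) :=
    Nat.dvd_gcd (orderOf_dvd_of_pow_eq_one (n := 2 * 2) h4) (orderOf_dvd_of_pow_eq_one h3)
  rw [Nat.gcd_mul_left, show Nat.gcd 2 o = 1 from Nat.coprime_two_left.2 ho, mul_one] at h5
  exact orderOf_dvd_iff_pow_eq_one.1 h5

/-- A subgroup of `H`-invariant commutators and `p`-th powers misses `x`. -/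
theorem exists_factor {H M₀ : Subgroup G} (hM₀ : Odd (Nat.card M₀))
    (hH : H ≤ normalizer (M₀ : Set G)) {p e : ℕ} [hp : Fact p.Prime] {t x : G} (htH : t ∈ H)
    (htc : ∀ h ∈ H, Commute h t) (hxM : x ∈ M₀) (hxp : x ^ p ^ e = 1) (hx1 : x ≠ 1)
    (hxt : t * x * t⁻¹ = x⁻¹) :
    ∃ M N : Subgroup G, M ≤ M₀ ∧ N ≤ M ∧ H ≤ normalizer (M : Set G) ∧
      H ≤ normalizer (N : Set G) ∧ M ≤ normalizer (N : Set G) ∧
      (∀ m ∈ M, ∀ n ∈ M, m * n * m⁻¹ * n⁻¹ ∈ N) ∧ (∀ m ∈ M, m ^ p ∈ N) ∧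
      x ∈ M ∧ x ∉ N ∧ ∀ m ∈ M, t * m * t⁻¹ * m ∈ N := by
  obtain ⟨M, ⟨hxM', hMM₀, hHM⟩, hmin⟩ :=
    (Set.toFinite {M : Subgroup G | x ∈ M ∧ M ≤ M₀ ∧ H ≤ normalizer (M : Set G)}).exists_minimal
      ⟨M₀, hxM, le_rfl, hH⟩
  have hHD : H ≤ normalizer ((⁅M, M⁆ : Subgroup G) : Set G) := fun h hh =>
    H39.mem_normalizer_iff_map_conj.2 (by
      rw [map_commutator, Coprime.map_conj_eq (hHM hh)])
  have hxD : x ∉ ⁅M, M⁆ := fun hx => hx1 (by
    have hle : M ≤ ⁅M, M⁆ := hmin ⟨hx, (commutator_le_self M).trans hMM₀, hHD⟩ (commutator_le_self M)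
    have h1 := H88.Walter.perfect_odd_eq_bot (le_antisymm (commutator_le_self M) hle)
      (H88.Walter.odd_of_le hM₀ hMM₀)
    rw [h1, mem_bot] at hxM'
    exact hxM')
  set N := ⁅M, M⁆ ⊔ Subgroup.closure ((fun m => m ^ p) '' (M : Set G)) with hN
  have hNM : N ≤ M := sup_le (commutator_le_self M) ((Subgroup.closure_le _).2 (by
    rintro _ ⟨m, hm, rfl⟩; exact pow_mem hm p))
  have hHN : H ≤ normalizer (N : Set G) := fun h hh => by
    have hle : N ≤ N.comap (MulAut.conj h).toMonoidHom := sup_le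
      (fun d hd => mem_sup_left ((mem_normalizer_iff.1 (hHD hh) d).1 hd))
      ((Subgroup.closure_le _).2 (by
        rintro _ ⟨m, hm, rfl⟩
        refine mem_sup_right (Subgroup.subset_closure ⟨h * m * h⁻¹,
          (mem_normalizer_iff.1 (hHM hh) m).1 hm, ?_⟩)
        exact conj_pow))
    exact H39.mem_normalizer_of_conj_mem fun d hd => hle hd
  have hcomm : ∀ m ∈ M, ∀ n ∈ M, m * n * m⁻¹ * n⁻¹ ∈ N := fun m hm n hn =>
    mem_sup_left (commutatorElement_def m n ▸ commutator_mem_commutator hm hn)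
  have hMN : M ≤ normalizer (N : Set G) := fun m hm =>
    H39.mem_normalizer_of_conj_mem fun d hd => by
      have := mul_mem (hcomm m hm d (hNM hd)) hd
      rwa [inv_mul_cancel_right] at this
  have hxN : x ∉ N := fun hx => hxD (by
    have hle : M ≤ N := hmin ⟨hx, hNM.trans hMM₀, hHN⟩ hNM
    set f := (powMonoidHom p : Abelianization ↥M →* Abelianization ↥M)
    have hker : ∀ d : ↥M, Abelianization.of d = 1 ↔ (d : G) ∈ ⁅M, M⁆ := fun d => by
      rw [← map_subtype_commutator]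
      exact (QuotientGroup.eq_one_iff d).trans (Subgroup.mem_map_iff_mem M.subtype_injective).symm
    have hsurj : Function.Surjective f := by
      intro q
      obtain ⟨m, rfl⟩ := QuotientGroup.mk_surjective q
      have hK : N ≤ (f.range.comap Abelianization.of).map M.subtype := by
        refine sup_le (fun d hd => ⟨⟨d, commutator_le_self M hd⟩, ?_, rfl⟩)
          ((Subgroup.closure_le _).2 ?_)
        · show Abelianization.of _ ∈ f.range
          rw [(hker _).2 hd]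
          exact one_mem _
        · rintro _ ⟨n, hn, rfl⟩
          exact ⟨⟨n, hn⟩ ^ p, ⟨Abelianization.of ⟨n, hn⟩, (map_pow _ _ _).symm⟩, rfl⟩
      obtain ⟨m', hm', e'⟩ := hK (hle m.2)
      obtain rfl : m' = m := Subtype.ext e'
      exact hm'
    have hinj := (Finite.injective_iff_surjective).2 hsurj
    have key : ∀ i, ∀ q : Abelianization ↥M, q ^ p ^ i = 1 → q = 1 := by
      intro i
      induction i with
      | zero => intro q hq; simpa using hq
      | succ i ih =>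
        intro q hq
        rw [pow_succ, pow_mul] at hq
        exact ih q (hinj (show f (q ^ p ^ i) = f 1 by rw [map_one]; exact hq))
    exact (hker ⟨x, hxM'⟩).1 (key e _ (by
      rw [← map_pow, show (⟨x, hxM'⟩ : ↥M) ^ p ^ e = 1 from Subtype.ext (by simpa using hxp),
        map_one])))
  -- `t` inverts the factor
  have hinv : ∀ m ∈ M, t * m * t⁻¹ * m ∈ N := by
    set X := {m ∈ (M : Set G) | t * m * t⁻¹ = m⁻¹}
    have hX : M ≤ Subgroup.closure X := hmin
      ⟨Subgroup.subset_closure ⟨hxM', hxt⟩,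
        ((Subgroup.closure_le _).2 fun m hm => hm.1).trans hMM₀,
        fun h hh => H39.mem_normalizer_of_conj_mem fun d hd => by
          have hle : Subgroup.closure X ≤
              (Subgroup.closure X).comap (MulAut.conj h).toMonoidHom := by
            refine (Subgroup.closure_le _).2 fun m hm => Subgroup.subset_closure
              ⟨(mem_normalizer_iff.1 (hHM hh) m).1 hm.1, ?_⟩
            show t * (h * m * h⁻¹) * t⁻¹ = (h * m * h⁻¹)⁻¹
            calc t * (h * m * h⁻¹) * t⁻¹ = (t * h) * m * (t * h)⁻¹ := by group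
              _ = h * (t * m * t⁻¹) * h⁻¹ := by rw [← (htc h hh).eq]; group
              _ = (h * m * h⁻¹)⁻¹ := by rw [hm.2]; group
          exact hle hd⟩
      ((Subgroup.closure_le _).2 fun m hm => hm.1)
    intro m hm
    have key : m ∈ M ∧ t * m * t⁻¹ * m ∈ N := by
      refine Subgroup.closure_induction (p := fun m _ => m ∈ M ∧ t * m * t⁻¹ * m ∈ N) ?_ ?_ ?_ ?_
        (hX hm)
      · rintro y ⟨hy, hy'⟩
        exact ⟨hy, by rw [hy', inv_mul_cancel]; exact one_mem _⟩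
      · exact ⟨one_mem _, by simp⟩
      · rintro y y' - - ⟨hy, h1⟩ ⟨hy', h1'⟩
        refine ⟨mul_mem hy hy', ?_⟩
        have htN := (mem_normalizer_iff.1 (hMN ((mem_normalizer_iff.1 (hHM htH) y).1 hy)) _).1 h1'
        rw [show t * (y * y') * t⁻¹ * (y * y') = (t * y * t⁻¹) * (t * y' * t⁻¹ * y') *
          (t * y * t⁻¹)⁻¹ * ((t * y * t⁻¹) * (y'⁻¹ * y * y' * y⁻¹) * (t * y * t⁻¹)⁻¹) *
            ((t * y * t⁻¹) * y) * (y⁻¹ * (y'⁻¹ * y'⁻¹⁻¹) * y) by group] at *
        refine mul_mem (mul_mem (mul_mem htN ((mem_normalizer_iff.1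
          (hMN ((mem_normalizer_iff.1 (hHM htH) y).1 hy)) _).1 ?_)) h1) (by simp)
        have := hcomm y'⁻¹ (inv_mem hy') y hy
        simpa using this
      · rintro y - ⟨hy, h1⟩
        refine ⟨inv_mem hy, ?_⟩
        have htyN := hMN ((mem_normalizer_iff.1 (hHM htH) y).1 hy)
        rw [show t * y⁻¹ * t⁻¹ * y⁻¹ = (t * y * t⁻¹)⁻¹ * (t * y * t⁻¹ * y)⁻¹ *
          ((t * y * t⁻¹)⁻¹)⁻¹ by group]
        exact (mem_normalizer_iff.1 (Subgroup.inv_mem _ htyN) _).1 (inv_mem h1)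
    exact key.2
  exact ⟨M, N, hMM₀, hNM, hHM, hHN, hMN, hcomm, fun m hm =>
    mem_sup_right (Subgroup.subset_closure ⟨m, hm, rfl⟩), hxM', hxN, hinv⟩

set_option maxHeartbeats 1600000 in
/-- **(c): the tori give an element of order 4 in a component.** -/
theorem fourModuleStep : TypeFacts.{u} → BarStruct.{u} → FourModuleStep.{u} := by
  intro htf hbs G _ _ S A T P h2 hF hP hE hB
  have hA := h2.cfg.elem
  obtain ⟨z, hz, hzA⟩ : ∃ z ∈ T, z ∉ A := by
    by_contra! hno
    have h := card_le_of_le hno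
    rw [hF.card, h2.card] at h
    omega
  obtain ⟨L, hL⟩ := exists_frame htf hbs h2 hF hz hzA
  obtain ⟨a, ha, ha1, b, hb, hb1, hab, x, hxz, p, e, hp, hp2, hxp, hxa, hxR, hxb, hxodd, hxne⟩ :=
    exists_start htf hbs h2 hF hz hzA hL
  haveI : Fact p.Prime := ⟨hp⟩
  obtain ⟨n, ⟨hnA, hnT⟩, -, hn⟩ := hF.transl z hz a ha hzA
  set y := n * z * n⁻¹ with hy
  have hyT : y ∈ T := by rw [hn]; exact mul_mem hz (hF.le ha)
  have hyza : y = a * z := hn.trans (commute_T h2 hF hz (hF.le ha)).eq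
  have hyA : y ∉ A := by
    rw [hyza]
    exact mul_not_A htf hbs h2 hF hz hzA hL ha (self_mem_kernel htf hbs h2 hF hz hzA hL)
      fun e => hzA (e ▸ one_mem A)
  obtain ⟨L', hL'⟩ := exists_frame htf hbs h2 hF hyT hyA
  have hAz := A_le_centralizer h2 hF hz
  -- transport
  have hLmap : L.map (barEquiv n z).toMonoidHom = L' := by
    refine met_unique h2 hF hL' ⟨Components.component_map_equiv _ hL.met.1, fun hle => hL.met.2 ?_⟩
    intro q hq
    refine mem_centralizer_iff.2 fun l hl => (barEquiv n z).injective ?_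
    obtain ⟨c, hcz, hc, rfl⟩ := mem_coreImage.1 hq
    have h : barEquiv n z (coreProj z ⟨c, hcz⟩) ∈ coreImage y A := by
      rw [H88.Walter.barEquiv_proj]
      refine H88.Walter.coreImage_mem _ ?_
      show n * c * n⁻¹ ∈ A
      rw [H1.WA.conj_comm hnA hc]
      exact hc
    rw [map_mul, map_mul]
    exact mem_centralizer_iff.1 (hle h) _ (mem_map_of_mem _ hl)
  set R := T ⊓ cen z L with hRdef
  set R' := T ⊓ cen y L' with hR'def
  have hRR' : R.map (MulAut.conj n).toMonoidHom = R' := by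
    rw [hRdef, hR'def, map_inf _ _ _ (MulAut.conj n).injective, Coprime.map_conj_eq hnT, ← hLmap,
      cen, cen, H88.Walter.map_pre, H88.Walter.map_centralizer_equiv]
  have hyR : y ∉ R := hyza ▸ mul_not_kernel htf hbs h2 hF hz hzA hL ha ha1
    (self_mem_kernel htf hbs h2 hF hz hzA hL)
  have hdisj : ∀ {s : G}, s ∈ R → s ∈ R' → s = 1 := fun hs hs' =>
    kernel_disjoint htf hbs h2 hF hz hzA hL hyT hyA hL' hyR hs hs'
  have hzR : z ∈ R := self_mem_kernel htf hbs h2 hF hz hzA hL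
  have hyR' : y ∈ R' := self_mem_kernel htf hbs h2 hF hyT hyA hL'
  -- `t`
  obtain ⟨t, ht, ht1, hty⟩ : ∃ t ∈ R', t ≠ 1 ∧ t ≠ y := by
    by_contra! hno
    have hle : R' ≤ zpowers y := fun s hs => by
      by_cases hs1 : s = 1
      · subst hs1; exact one_mem _
      · exact hno s hs hs1 ▸ mem_zpowers y
    have h4 := card_le_of_le hle
    rw [kernel_card htf hbs h2 hF hyT hyA hL', Nat.card_zpowers, (outer h2 hF hyT hyA).2.1] at h4
    omega
  obtain ⟨a', ha', hr₀⟩ := kernel_split htf hbs h2 hF hz hzA hL ht.1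
  set r₀ := a'⁻¹ * t with hr₀def
  have htr : t = a' * r₀ := (mul_inv_cancel_left a' t).symm
  have ha'1 : a' ≠ 1 := fun e => ht1 (hdisj (by rw [htr, e, one_mul]; exact hr₀) ht)
  have ha'a : a' ≠ a := fun e => hty (by
    have h1 : y⁻¹ * t = z⁻¹ * r₀ := by rw [hyza, htr, e]; group
    exact (inv_mul_eq_one.1 (hdisj (h1 ▸ mul_mem (inv_mem hzR) hr₀)
      (mul_mem (inv_mem hyR') ht))).symm)
  have ha'c : a' = b ∨ a' = a * b := by
    rcases four_cases hA h2.card ha hb ha1 hb1 hab ha' with h | h | h | h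
    · exact absurd h ha'1
    · exact absurd h ha'a
    · exact Or.inl h
    · exact Or.inr h
  have hax : Commute a x := (mem_centralizer_singleton_iff.1 hxa).symm
  have htx : t * x * t⁻¹ = x⁻¹ := by
    have hrx : r₀ * x * r₀⁻¹ = x := by
      rw [mem_centralizer_iff.1 hxR r₀ hr₀, mul_inv_cancel_right]
    rw [htr, show a' * r₀ * x * (a' * r₀)⁻¹ = a' * (r₀ * x * r₀⁻¹) * a'⁻¹ by group, hrx]
    rcases ha'c with rfl | rfl
    · exact hxb
    · rw [show a * b * x * (a * b)⁻¹ = a * (b * x * b⁻¹) * a⁻¹ by group, hxb,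
        hax.inv_right.eq, mul_inv_cancel_right]
  -- the group acting
  set H := centralizer (R' : Set G) with hH
  have hTH : T ≤ H := fun s hs => mem_centralizer_iff.2 fun r hr => (commute_T h2 hF hr.1 hs).eq
  have hHy : H ≤ centralizer ({y} : Set G) := centralizer_le (Set.singleton_subset_iff.2 hyR')
  have hxy : x ∈ core y := hyza ▸ (mem_cores htf hbs h2 hF hz hzA hL ha ha1 hb hxa hxR hxb hxodd).2
    z hzR fun e => hzA (e ▸ one_mem A)
  have hx1 : x ≠ 1 := fun e => hxne (by subst e; exact map_one (coreProj z))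
  obtain ⟨M, N, hMy, hNM, hHM, hHN, hMN, hcomm, hpow, hxM, hxN, hinv⟩ :=
    exists_factor (H := H) (H88.Walter.core_odd y) (hHy.trans (H88.Walter.core_normal y)) (p := p)
      (e := e) (hTH ht.1) (fun h hh => (mem_centralizer_iff.1 hh t ht).symm) hxy hxp hx1 htx
  haveI : (N.subgroupOf M).Normal := normal_subgroupOf_of_le_normalizer hMN
  letI : CommGroup (↥M ⧸ N.subgroupOf M) :=
    { (inferInstance : Group (↥M ⧸ N.subgroupOf M)) with
      mul_comm := fun q q' => by
        obtain ⟨m, rfl⟩ := QuotientGroup.mk_surjective q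
        obtain ⟨m', rfl⟩ := QuotientGroup.mk_surjective q'
        rw [← QuotientGroup.mk_mul, ← QuotientGroup.mk_mul, QuotientGroup.eq, mem_subgroupOf]
        have := hcomm (m' : G)⁻¹ (inv_mem m'.2) (m : G)⁻¹ (inv_mem m.2)
        simpa [mul_assoc] using this }
  let π : ↥M →* ↥M ⧸ N.subgroupOf M := QuotientGroup.mk' _
  have hπs : Function.Surjective π := QuotientGroup.mk'_surjective _
  have hW : ∀ w : ↥M ⧸ N.subgroupOf M, w ^ p = 1 := fun w => by
    obtain ⟨m, rfl⟩ := hπs w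
    rw [← map_pow]
    exact (QuotientGroup.eq_one_iff _).2 (mem_subgroupOf.2 (by simpa using hpow m m.2))
  obtain ⟨φ, hact⟩ : ∃ φ : ↥H →* MulAut (↥M ⧸ N.subgroupOf M), ∀ (g : ↥H) (m : ↥M), φ g (π m) =
      π ⟨(g : G) * m * (g : G)⁻¹, (mem_normalizer_iff.1 (hHM g.2) m).1 m.2⟩ :=
    ⟨H47.FF.sectionHom H M N hHM hHN, fun g m => rfl⟩
  have hfix : ∀ (g : ↥H) (m : ↥M), Commute (g : G) m → φ g (π m) = π m := fun g m hgm => by
    rw [hact]
    refine congrArg π (Subtype.ext ?_)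
    show (g : G) * m * (g : G)⁻¹ = m
    rw [hgm.eq, mul_inv_cancel_right]
  have hty' : ∀ w, φ ⟨y, hTH hyT⟩ w = w := fun w => by
    obtain ⟨m, rfl⟩ := hπs w
    exact hfix _ _ (mem_centralizer_singleton_iff.1 (H88.Walter.core_le y (hMy m.2))).symm
  have htinv : ∀ w, φ ⟨t, hTH ht.1⟩ w = w⁻¹ := fun w => by
    obtain ⟨m, rfl⟩ := hπs w
    rw [hact]
    refine eq_inv_of_mul_eq_one_left ?_
    rw [← map_mul]
    exact (QuotientGroup.eq_one_iff _).2 (mem_subgroupOf.2 (hinv m m.2))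
  -- the involutions of `A`
  set ah : ↥H := ⟨a, hTH (hF.le ha)⟩ with hah
  set bh : ↥H := ⟨b, hTH (hF.le hb)⟩ with hbh
  have ha2 : φ ah * φ ah = 1 := by
    rw [← map_mul, show ah * ah = 1 from Subtype.ext (H1.WA.sq_of_mem hA ha), map_one]
  have hb2 : φ bh * φ bh = 1 := by
    rw [← map_mul, show bh * bh = 1 from Subtype.ext (H1.WA.sq_of_mem hA hb), map_one]
  have hba : φ bh * φ ah = φ ah * φ bh := by
    rw [← map_mul, ← map_mul, show bh * ah = ah * bh from Subtype.ext (H1.WA.comm_of_mem hA hb ha)]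
  have hNodd : ¬ 2 ∣ Nat.card ↥N := fun h => Nat.not_even_iff_odd.2
    (H88.Walter.odd_of_le (H88.Walter.core_odd y) (hNM.trans hMy)) (even_iff_two_dvd.2 h)
  -- lifting fixed elements
  have hlift : ∀ (w : ↥M ⧸ N.subgroupOf M) (B : Subgroup G), IsPGroup 2 ↥B → ∀ hBH : B ≤ H,
      (∀ g, ∀ hg : g ∈ B, φ ⟨g, hBH hg⟩ w = w) →
      ∃ g : ↥M, (g : G) ∈ centralizer (B : Set G) ∧ π g = w := by
    intro w B hBp hBH hfx
    obtain ⟨m, rfl⟩ := hπs w
    obtain ⟨d, hd, hc⟩ := Coprime.exists_commute_mem_coset (k := (m : G)) (p := 2) (P := B) (N := N)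
      hBp (hBH.trans hHN) hNodd (fun g hg => by
        have h := (hfx g hg).symm
        rw [hact] at h
        have h' := QuotientGroup.eq.1 h
        rw [mem_subgroupOf] at h'
        simpa using h')
    refine ⟨⟨(m : G) * d, mul_mem m.2 (hNM hd)⟩, hc, ?_⟩
    rw [show (⟨(m : G) * d, mul_mem m.2 (hNM hd)⟩ : ↥M) = m * ⟨d, hNM hd⟩ from rfl, map_mul,
      show π ⟨d, hNM hd⟩ = 1 from (QuotientGroup.eq_one_iff _).2 (mem_subgroupOf.2 hd), mul_one]
  have hTp : IsPGroup 2 ↥T := H47.isPGroup_of_elementaryAbelian hF.elem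
  have hnofix : ∀ w, φ ah w = w → φ bh w = w → w = 1 := by
    intro w hwa hwb
    obtain ⟨g, hgA, rfl⟩ := hlift w A (H1.WA.isPGroup_of_elem hA) (hF.le.trans hTH) (fun c hc => by
      rcases four_cases hA h2.card ha hb ha1 hb1 hab hc with rfl | rfl | rfl | rfl
      · rw [show (⟨1, (hF.le.trans hTH) hc⟩ : ↥H) = 1 from rfl, map_one, MulAut.one_apply]
      · exact hwa
      · exact hwb
      · rw [show (⟨a * b, (hF.le.trans hTH) hc⟩ : ↥H) = ah * bh from rfl, map_mul,
          MulAut.mul_apply, hwb, hwa])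
    have hgT : (g : G) ∈ centralizer (T : Set G) := by
      have hgO : (g : G) ∈ Cfsg.signalizerDelta 2 A := mem_iInf.2 fun ⟨c, hc, hc1⟩ =>
        core_inf_le h2 hF hP hyT hyA hc hc1
          ⟨hMy g.2, centralizer_le (Set.singleton_subset_iff.2 hc) hgA⟩
      exact map_subtype_le _ (hB A hF.le h2.card.ge hgO)
    refine eq_one_of_eq_inv hW hp2 ?_
    rw [← htinv, hfix ⟨t, hTH ht.1⟩ g (mem_centralizer_iff.1 hgT t ht.1)]
  have hinvb : ∀ w, φ ah w = w → φ bh w = w⁻¹ := fun w hw => by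
    refine eq_inv_of_mul_eq_one_left (hnofix _ ?_ ?_)
    · rw [map_mul, ← MulAut.mul_apply, ← hba, MulAut.mul_apply, hw]
    · rw [map_mul, ← MulAut.mul_apply, hb2, MulAut.one_apply, mul_comm]
  -- the line of `a`
  set x₀ := π ⟨x, hxM⟩ with hx₀def
  have hx₀ : x₀ ≠ 1 := fun h => hxN (mem_subgroupOf.1 ((QuotientGroup.eq_one_iff _).1 h))
  have hax₀ : φ ah x₀ = x₀ := hfix _ _ hax
  have hRfix : ∀ w, φ ah w = w → ∀ r, ∀ hr : r ∈ R, φ ⟨r, hTH hr.1⟩ w = w := by
    intro w hw r hr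
    have hzw : φ ⟨z, hTH hz⟩ w = w := by
      have e : (⟨y, hTH hyT⟩ : ↥H) = ah * ⟨z, hTH hz⟩ := Subtype.ext hyza
      have h := hty' w
      rw [e, map_mul, MulAut.mul_apply] at h
      refine (φ ah).injective ?_
      rw [h, hw]
    have hr₀w : φ ⟨r₀, hTH hr₀.1⟩ w = w := by
      have e : (⟨t, hTH ht.1⟩ : ↥H) = ⟨a', hTH (hF.le ha')⟩ * ⟨r₀, hTH hr₀.1⟩ := Subtype.ext htr
      have h := htinv w
      rw [e, map_mul, MulAut.mul_apply] at h
      refine (φ ⟨a', hTH (hF.le ha')⟩).injective ?_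
      rw [h]
      rcases ha'c with h' | h'
      · rw [show (⟨a', hTH (hF.le ha')⟩ : ↥H) = bh from Subtype.ext h', hinvb w hw]
      · rw [show (⟨a', hTH (hF.le ha')⟩ : ↥H) = ah * bh from Subtype.ext h', map_mul,
          MulAut.mul_apply, hinvb w hw, map_inv, hw]
    have hr₀1 : r₀ ≠ 1 := fun e => kernel_not_A htf hbs h2 hF hyT hyA hL' ht ht1
      (by rw [htr, e, mul_one]; exact ha')
    have hr₀z : z ≠ r₀ := fun e => ha'a (by
      have h1 : t * y⁻¹ = a' * a⁻¹ := by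
        rw [htr, hyza, ← e, mul_inv_rev]; group
      have h2' : t * y⁻¹ = 1 := by
        by_contra hne
        exact kernel_not_A htf hbs h2 hF hyT hyA hL' (mul_mem ht (inv_mem hyR')) hne
          (h1 ▸ mul_mem ha' (inv_mem ha))
      exact mul_inv_eq_one.1 (h1 ▸ h2'))
    have hRel : Cfsg.IsElementaryAbelian 2 R :=
      ⟨⟨⟨fun s s' => Subtype.ext (commute_T h2 hF s.2.1 s'.2.1).eq⟩⟩,
        fun s hs => hF.elem.2 s hs.1⟩
    rcases four_cases hRel (kernel_card htf hbs h2 hF hz hzA hL) hzR hr₀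
      (fun e => hzA (e ▸ one_mem A)) hr₀1 hr₀z hr with rfl | rfl | h | h
    · rw [show (⟨1, hTH hr.1⟩ : ↥H) = 1 from rfl, map_one, MulAut.one_apply]
    · exact hzw
    · rw [show (⟨r, hTH hr.1⟩ : ↥H) = ⟨r₀, hTH hr₀.1⟩ from Subtype.ext h, hr₀w]
    · rw [show (⟨r, hTH hr.1⟩ : ↥H) = ⟨z, hTH hz⟩ * ⟨r₀, hTH hr₀.1⟩ from Subtype.ext h, map_mul,
        MulAut.mul_apply, hr₀w, hzw]
  set D := {d : ↥M | (d : G) ∈ centralizer ({a} : Set G) ∧ (d : G) ∈ centralizer (R : Set G) ∧
    b * d * b⁻¹ = (d : G)⁻¹} with hD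
  set Q := Subgroup.closure D with hQ
  have hQC : ∀ g ∈ Q, (g : G) ∈ centralizer ({a} : Set G) ∧ (g : G) ∈ centralizer (R : Set G) := by
    intro g hg
    have h : Q ≤ (centralizer ({a} : Set G) ⊓ centralizer (R : Set G)).subgroupOf M :=
      (Subgroup.closure_le _).2 fun d hd => ⟨hd.1, hd.2.1⟩
    exact h hg
  have hQz : ∀ g ∈ Q, (g : G) ∈ centralizer ({z} : Set G) := fun g hg =>
    centralizer_le (Set.singleton_subset_iff.2 hzR) (hQC g hg).2
  let f : ↥Q →* Bb z := (coreProj z).comp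
    ((M.subtype.comp Q.subtype).codRestrict _ fun g => hQz g g.2)
  obtain ⟨C, hC, hCmem⟩ := exists_cyclic htf hbs h2 hF hz hzA hL ha ha1
  have hfC : f.range ≤ C := by
    have h : ∀ g : ↥M, ∀ hg : g ∈ Q, f ⟨g, hg⟩ ∈ C := by
      intro g hg
      induction hg using Subgroup.closure_induction with
      | mem d hd =>
        have hdz : (d : G) ∈ centralizer ({z} : Set G) := hQz d (Subgroup.subset_closure hd)
        have hodd : Odd (orderOf (d : G)) :=
          H88.Walter.odd_of_mem (H88.Walter.core_odd y) (hMy d.2)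
        obtain ⟨h1, h1'⟩ := mem_component htf hbs h2 hF hz hzA hL ha ha1 hb hd.1 hdz hd.2.2 hodd
        exact hCmem _ h1 h1' (odd_proj hdz hodd)
      | one => exact (show f 1 ∈ C by rw [map_one]; exact one_mem C)
      | mul g g' hg hg' ih ih' =>
        have := mul_mem ih ih'
        rwa [← map_mul] at this
      | inv g hg ih =>
        have := inv_mem ih
        rwa [← map_inv] at this
    rintro _ ⟨g, rfl⟩
    exact h g g.2
  haveI := hC
  haveI : IsCyclic ↥f.range := isCyclic_of_injective (inclusion hfC) (inclusion_injective hfC)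
  obtain ⟨⟨_, g₀, rfl⟩, hg₀⟩ := IsCyclic.exists_generator (α := ↥f.range)
  set v₀ := π g₀ * (φ bh (π g₀))⁻¹ with hv₀
  have hmem₀ : ∀ w, φ ah w = w → w ∈ zpowers v₀ := by
    intro w hw
    set E := R ⊔ zpowers a with hEdef
    have hET : E ≤ T := sup_le inf_le_left (zpowers_le.2 (hF.le ha))
    obtain ⟨g, hgE, rfl⟩ := hlift w E (hTp.to_le hET) (hET.trans hTH) (fun c hc => by
      let St : Subgroup ↥H :=
        { carrier := {g | φ g w = w}
          one_mem' := by simp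
          mul_mem' := fun {g g'} hg hg' => by
            simp only [Set.mem_ofPred_eq, map_mul, MulAut.mul_apply] at *
            rw [hg', hg]
          inv_mem' := fun {g} hg => by
            simp only [Set.mem_ofPred_eq] at *
            rw [map_inv]
            conv_lhs => rw [← hg, MulAut.inv_apply_self] }
      have hle : E ≤ St.map H.subtype :=
        sup_le (fun r hr => ⟨⟨r, hTH hr.1⟩, hRfix w hw r hr, rfl⟩)
          (zpowers_le.2 ⟨ah, hw, rfl⟩)
      obtain ⟨c', hc', e'⟩ := hle hc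
      rw [show (⟨c, (hET.trans hTH) hc⟩ : ↥H) = c' from Subtype.ext e'.symm]
      exact hc')
    have hbE : b ∈ centralizer (E : Set G) :=
      mem_centralizer_iff.2 fun s hs => (commute_T h2 hF (hET hs) (hF.le hb)).eq
    have hbM : ∀ m : G, m ∈ M → b * m * b⁻¹ ∈ M := fun m hm =>
      (mem_normalizer_iff.1 (hHM bh.2) m).1 hm
    set d : ↥M := g * (⟨b * g * b⁻¹, hbM g g.2⟩ : ↥M)⁻¹ with hd
    have hdval : (d : G) = (g : G) * (b * g * b⁻¹)⁻¹ := rfl
    have hdE : (d : G) ∈ centralizer (E : Set G) := by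
      rw [hdval]
      exact Subgroup.mul_mem _ hgE (Subgroup.inv_mem _
        (Subgroup.mul_mem _ (Subgroup.mul_mem _ hbE hgE) (Subgroup.inv_mem _ hbE)))
    have hbb : b * b = 1 := H1.WA.sq_of_mem hA hb
    have hdD : d ∈ D := by
      refine ⟨mem_centralizer_singleton_iff.2
          (mem_centralizer_iff.1 hdE a (mem_sup_right (mem_zpowers a))).symm,
        centralizer_le (show (R : Set G) ⊆ (E : Set G) from le_sup_left (b := zpowers a)) hdE, ?_⟩
      rw [hdval, show b * ((g : G) * (b * g * b⁻¹)⁻¹) * b⁻¹ =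
        b * g * b⁻¹ * ((b * b) * g * (b * b)⁻¹)⁻¹ by group, hbb]
      group
    have hdQ : d ∈ Q := Subgroup.subset_closure hdD
    obtain ⟨i, hi⟩ := mem_zpowers_iff.1 (hg₀ ⟨f ⟨d, hdQ⟩, ⟨_, rfl⟩⟩)
    have hi' : f g₀ ^ i = f ⟨d, hdQ⟩ := congrArg Subtype.val hi
    set h : ↥Q := (g₀ ^ i)⁻¹ * ⟨d, hdQ⟩ with hh
    have hh1 : f h = 1 := by rw [hh, map_mul, map_inv, map_zpow, hi', inv_mul_cancel]
    have hbh' : φ bh (π h) = π h := hfix _ _ (commute_of_mem_core htf hbs h2 hF hz hzA hL hE ha ha1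
      hb (hQC h h.2).1 (hQC h h.2).2 (coreProj_eq_one_iff.1 hh1)).symm
    have hdw : π d = π g * π g := by
      rw [hd, map_mul, map_inv, show π ⟨b * g * b⁻¹, hbM g g.2⟩ = φ bh (π g) from (hact bh g).symm,
        hinvb _ hw, inv_inv]
    have heq : π d = π (g₀ : ↥M) ^ i * π h := by
      rw [← map_zpow, ← map_mul]
      refine congrArg π ?_
      rw [hh, Subgroup.coe_mul, InvMemClass.coe_inv, SubgroupClass.coe_zpow, mul_inv_cancel_left]
    have h4 : π g ^ (4 : ℤ) = v₀ ^ i := by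
      have e1 : φ bh (π d) = (π g * π g)⁻¹ := by rw [hdw, map_mul, hinvb _ hw, mul_inv]
      have e2 : φ bh (π d) = φ bh (π (g₀ : ↥M)) ^ i * π h := by
        rw [heq, map_mul, map_zpow, hbh']
      calc π g ^ (4 : ℤ) = π d * (φ bh (π d))⁻¹ := by
            rw [e1, inv_inv, hdw, show (4 : ℤ) = 1 + 1 + 1 + 1 from rfl, zpow_add, zpow_add,
              zpow_add, zpow_one, mul_assoc (π g * π g)]
        _ = π (g₀ : ↥M) ^ i * π h * (φ bh (π (g₀ : ↥M)) ^ i * π h)⁻¹ := by rw [← e2, ← heq]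
        _ = v₀ ^ i := by
            rw [hv₀, mul_zpow, inv_zpow, mul_inv_rev, mul_assoc, ← mul_assoc (π h),
              mul_inv_cancel, one_mul]
    obtain ⟨j, hj⟩ := exists_mul_sub (W := ↥M ⧸ N.subgroupOf M) hW (r := 4) (fun h => by
      rw [show (4 : ℤ) = 2 * 2 from rfl] at h
      exact ((pint (p := p)).dvd_or_dvd h).elim (not_dvd_two hp2) (not_dvd_two hp2)) 1
    refine mem_zpowers_iff.2 ⟨i * j, ?_⟩
    rw [zpow_mul, ← h4, ← zpow_mul, mul_comm, hj, zpow_one]
  have hline : ∀ w, φ ah w = w → w ∈ zpowers x₀ := by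
    obtain ⟨i, hi⟩ := mem_zpowers_iff.1 (hmem₀ x₀ hax₀)
    obtain ⟨j, hj⟩ := exists_mul_sub (W := ↥M ⧸ N.subgroupOf M) hW (r := i)
      (fun h => hx₀ (hi ▸ zpow_eq_one_of_dvd hW v₀ h)) 1
    intro w hw
    obtain ⟨l, hl⟩ := mem_zpowers_iff.1 (hmem₀ w hw)
    refine mem_zpowers_iff.2 ⟨j * l, ?_⟩
    rw [← hi, ← zpow_mul, ← mul_assoc, mul_comm i, zpow_mul, hj, zpow_one, hl]
  -- the rotation and the transvection
  obtain ⟨k, hkH, hka, hkb, hkc⟩ := exists_rot htf hbs h2 hF hyT hyA hL' ha hb ha1 hb1 hab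
  set kh : ↥H := ⟨k, hkH⟩ with hkh
  set u := n * x * n⁻¹ with hu
  have hconjA : ∀ c ∈ A, n * c * n⁻¹ = c := fun c hc => H1.WA.conj_comm hnA hc
  have huH : u ∈ H := mem_centralizer_iff.2 fun r hr => by
    rw [← hRR'] at hr
    obtain ⟨s, hs, rfl⟩ := hr
    show n * s * n⁻¹ * u = u * (n * s * n⁻¹)
    rw [hu, show n * s * n⁻¹ * (n * x * n⁻¹) = n * (s * x) * n⁻¹ by group,
      mem_centralizer_iff.1 hxR s hs]
    group
  have hua : u * a = a * u := by
    rw [hu]
    conv_lhs => rw [← hconjA a ha]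
    conv_rhs => rw [← hconjA a ha]
    rw [show n * x * n⁻¹ * (n * a * n⁻¹) = n * (x * a) * n⁻¹ by group, ← hax.eq]
    group
  have hbu : b * u * b⁻¹ = u⁻¹ := by
    rw [hu]
    conv_lhs => rw [← hconjA b hb]
    rw [show n * b * n⁻¹ * (n * x * n⁻¹) * (n * b * n⁻¹)⁻¹ = n * (b * x * b⁻¹) * n⁻¹ by group, hxb]
    group
  set uh : ↥H := ⟨u, huH⟩ with huh
  have hu1 : φ uh ≠ 1 := by
    intro h1
    set K := φ.ker.map H.subtype with hK
    have huK : u ∈ K := ⟨uh, h1, rfl⟩
    have hHK : H ≤ normalizer (K : Set G) := fun g hg => by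
      refine H39.mem_normalizer_of_conj_mem ?_
      rintro _ ⟨c, hc, rfl⟩
      exact ⟨⟨g, hg⟩ * c * ⟨g, hg⟩⁻¹, φ.normal_ker.conj_mem c hc ⟨g, hg⟩, rfl⟩
    set J := coreImage y K
    have hLJ : L' ≤ normalizer (J : Set (Bb y)) := fun l hl => by
      obtain ⟨g, hgy, hgR, rfl⟩ := exists_lift (z := y) (B := R') (hTp.to_le inf_le_left)
        (inf_le_left.trans (le_centralizer_elt h2 hF hyT)) (l := l)
        (centralizer_le ((H21.WA.coreImage_le_iff (inf_le_left.trans
          (le_centralizer_elt h2 hF hyT))).2 inf_le_right)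
          (mem_centralizer_iff.2 fun c hc => (mem_centralizer_iff.1 hc l hl).symm))
      exact H21.WA.normalizer_coreImage hgy (hHK hgR)
    haveI : IsSimpleGroup ↥L' := by
      haveI := hL'.atype.1
      exact (MulEquiv.ofBijective (QuotientGroup.mk' (center ↥L'))
        ⟨by rw [← MonoidHom.ker_eq_bot_iff, QuotientGroup.ker_mk', hL'.center_bot],
          QuotientGroup.mk'_surjective _⟩).isSimpleGroup
    haveI : (J.subgroupOf L').Normal :=
      ⟨fun c hc g => mem_subgroupOf.2 ((mem_normalizer_iff.1 (hLJ g.2) _).1 (mem_subgroupOf.1 hc))⟩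
    have hub : coreProj y ⟨u, hHy huH⟩ = barEquiv n z (coreProj z ⟨x, hxz⟩) :=
      (H88.Walter.barEquiv_proj n z ⟨x, hxz⟩).symm
    have huL : coreProj y ⟨u, hHy huH⟩ ∈ L' := by
      rw [hub, ← hLmap]
      exact mem_map_of_mem _
        (mem_component htf hbs h2 hF hz hzA hL ha ha1 hb hxa hxz hxb hxodd).1
    have htop : J.subgroupOf L' = ⊤ := by
      refine ((inferInstance : IsSimpleGroup ↥L').eq_bot_or_eq_top_of_normal _
        inferInstance).resolve_left fun h => hxne ((barEquiv n z).injective ?_)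
      have h' : (⟨_, huL⟩ : ↥L') ∈ J.subgroupOf L' :=
        mem_subgroupOf.2 (H88.Walter.coreImage_mem (hHy huH) huK)
      rw [h, mem_bot] at h'
      rw [map_one, ← hub]
      exact congrArg Subtype.val h'
    have hby := A_le_centralizer h2 hF hyT hb
    obtain ⟨g, hgy, ⟨gh, hgker, rfl⟩, hgb⟩ := mem_coreImage.1 (mem_subgroupOf.1
      (htop ▸ mem_top (⟨_, hL'.le (H88.Walter.coreImage_mem hby hb)⟩ : ↥L')) :
        coreProj y ⟨b, hby⟩ ∈ J)
    have hcore : b⁻¹ * (gh : G) ∈ core y :=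
      (coreProj_eq_one_iff (x := (⟨b, hby⟩⁻¹ * ⟨_, hgy⟩ : ↥(centralizer ({y} : Set G))))).1
        (by rw [map_mul, map_inv, hgb, inv_mul_cancel])
    have hodd : Odd (orderOf (φ (bh⁻¹ * gh))) :=
      (H88.Walter.odd_of_mem (H88.Walter.core_odd y) hcore).of_dvd_nat
        ((orderOf_map_dvd φ _).trans (Subgroup.orderOf_coe (bh⁻¹ * gh)).symm.dvd)
    rw [map_mul, map_inv, show φ gh = 1 from hgker, mul_one,
      inv_eq_of_mul_eq_one_right hb2] at hodd
    have hb1' : φ bh = 1 := mem_bot.1 (mem_of_sq ⊥ hodd (by rw [hb2]; exact one_mem _))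
    refine hx₀ (eq_one_of_eq_inv hW hp2 ?_)
    rw [← hinvb x₀ hax₀, hb1', MulAut.one_apply]
  refine false_of_lines (a := φ ah) (b := φ bh) (c := φ (ah * bh)) (k := φ kh) (u := φ uh) hW hp2
    φ.range (sq_range φ fun g ⟨i, hi⟩ => Subtype.ext ?_) ⟨kh, rfl⟩ ⟨uh, rfl⟩ (map_mul φ ah bh).symm
    hba ha2 hb2 hnofix hax₀ hx₀ hline ?_ ?_ ?_ ?_ ?_ ⟨e, ?_⟩ hu1
  · exact sq_of_two h2 hF hyT hyA (hHy g.2) ⟨i, by simpa using congrArg Subtype.val hi⟩
  all_goals first
    | rw [← map_inv, ← map_mul, ← map_mul]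
    | rw [← map_mul, ← map_mul]
    | rw [← map_pow]
  · exact congrArg φ (Subtype.ext (mul_inv_eq_iff_eq_mul.1 hka))
  · exact congrArg φ (Subtype.ext (mul_inv_eq_iff_eq_mul.1 hkb))
  · exact congrArg φ (Subtype.ext (mul_inv_eq_iff_eq_mul.1 hkc))
  · exact congrArg φ (Subtype.ext hua)
  · exact congrArg φ (Subtype.ext (mul_inv_eq_iff_eq_mul.1 hbu))
  · rw [show uh ^ p ^ e = 1 from Subtype.ext (by
      show u ^ p ^ e = 1
      rw [hu, conj_pow, hxp, mul_one, mul_inv_cancel]), map_one]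

end Cfsg.Agent.H48.WA.FM

namespace Cfsg.Agent.H48.WA

universe u

/-- (c) of the case `|C_S(e)| = 16`. -/
theorem fourModuleStep :
    H77.WA.TypeFacts.{u} → H77.WA.BarStruct.{u} → H77.WA.FourModuleStep.{u} :=
  FM.fourModuleStep

end Cfsg.Agent.H48.WA
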