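import Cfsg.Agent.H48.WA.FourKernel

/-!
# `|A| = 4`, `T` of order 16: elements from the tori

The torus at `z` gives an element of prime power order inverted by `b`, centralizing `a` and the
kernel and acting non-trivially; the component at `y` gives an element of the centralizer of its
kernel rotating `A`.
-/

set_option autoImplicit false
set_option linter.unusedSectionVars false
set_option linter.unusedVariables false
set_option linter.style.haveILetI false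

namespace Cfsg.Agent.H48.WA.FM

open Subgroup Cfsg.Agent
open Cfsg.Agent.H88.Walter (Bb pre cen core mem_pre)
open Cfsg.Agent.H21.Walter (coreProj coreImage coreProj_eq_one_iff)
open Cfsg.Agent.H21.WA (mem_coreImage)
open Cfsg.Agent.H1.WA (Frame)
open Cfsg.Agent.H77.WA

universe u

local instance fact_two_tori : Fact (Nat.Prime 2) := ⟨Nat.prime_two⟩

variable {G : Type u} [Group G] [Finite G] {S : Sylow 2 G} {A T : Subgroup G}

/-- The image of a subgroup is centralized only by images of its centralizer. -/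
theorem exists_lift {z : G} {B : Subgroup G} (hB : IsPGroup 2 ↥B)
    (hBz : B ≤ centralizer ({z} : Set G)) {l : Bb z}
    (hl : l ∈ centralizer (coreImage z B : Set (Bb z))) :
    ∃ (h : G) (hh : h ∈ centralizer ({z} : Set G)), h ∈ centralizer (B : Set G) ∧
      coreProj z ⟨h, hh⟩ = l := by
  have hc := Cores.map_centralizer_of_coprime (Cfsg.pPrimeCore 2 ↥(centralizer ({z} : Set G)))
    ((Nat.prime_two.coprime_iff_not_dvd.2 Cores.not_dvd_card_pPrimeCore).symm)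
    (P := B.subgroupOf (centralizer ({z} : Set G)))
    (hB.comap_subtype (K := centralizer ({z} : Set G)))
  have hl' : l ∈ centralizer (((B.subgroupOf (centralizer ({z} : Set G))).map
      (QuotientGroup.mk' (Cfsg.pPrimeCore 2 ↥(centralizer ({z} : Set G))))) : Set (Bb z)) := hl
  rw [← hc] at hl'
  obtain ⟨⟨h, hh⟩, hh', rfl⟩ := hl'
  exact ⟨h, hh, mem_centralizer_iff.2 fun x hx =>
    congrArg Subtype.val (mem_centralizer_iff.1 hh' ⟨x, hBz hx⟩ hx), rfl⟩

variable (htf : TypeFacts.{u}) (hbs : BarStruct.{u}) (h2 : TwoCfg S A) (hF : FourFrame A T)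
include htf hbs h2 hF

variable {z : G} (hz : z ∈ T) (hzA : z ∉ A) {L : Subgroup (Bb z)} (hL : Frame A z L)
include hz hzA hL

/-- An element of prime power order from the torus. -/
theorem exists_start :
    ∃ a ∈ A, a ≠ 1 ∧ ∃ b ∈ A, b ≠ 1 ∧ a ≠ b ∧ ∃ (x : G) (hxz : x ∈ centralizer ({z} : Set G))
      (p e : ℕ), p.Prime ∧ p ≠ 2 ∧ x ^ p ^ e = 1 ∧ x ∈ centralizer ({a} : Set G) ∧
        x ∈ centralizer ((T ⊓ cen z L : Subgroup G) : Set G) ∧ b * x * b⁻¹ = x⁻¹ ∧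
        Odd (orderOf x) ∧ coreProj z ⟨x, hxz⟩ ≠ 1 := by
  set R := T ⊓ cen z L with hR
  obtain ⟨v, u, hvA, hvL, hv1, huL, huv, huA⟩ := hL.torus
  obtain ⟨a, haz, ha, rfl⟩ := mem_coreImage.1 hvA
  have ha1 : a ≠ 1 := fun e => hv1 (by subst e; exact map_one (coreProj z))
  obtain ⟨b, hb, hb1, hab⟩ : ∃ b ∈ A, b ≠ 1 ∧ a ≠ b := by
    by_contra! hno
    have hle : A ≤ zpowers a := fun x hx => by
      by_cases hx1 : x = 1
      · subst hx1; exact one_mem _
      · exact hno x hx hx1 ▸ mem_zpowers a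
    have h4 := card_le_of_le hle
    rw [h2.card, Nat.card_zpowers,
      orderOf_eq_prime (by rw [pow_two]; exact H1.WA.sq_of_mem h2.cfg.elem ha) ha1] at h4
    omega
  have haT := hF.le ha
  have hbT := hF.le hb
  have hbz := A_le_centralizer h2 hF hz hb
  refine ⟨a, ha, ha1, b, hb, hb1, hab, ?_⟩
  -- the lift
  set E := R ⊔ zpowers a
  have hET : E ≤ T := sup_le inf_le_left (zpowers_le.2 haT)
  have hTz := le_centralizer_elt h2 hF hz
  obtain ⟨u₀, hu₀z, hu₀E, hu₀⟩ := exists_lift (z := z) (B := E) (l := u)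
    ((H47.isPGroup_of_elementaryAbelian hF.elem).to_le hET) (hET.trans hTz) (by
      rw [mem_centralizer_iff]
      have hle : coreImage z E ≤ centralizer ({u} : Set (Bb z)) := by
        rw [H21.WA.coreImage_sup (inf_le_left.trans hTz) (zpowers_le.2 haz)]
        refine sup_le (((H21.WA.coreImage_le_iff (inf_le_left.trans hTz)).2 inf_le_right).trans
          (centralizer_le (Set.singleton_subset_iff.2 huL)))
          ((H21.WA.coreImage_le_iff (zpowers_le.2 haz)).2 (zpowers_le.2 (mem_pre.2 ⟨haz, ?_⟩)))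
        exact mem_centralizer_singleton_iff.2 huv.eq.symm
      exact fun y hy => mem_centralizer_singleton_iff.1 (hle hy))
  have hu₀a : u₀ ∈ centralizer ({a} : Set G) := mem_centralizer_singleton_iff.2
    (mem_centralizer_iff.1 hu₀E a (mem_sup_right (mem_zpowers a))).symm
  set w := u₀ * b * u₀⁻¹ * b⁻¹ with hw
  have hwa : w ∈ core a := comm_mem_core_self h2 hF ha ha1 hb hu₀a
  have hbE : b ∈ centralizer (E : Set G) :=
    mem_centralizer_iff.2 fun s hs => (commute_T h2 hF (hET hs) hbT).eq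
  have hwE : w ∈ centralizer (E : Set G) := Subgroup.mul_mem _ (Subgroup.mul_mem _
    (Subgroup.mul_mem _ hu₀E hbE) (Subgroup.inv_mem _ hu₀E)) (Subgroup.inv_mem _ hbE)
  have hwz : w ∈ centralizer ({z} : Set G) := mem_centralizer_singleton_iff.2
    (mem_centralizer_iff.1 hwE z (mem_sup_left (self_mem_kernel htf hbs h2 hF hz hzA hL))).symm
  have hb2 : b⁻¹ = b := inv_eq_of_mul_eq_one_right (H1.WA.sq_of_mem h2.cfg.elem hb)
  have hwinv : b * w * b⁻¹ = w⁻¹ := by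
    rw [hw, hb2, mul_inv_rev, mul_inv_rev, mul_inv_rev, inv_inv, hb2]
    simp only [mul_assoc, H1.WA.sq_of_mem h2.cfg.elem hb, mul_one]
  have hwne : coreProj z ⟨w, hwz⟩ ≠ 1 := by
    intro h
    refine huA (mem_centralizer_iff.2 fun q hq => ?_)
    have hub : Commute u (coreProj z ⟨b, hbz⟩) := by
      rw [show (⟨w, hwz⟩ : ↥(centralizer ({z} : Set G))) =
        ⟨u₀, hu₀z⟩ * ⟨b, hbz⟩ * ⟨u₀, hu₀z⟩⁻¹ * ⟨b, hbz⟩⁻¹ from Subtype.ext (by simp [hw]),
        map_mul, map_mul, map_mul, map_inv, map_inv, hu₀, mul_inv_eq_one,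
        mul_inv_eq_iff_eq_mul] at h
      exact h
    obtain ⟨c, hcz, hc, rfl⟩ := mem_coreImage.1 hq
    rcases four_cases h2.cfg.elem h2.card ha hb ha1 hb1 hab hc with rfl | rfl | rfl | rfl
    · rw [show (⟨1, hcz⟩ : ↥(centralizer ({z} : Set G))) = 1 from rfl, map_one, one_mul, mul_one]
    · exact huv.eq.symm
    · exact hub.eq.symm
    · rw [show (⟨a * b, hcz⟩ : ↥(centralizer ({z} : Set G))) = ⟨a, haz⟩ * ⟨b, hbz⟩ from rfl,
        map_mul]
      exact (huv.mul_right hub).eq.symm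
  -- a part of prime power order
  obtain ⟨p, hp, hpd⟩ := Nat.exists_prime_and_dvd fun e => hwne (orderOf_eq_one_iff.1 e)
  have hwodd : Odd (orderOf w) := H88.Walter.odd_of_mem (H88.Walter.core_odd a) hwa
  have hdvd : orderOf (coreProj z ⟨w, hwz⟩) ∣ orderOf w :=
    Subgroup.orderOf_mk w hwz ▸ orderOf_map_dvd (coreProj z) ⟨w, hwz⟩
  have hp2 : p ≠ 2 := fun e =>
    Nat.not_even_iff_odd.2 hwodd (even_iff_two_dvd.2 (e ▸ hpd.trans hdvd))
  obtain ⟨e, m, hm, hem⟩ :=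
    Nat.exists_eq_pow_mul_and_not_dvd (orderOf_pos w).ne' p hp.ne_one
  refine ⟨w ^ m, pow_mem hwz m, p, e, hp, hp2, ?_, ?_, ?_, ?_, ?_, ?_⟩
  · rw [← pow_mul, mul_comm, ← hem, pow_orderOf_eq_one]
  · exact pow_mem (mem_centralizer_singleton_iff.2
      (mem_centralizer_iff.1 hwE a (mem_sup_right (mem_zpowers a))).symm) m
  · exact pow_mem (centralizer_le (show (R : Set G) ⊆ (E : Set G) from le_sup_left (b := zpowers a))
      hwE) m
  · rw [← conj_pow, hwinv, inv_pow]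
  · exact hwodd.of_dvd_nat (orderOf_pow_dvd m)
  · rw [show (⟨w ^ m, pow_mem hwz m⟩ : ↥(centralizer ({z} : Set G))) = ⟨w, hwz⟩ ^ m from
      Subtype.ext (by simp), map_pow]
    exact fun h => hm (hpd.trans (orderOf_dvd_of_pow_eq_one h))

/-- An element of the component fixing the image of `A` and rotating it. -/
theorem exists_singer {a b : G} (ha : a ∈ A) (hb : b ∈ A) (ha1 : a ≠ 1) (hb1 : b ≠ 1) :
    ∃ k ∈ L, k ∈ normalizer (coreImage z A : Set (Bb z)) ∧
      k * coreProj z ⟨a, A_le_centralizer h2 hF hz ha⟩ * k⁻¹ =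
        coreProj z ⟨b, A_le_centralizer h2 hF hz hb⟩ ∧
      ∀ c ∈ coreImage z A, c ≠ 1 → k * c * k⁻¹ = c → a = b := by
  have hAz : A ≤ centralizer ({z} : Set G) := A_le_centralizer h2 hF hz
  set Ab := coreImage z A with hAb
  obtain ⟨T₀, hT₀⟩ := ((H1.WA.isPGroup_of_elem (H21.WA.elem_coreImage h2.cfg.elem z) :
    IsPGroup 2 ↥Ab).comap_subtype (K := L)).exists_le_sylow
  have hT : (T₀ : Subgroup ↥L) = Ab.subgroupOf L := hL.sylow T₀ hT₀
  set π := QuotientGroup.mk' (center ↥L)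
  have hπ : Function.Injective π := by
    rw [← MonoidHom.ker_eq_bot_iff, QuotientGroup.ker_mk', hL.center_bot]
  obtain ⟨k', hkN, -, htr, -⟩ :=
    (htf.ab _ hL.atype (T₀.mapSurjective (QuotientGroup.mk'_surjective _))).singer
  obtain ⟨k, rfl⟩ := QuotientGroup.mk'_surjective _ k'
  have hmem : ∀ {c : Bb z}, c ∈ Ab → ∀ hc : c ∈ L,
      π ⟨c, hc⟩ ∈ (T₀ : Subgroup ↥L).map π := fun h _ =>
    mem_map_of_mem π (by rw [hT]; exact mem_subgroupOf.2 h)
  have hkA : (k : Bb z) ∈ normalizer (Ab : Set (Bb z)) := by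
    refine H39.mem_normalizer_of_conj_mem fun c hc => ?_
    obtain ⟨y, hy, hye⟩ := (mem_normalizer_iff.1 hkN _).1 (hmem hc (hL.le hc))
    rw [← map_inv, ← map_mul, ← map_mul] at hye
    have h2' := congrArg Subtype.val (hπ hye)
    simp only [Subgroup.coe_mul, InvMemClass.coe_inv] at h2'
    exact h2' ▸ mem_subgroupOf.1 (hT ▸ hy : y ∈ Ab.subgroupOf L)
  have hAbm : ∀ {c : G} (hc : c ∈ A), coreProj z ⟨c, hAz hc⟩ ∈ Ab := fun hc =>
    H88.Walter.coreImage_mem _ hc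
  have key : ∀ c ∈ Ab, c ≠ 1 → ∀ d ∈ Ab, d ≠ 1 →
      ∃ i : ℕ, (k : Bb z) ^ i * c * ((k : Bb z) ^ i)⁻¹ = d := by
    intro c hc hc1 d hd hd1
    obtain ⟨i, hi⟩ := htr _ (hmem hc (hL.le hc)) _ (hmem hd (hL.le hd))
      (fun e => hc1 (congrArg Subtype.val (hπ (e.trans (map_one π).symm))))
      (fun e => hd1 (congrArg Subtype.val (hπ (e.trans (map_one π).symm))))
    rw [← map_pow, ← map_inv, ← map_mul, ← map_mul] at hi
    have h2' := congrArg Subtype.val (hπ hi)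
    simp only [Subgroup.coe_mul, InvMemClass.coe_inv, SubmonoidClass.coe_pow] at h2'
    exact ⟨i, h2'⟩
  have hne : ∀ {c : G} (hc : c ∈ A), c ≠ 1 → coreProj z ⟨c, hAz hc⟩ ≠ 1 := fun hc hc1 =>
    proj_ne_one h2 hF hc hc1 _
  obtain ⟨i, hi⟩ := key _ (hAbm ha) (hne ha ha1) _ (hAbm hb) (hne hb hb1)
  refine ⟨(k : Bb z) ^ i, pow_mem k.2 i, pow_mem hkA i, hi, fun c hc hc1 hfix => ?_⟩
  obtain ⟨j, hj⟩ := key c hc hc1 _ (hAbm ha) (hne ha ha1)
  have h : (k : Bb z) ^ i * coreProj z ⟨a, hAz ha⟩ * ((k : Bb z) ^ i)⁻¹ =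
      coreProj z ⟨a, hAz ha⟩ := by
    rw [← hj]
    calc (k : Bb z) ^ i * ((k : Bb z) ^ j * c * ((k : Bb z) ^ j)⁻¹) * ((k : Bb z) ^ i)⁻¹
        = (k : Bb z) ^ (i + j) * c * ((k : Bb z) ^ (i + j))⁻¹ := by rw [pow_add]; group
      _ = (k : Bb z) ^ j * ((k : Bb z) ^ i * c * ((k : Bb z) ^ i)⁻¹) * ((k : Bb z) ^ j)⁻¹ := by
          rw [add_comm i j, pow_add]; group
      _ = _ := by rw [hfix]
  have h' : coreProj z (⟨b, hAz hb⟩⁻¹ * ⟨a, hAz ha⟩) = 1 := by
    rw [map_mul, map_inv, ← hi, h, inv_mul_cancel]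
  exact (inv_mul_eq_one.1 (congrArg Subtype.val
    (H21.Walter.coreProj_injOn h2.cfg.elem (mul_mem (inv_mem hb) ha) h'))).symm

/-- A rotation of `A` centralizing the kernel. -/
theorem exists_rot {a b : G} (ha : a ∈ A) (hb : b ∈ A) (ha1 : a ≠ 1) (hb1 : b ≠ 1) (hab : a ≠ b) :
    ∃ k ∈ centralizer ((T ⊓ cen z L : Subgroup G) : Set G),
      k * a * k⁻¹ = b ∧ k * b * k⁻¹ = a * b ∧ k * (a * b) * k⁻¹ = a := by
  set R := T ⊓ cen z L with hR
  have hTz := le_centralizer_elt h2 hF hz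
  have hAz : A ≤ centralizer ({z} : Set G) := A_le_centralizer h2 hF hz
  obtain ⟨κ, hκL, hκA, hκab, hκfix⟩ := exists_singer htf hbs h2 hF hz hzA hL ha hb ha1 hb1
  have hκR : ∀ r, ∀ hr : r ∈ R,
      κ * coreProj z ⟨r, hTz hr.1⟩ * κ⁻¹ = coreProj z ⟨r, hTz hr.1⟩ := fun r hr => by
    obtain ⟨_, hrC⟩ := mem_pre.1 hr.2
    rw [mem_centralizer_iff.1 hrC κ hκL, mul_inv_cancel_right]
  -- `κ` normalizes the image of `T`
  set Tm := T.subgroupOf (centralizer ({z} : Set G)) with hTm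
  have hκT : κ ∈ normalizer ((Tm.map (coreProj z) : Subgroup (Bb z)) : Set (Bb z)) := by
    refine H39.mem_normalizer_of_conj_mem fun q hq => ?_
    obtain ⟨⟨t, htz⟩, ht, rfl⟩ := hq
    obtain ⟨c, hc, hr⟩ := kernel_split htf hbs h2 hF hz hzA hL (mem_subgroupOf.1 ht)
    rw [show (⟨t, htz⟩ : ↥(centralizer ({z} : Set G))) = ⟨c, hAz hc⟩ * ⟨c⁻¹ * t, hTz hr.1⟩ from
      Subtype.ext (mul_inv_cancel_left c t).symm, map_mul, conj_mul.symm, hκR _ hr]
    refine Subgroup.mul_mem _ ?_ (mem_map_of_mem _ (mem_subgroupOf.2 hr.1))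
    exact H21.WA.coreImage_mono' hF.le
      ((mem_normalizer_iff.1 hκA _).1 (H88.Walter.coreImage_mem _ hc))
  have hTp : IsPGroup 2 ↥Tm :=
    (H47.isPGroup_of_elementaryAbelian hF.elem).comap_subtype
  rw [coreProj, ← Components.map_normalizer_of_coprime _ Cores.coprime_card_pPrimeCore hTp] at hκT
  obtain ⟨⟨k, hkz⟩, hkT, hk⟩ := hκT
  replace hk : coreProj z ⟨k, hkz⟩ = κ := hk
  -- the action of `k` on `T`
  have hkt : ∀ t ∈ T, k * t * k⁻¹ ∈ T := fun t ht =>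
    (mem_normalizer_iff.1 hkT ⟨t, hTz ht⟩).1 ht
  have hinj : ∀ {s t : G}, ∀ (hs : s ∈ T) (ht : t ∈ T),
      coreProj z ⟨s, hTz hs⟩ = coreProj z ⟨t, hTz ht⟩ → s = t := fun {s t} hs ht e => by
    have h1 : coreProj z (⟨s, hTz hs⟩⁻¹ * ⟨t, hTz ht⟩) = 1 := by
      rw [map_mul, map_inv, e, inv_mul_cancel]
    exact inv_mul_eq_one.1 (congrArg Subtype.val
      (H21.Walter.coreProj_injOn hF.elem (mul_mem (inv_mem hs) ht) h1))
  have himg : ∀ t, ∀ ht : t ∈ T, coreProj z ⟨k * t * k⁻¹, hTz (hkt t ht)⟩ =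
      κ * coreProj z ⟨t, hTz ht⟩ * κ⁻¹ := fun t ht => by
    rw [← hk, ← map_inv, ← map_mul, ← map_mul]
    rfl
  have hkR : k ∈ centralizer (R : Set G) := mem_centralizer_iff.2 fun r hr =>
    (mul_inv_eq_iff_eq_mul.1 (hinj (hkt r hr.1) hr.1 (by rw [himg r hr.1, hκR r hr]))).symm
  have hkA : ∀ c ∈ A, k * c * k⁻¹ ∈ A := fun c hc => by
    obtain ⟨d, hdz, hd, e⟩ := mem_coreImage.1
      ((mem_normalizer_iff.1 hκA _).1 (H88.Walter.coreImage_mem (hAz hc) hc))
    rw [← hinj (hF.le hd) (hkt c (hF.le hc)) (e.trans (himg c (hF.le hc)).symm)]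
    exact hd
  have hka : k * a * k⁻¹ = b := hinj (hkt a (hF.le ha)) (hF.le hb) (by rw [himg a (hF.le ha), hκab])
  have hfix : ∀ c ∈ A, c ≠ 1 → k * c * k⁻¹ ≠ c := fun c hc hc1 e =>
    hab (hκfix _ (H88.Walter.coreImage_mem (hAz hc) hc) (proj_ne_one h2 hF hc hc1 _) (by
      rw [← himg c (hF.le hc)]
      exact congrArg _ (Subtype.ext e)))
  have hab1 : a * b ≠ 1 := fun e => hab (by
    rw [mul_eq_one_iff_eq_inv.1 e, inv_eq_of_mul_eq_one_right (H1.WA.sq_of_mem h2.cfg.elem hb)])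
  have hcomm : a * b = b * a := H1.WA.comm_of_mem h2.cfg.elem ha hb
  have hkb : k * b * k⁻¹ = a * b := by
    rcases four_cases h2.cfg.elem h2.card ha hb ha1 hb1 hab (hkA b hb) with h | h | h | h
    · exact absurd (conj_eq_one_iff.1 h) hb1
    · refine absurd ?_ (hfix (a * b) (mul_mem ha hb) hab1)
      rw [← conj_mul, hka, h, hcomm]
    · exact absurd h (hfix b hb hb1)
    · exact h
  refine ⟨k, hkR, hka, hkb, ?_⟩
  rw [← conj_mul, hka, hkb, hcomm, ← mul_assoc, H1.WA.sq_of_mem h2.cfg.elem hb, one_mul]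

end Cfsg.Agent.H48.WA.FM
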