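import Cfsg.Agent.H48.WA.NoTwist
import Cfsg.Agent.S0542
import Cfsg.Agent.Cores.GlaubermanZStar

/-!
# A strongly closed elementary 2-subgroup acts by inner automorphisms

`Y` simple and normal with `M = Y A`.  If the involutions of a Sylow 2-subgroup of `Y` are conjugate
under its normaliser and `Y` has no twist, then every element of `A` is an element of `A ⊓ Y` times
an element of `A` centralising `Y`.
-/

set_option autoImplicit false
set_option linter.style.haveILetI false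

namespace Cfsg.Agent.H48.WA

open Subgroup Cfsg.Agent

universe u

/-- What is used about a simple group with a strongly closed abelian 2-subgroup. -/
structure Rigid (Y : Type*) [Group Y] : Prop where
  conj : ∀ U : Sylow 2 Y, ∀ a ∈ (U : Subgroup Y), ∀ b ∈ (U : Subgroup Y), orderOf a = 2 →
    orderOf b = 2 → ∃ n ∈ normalizer ((U : Subgroup Y) : Set Y), n * a * n⁻¹ = b
  noTwist : NoTwist Y

variable {M : Type u} [Group M] [Finite M]

local instance fact_two' : Fact (Nat.Prime 2) := ⟨Nat.prime_two⟩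

/-- Elements of `N(T)` centralising `T` modulo `B`, and `B`. -/
def twistGroup (T B : Subgroup M) : Subgroup M where
  carrier := {k | k ∈ normalizer (T : Set M) ∧ (∀ x ∈ T, k * x * k⁻¹ * x⁻¹ ∈ B) ∧
    ∀ b ∈ B, k * b = b * k}
  one_mem' := ⟨one_mem _, fun x _ => by simp [B.one_mem], fun b _ => by simp⟩
  mul_mem' := by
    rintro k l ⟨hk, hk1, hk2⟩ ⟨hl, hl1, hl2⟩
    refine ⟨mul_mem hk hl, fun x hx => ?_, fun b hb => by
      rw [mul_assoc, hl2 b hb, ← mul_assoc, hk2 b hb, mul_assoc]⟩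
    have h1 := hl1 x hx
    have h2 := hk2 _ h1
    rw [show k * l * x * (k * l)⁻¹ * x⁻¹ =
      k * (l * x * l⁻¹ * x⁻¹) * k⁻¹ * (k * x * k⁻¹ * x⁻¹) by group, h2, mul_inv_cancel_right]
    exact mul_mem h1 (hk1 x hx)
  inv_mem' := by
    rintro k ⟨hk, hk1, hk2⟩
    refine ⟨inv_mem hk, fun x hx => ?_, fun b hb => ?_⟩
    · have hx' : k⁻¹ * x * k ∈ T := by
        have h := (mem_normalizer_iff.mp (inv_mem hk) x).mp hx
        rwa [inv_inv] at h
      have h1 := inv_mem (hk1 _ hx')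
      rw [show k⁻¹ * x * k⁻¹⁻¹ * x⁻¹ = (k * (k⁻¹ * x * k) * k⁻¹ * (k⁻¹ * x * k)⁻¹)⁻¹ by group]
      exact h1
    · calc k⁻¹ * b = k⁻¹ * (b * k) * k⁻¹ := by group
        _ = k⁻¹ * (k * b) * k⁻¹ := by rw [hk2 b hb]
        _ = b * k⁻¹ := by group

omit [Finite M] in
theorem mem_twistGroup {T B : Subgroup M} {k : M} :
    k ∈ twistGroup T B ↔ k ∈ normalizer (T : Set M) ∧ (∀ x ∈ T, k * x * k⁻¹ * x⁻¹ ∈ B) ∧
      ∀ b ∈ B, k * b = b * k := Iff.rfl

theorem le_normalizer_of_conj {H K : Subgroup M} (h : ∀ g ∈ K, ∀ x ∈ H, g * x * g⁻¹ ∈ H) :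
    K ≤ normalizer (H : Set M) := fun g hg => H39.mem_normalizer_of_conj_mem (h g hg)

/-- A non-trivial 2-group has a central involution. -/
theorem exists_central_invol {G : Type*} [Group G] [Finite G] {P : Subgroup G}
    (hP : IsPGroup 2 P) (hP1 : P ≠ ⊥) : ∃ u ∈ P, orderOf u = 2 ∧ ∀ s ∈ P, Commute s u := by
  haveI : Nontrivial ↥P := (nontrivial_iff_ne_bot _).mpr hP1
  haveI := hP.center_nontrivial
  obtain ⟨n, hn, hc⟩ := (hP.to_subgroup (center ↥P)).nontrivial_iff_card.mp inferInstance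
  obtain ⟨u, hu⟩ := exists_prime_orderOf_dvd_card' (G := center ↥P) 2 (hc ▸ dvd_pow_self 2 hn.ne')
  refine ⟨((u : ↥P) : G), (u : ↥P).2, ?_,
    fun s hs => congrArg Subtype.val (mem_center_iff.mp u.2 ⟨s, hs⟩)⟩
  rw [Subgroup.orderOf_coe, Subgroup.orderOf_coe, hu]

/-- **Inner action.** -/
theorem le_inf_sup_centralizer_of_normal {S : Sylow 2 M} {A : Subgroup M}
    (hA : Cfsg.IsStronglyClosed A (S : Subgroup M)) (hab : IsMulCommutative ↥A)
    (hsq : ∀ a ∈ A, a * a = 1) {Y : Subgroup M} [Y.Normal] (hs : IsSimpleGroup ↥Y)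
    (hna : ¬ IsMulCommutative ↥Y) (hR : Rigid ↥Y) (hsup : Y ⊔ A = ⊤) (hmet : A ⊓ Y ≠ ⊥) :
    A ≤ A ⊓ Y ⊔ A ⊓ centralizer (Y : Set M) := by
  classical
  have hc : ∀ a ∈ A, ∀ b ∈ A, a * b = b * a := fun a ha b hb =>
    congrArg Subtype.val (mul_comm' (⟨a, ha⟩ : ↥A) ⟨b, hb⟩)
  obtain ⟨U, hU⟩ := Cfsg.Agent.S0542.result 2 Y (Subgroup.Normal.isSubnormal inferInstance) S
  have hUm : ∀ {x : ↥Y}, x ∈ (U : Subgroup ↥Y) ↔ (x : M) ∈ (S : Subgroup M) := fun {x} => by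
    rw [hU, mem_subgroupOf]
  -- the quotient by `Y` is covered by `A`
  set π := QuotientGroup.mk' Y
  have hcov : ∀ g : M, ∃ a ∈ A, π g = π a := fun g => by
    have hg : π g ∈ (Y ⊔ A).map π := mem_map_of_mem π (hsup ▸ mem_top g)
    rw [Subgroup.map_sup, QuotientGroup.map_mk'_self, bot_sup_eq] at hg
    obtain ⟨a, ha, e⟩ := hg
    exact ⟨a, ha, e.symm⟩
  have hπc : ∀ g h : M, π g * π h = π h * π g := fun g h => by
    obtain ⟨a, ha, ea⟩ := hcov g
    obtain ⟨b, hb, eb⟩ := hcov h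
    rw [ea, eb, ← map_mul, ← map_mul, hc a ha b hb]
  have hcomm : ∀ g h : M, g * h * g⁻¹ * h⁻¹ ∈ Y := fun g h => (QuotientGroup.eq_one_iff _).mp (by
    show π (g * h * g⁻¹ * h⁻¹) = 1
    rw [map_mul, map_mul, map_mul, hπc g h, map_inv, map_inv, mul_inv_cancel_right, mul_inv_cancel])
  -- involutions of `S ⊓ Y`
  obtain ⟨z, ⟨hzA, hzY⟩, hz1⟩ : ∃ z ∈ A ⊓ Y, z ≠ 1 := by
    by_contra hcon
    push Not at hcon
    exact hmet (eq_bot_iff.2 fun x hx => mem_bot.2 (hcon x hx))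
  have hinvA : ∀ y ∈ (S : Subgroup M), y ∈ Y → y * y = 1 → y ∈ A := by
    intro y hyS hyY hy2
    rcases eq_or_ne y 1 with rfl | hy1
    · exact one_mem _
    obtain ⟨n, -, hn⟩ := hR.conj U ⟨z, hzY⟩ (hUm.2 (hA.1 hzA)) ⟨y, hyY⟩ (hUm.2 hyS)
      (H39.orderOf_eq_two_of_mul_self (Subtype.ext (hsq z hzA))
        fun e => hz1 (congrArg Subtype.val e))
      (H39.orderOf_eq_two_of_mul_self (Subtype.ext hy2) fun e => hy1 (congrArg Subtype.val e))
    have e : (n : M) * z * (n : M)⁻¹ = y := congrArg Subtype.val hn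
    rw [← e]
    exact hA.2 z hzA _ (e ▸ hyS)
  have hUne : (U : Subgroup ↥Y) ≠ ⊥ := fun e => by
    have h1 : (⟨z, hzY⟩ : ↥Y) ∈ (U : Subgroup ↥Y) := hUm.2 (hA.1 hzA)
    rw [e, mem_bot] at h1
    exact hz1 (congrArg Subtype.val h1)
  obtain ⟨c, hcU, hc2, hcc⟩ := exists_central_invol U.isPGroup' hUne
  have hBc : ∀ y ∈ A, y ∈ Y → ∀ x ∈ (S : Subgroup M), x ∈ Y → x * y = y * x := by
    intro y hyA hyY x hxS hxY
    rcases eq_or_ne y 1 with rfl | hy1
    · simp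
    obtain ⟨n, hn, e⟩ := hR.conj U c hcU ⟨y, hyY⟩ (hUm.2 (hA.1 hyA)) hc2
      (H39.orderOf_eq_two_of_mul_self (Subtype.ext (hsq y hyA))
        fun e => hy1 (congrArg Subtype.val e))
    have h2 : n⁻¹ * ⟨x, hxY⟩ * n ∈ (U : Subgroup ↥Y) := by
      have h := (mem_normalizer_iff.mp (inv_mem hn) _).mp (hUm.2 hxS :
        (⟨x, hxY⟩ : ↥Y) ∈ (U : Subgroup ↥Y))
      rwa [inv_inv] at h
    have h3 : n * (n⁻¹ * ⟨x, hxY⟩ * n * c) * n⁻¹ = n * (c * (n⁻¹ * ⟨x, hxY⟩ * n)) * n⁻¹ := by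
      rw [(hcc _ h2).eq]
    rw [show n * (n⁻¹ * ⟨x, hxY⟩ * n * c) * n⁻¹ = ⟨x, hxY⟩ * (n * c * n⁻¹) by group,
      show n * (c * (n⁻¹ * ⟨x, hxY⟩ * n)) * n⁻¹ = n * c * n⁻¹ * ⟨x, hxY⟩ by group, e] at h3
    exact congrArg Subtype.val h3
  -- `S ⊓ Y` centralises `A`
  set T := (S : Subgroup M) ⊓ Y with hT
  set B := A ⊓ Y with hB
  have hnormB : ∀ n ∈ normalizer (T : Set M), ∀ b ∈ B, n * b * n⁻¹ ∈ B := by
    intro n hn b hb
    have h := (mem_normalizer_iff.mp hn b).mp ⟨hA.1 hb.1, hb.2⟩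
    exact ⟨hA.2 b hb.1 n h.1, h.2⟩
  have hsplit : ∀ s ∈ (S : Subgroup M), ∃ t ∈ T, ∃ a ∈ A, s = t * a := by
    intro s hsS
    obtain ⟨a, ha, e⟩ := hcov s
    refine ⟨s * a⁻¹, ⟨Subgroup.mul_mem _ hsS (Subgroup.inv_mem _ (hA.1 ha)), (QuotientGroup.eq_one_iff _).mp ?_⟩,
      a, ha, (inv_mul_cancel_right s a).symm⟩
    show π (s * a⁻¹) = 1
    rw [map_mul, map_inv, e, mul_inv_cancel]
  have hST : (S : Subgroup M) ≤ normalizer (T : Set M) := le_normalizer_of_conj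
    fun s hsS x hx => ⟨Subgroup.mul_mem _ (Subgroup.mul_mem _ hsS hx.1) (Subgroup.inv_mem _ hsS),
      (inferInstance : Y.Normal).conj_mem x hx.2 s⟩
  set K := twistGroup T B with hK
  have hAK : A ≤ K := fun a ha => mem_twistGroup.2 ⟨hST (hA.1 ha), fun x hx => by
    have h1 : x * a * x⁻¹ ∈ A :=
      hA.2 a ha x (Subgroup.mul_mem _ (Subgroup.mul_mem _ hx.1 (hA.1 ha)) (Subgroup.inv_mem _ hx.1))
    refine ⟨?_, hcomm a x⟩
    rw [show a * x * a⁻¹ * x⁻¹ = a * (x * a * x⁻¹)⁻¹ by group]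
    exact Subgroup.mul_mem _ ha (Subgroup.inv_mem _ h1), fun b hb => hc a ha b hb.1⟩
  have hKn : normalizer (T : Set M) ≤ normalizer (K : Set M) := le_normalizer_of_conj
    fun n hn k hk => by
      refine mem_twistGroup.2 ⟨mul_mem (mul_mem hn (mem_twistGroup.1 hk).1) (inv_mem hn), fun x hx => ?_, fun b hb => ?_⟩
      · have hx' : n⁻¹ * x * n ∈ T := by
          have h := (mem_normalizer_iff.mp (inv_mem hn) x).mp hx
          rwa [inv_inv] at h
        have h1 := hnormB n hn _ ((mem_twistGroup.1 hk).2.1 _ hx')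
        rw [show n * k * n⁻¹ * x * (n * k * n⁻¹)⁻¹ * x⁻¹ =
          n * (k * (n⁻¹ * x * n) * k⁻¹ * (n⁻¹ * x * n)⁻¹) * n⁻¹ by group]
        exact h1
      · have hb' : n⁻¹ * b * n ∈ B := by
          have h := hnormB _ (inv_mem hn) b hb
          rwa [inv_inv] at h
        have h1 := (mem_twistGroup.1 hk).2.2 _ hb'
        rw [show n * k * n⁻¹ * b = n * (k * (n⁻¹ * b * n)) * n⁻¹ by group, h1]
        group
  -- the Frattini argument in `N(T)`
  have hfrat : ∀ n ∈ normalizer (T : Set M), ∃ k ∈ K, ∃ n' : M,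
      n' ∈ normalizer (T : Set M) ∧ (∀ a ∈ A, n' * a * n'⁻¹ ∈ A) ∧ n = k * n' := by
    intro n hn
    set N := normalizer (T : Set M)
    haveI hKN : (K.subgroupOf N).Normal :=
      normal_subgroupOf_iff_le_normalizer (fun k hk => (mem_twistGroup.1 hk).1) |>.2 hKn
    obtain ⟨P, hP⟩ := Cfsg.Agent.S0542.result 2 (K.subgroupOf N)
      (Subgroup.Normal.isSubnormal inferInstance) (S.subtype hST)
    have htop := Sylow.normalizer_sup_eq_top P
    have hmem : (⟨n, hn⟩ : ↥N) ∈ K.subgroupOf N ⊔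
        normalizer (((P : Subgroup ↥(K.subgroupOf N)).map (K.subgroupOf N).subtype : Subgroup ↥N) :
          Set ↥N) := by rw [sup_comm, htop]; exact mem_top _
    obtain ⟨k, hk, n', hn', e⟩ := mem_sup_of_normal_left.1 hmem
    refine ⟨k, mem_subgroupOf.1 hk, n', n'.2, fun a ha => ?_,
      (congrArg Subtype.val e).symm⟩
    have haN : a ∈ N := (mem_twistGroup.1 (hAK ha)).1
    have haP : (⟨a, haN⟩ : ↥N) ∈
        (P : Subgroup ↥(K.subgroupOf N)).map (K.subgroupOf N).subtype :=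
      ⟨⟨⟨a, haN⟩, mem_subgroupOf.2 (hAK ha)⟩, by
        show _ ∈ (P : Subgroup ↥(K.subgroupOf N))
        rw [hP]; exact hA.1 ha, rfl⟩
    obtain ⟨w, hw, ew⟩ := (mem_normalizer_iff.mp hn' _).mp haP
    refine hA.2 a ha _ ?_
    rw [hP, SetLike.mem_coe, mem_subgroupOf, Sylow.coe_subtype, mem_subgroupOf] at hw
    have e' := congrArg (fun w : ↥N => (w : M)) ew
    simp only [Subgroup.coe_subtype, coe_mul, coe_inv] at e'
    rw [← e']
    exact hw
  have htriv : ∀ a ∈ A, ∀ x ∈ T, x * a = a * x := by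
    intro a ha
    set φ : ↥Y → ↥Y := fun x => ⟨(x : M) * a * (x : M)⁻¹ * a⁻¹, hcomm _ _⟩ with hφ
    have hφv : ∀ x, ((φ x : ↥Y) : M) = (x : M) * a * (x : M)⁻¹ * a⁻¹ := fun _ => rfl
    have hφB : ∀ x : ↥Y, x ∈ (U : Subgroup ↥Y) → ((φ x : ↥Y) : M) ∈ B := fun x hx => by
      refine ⟨?_, (φ x).2⟩
      rw [hφv]
      exact Subgroup.mul_mem _ (hA.2 a ha x
        (Subgroup.mul_mem _ (Subgroup.mul_mem _ (hUm.1 hx) (hA.1 ha))
          (Subgroup.inv_mem _ (hUm.1 hx)))) (Subgroup.inv_mem _ ha)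
    have hinv : ∀ x : ↥Y, x ∈ (U : Subgroup ↥Y) → x * x = 1 → φ x = 1 := fun x hx hx2 =>
      Subtype.ext (by
        have hxA := hinvA _ (hUm.1 hx) x.2 (congrArg Subtype.val hx2)
        rw [hφv, hc _ hxA a ha, mul_inv_cancel_right, mul_inv_cancel]
        rfl)
    have hmul : ∀ x ∈ (U : Subgroup ↥Y), ∀ y ∈ (U : Subgroup ↥Y), φ (x * y) = φ x * φ y := by
      intro x hx y hy
      apply Subtype.ext
      have h1 := hBc _ (hφB y hy).1 (hφB y hy).2 _ (hUm.1 hx) x.2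
      rw [hφv, coe_mul, coe_mul, show (x : M) * y * a * ((x : M) * y)⁻¹ * a⁻¹ =
        (x : M) * (φ y : M) * (x : M)⁻¹ * (φ x : M) by rw [hφv, hφv]; group, h1,
        mul_inv_cancel_right, hc _ (hφB y hy).1 _ (hφB x hx).1]
    have hmem : ∀ x ∈ (U : Subgroup ↥Y), φ x ∈ (U : Subgroup ↥Y) ∧ φ x * φ x = 1 := fun x hx =>
      ⟨hUm.2 (hA.1 (hφB x hx).1), Subtype.ext (hsq _ (hφB x hx).1)⟩
    have hequ : ∀ n ∈ normalizer ((U : Subgroup ↥Y) : Set ↥Y), ∀ x ∈ (U : Subgroup ↥Y),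
        φ (n * x * n⁻¹) = n * φ x * n⁻¹ := by
      intro n hn x hx
      have hnT : (n : M) ∈ normalizer (T : Set M) := mem_normalizer_iff.mpr fun y => by
        refine ⟨fun hy => ⟨?_, (inferInstance : Y.Normal).conj_mem y hy.2 n⟩, fun hy => ?_⟩
        · exact hUm.1 ((mem_normalizer_iff.mp hn ⟨y, hy.2⟩).mp (hUm.2 hy.1))
        · have hyY : y ∈ Y := by
            have h := (inferInstance : Y.Normal).conj_mem _ hy.2 (n : M)⁻¹
            rwa [show (n : M)⁻¹ * ((n : M) * y * (n : M)⁻¹) * (n : M)⁻¹⁻¹ = y by group] at h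
          exact ⟨hUm.1 ((mem_normalizer_iff.mp hn ⟨y, hyY⟩).mpr (hUm.2 hy.1)), hyY⟩
      obtain ⟨k, hk, n', hn', hn'A, e⟩ := hfrat _ hnT
      have hxT : (x : M) ∈ T := ⟨hUm.1 hx, x.2⟩
      obtain ⟨hx', hx'Y⟩ := (mem_normalizer_iff.mp hn' _).mp hxT
      set x' : ↥Y := ⟨n' * x * n'⁻¹, hx'Y⟩ with hx'def
      have hx'U : x' ∈ (U : Subgroup ↥Y) := hUm.2 hx'
      set b : M := k * (n' * x * n'⁻¹) * k⁻¹ * (n' * x * n'⁻¹)⁻¹ with hb
      have hbB : b ∈ B := (mem_twistGroup.1 hk).2.1 _ ⟨hx', hx'Y⟩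
      have hbU : (⟨b, hbB.2⟩ : ↥Y) ∈ (U : Subgroup ↥Y) := hUm.2 (hA.1 hbB.1)
      have e1 : n * x * n⁻¹ = ⟨b, hbB.2⟩ * x' := Subtype.ext (by
        show (n : M) * x * (n : M)⁻¹ = b * (n' * x * n'⁻¹)
        rw [e, hb]; group)
      rw [e1, hmul _ hbU _ hx'U, hinv _ hbU (Subtype.ext (hsq _ hbB.1)), one_mul]
      apply Subtype.ext
      have h2 := hnormB n' hn' _ (hφB x hx)
      show n' * x * n'⁻¹ * a * (n' * x * n'⁻¹)⁻¹ * a⁻¹ = (n : M) * (φ x : M) * (n : M)⁻¹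
      rw [e, show k * n' * (φ x : M) * (k * n')⁻¹ = k * (n' * (φ x : M) * n'⁻¹) * k⁻¹ by group,
        (mem_twistGroup.1 hk).2.2 _ h2, mul_inv_cancel_right]
      set d : M := n' * a * n'⁻¹ * a⁻¹ with hd
      have hdA : d ∈ A := mul_mem (hn'A a ha) (inv_mem ha)
      have hdx := hBc d hdA (hcomm n' a) _ hx' hx'Y
      have h3 : ((φ x' : ↥Y) : M) ∈ A := (hφB x' hx'U).1
      calc n' * x * n'⁻¹ * a * (n' * x * n'⁻¹)⁻¹ * a⁻¹
          = d * (φ x' : M) * d⁻¹ := by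
            rw [hc d hdA _ h3, mul_inv_cancel_right, hφv]
        _ = d * (n' * x * n'⁻¹) * a * (n' * x * n'⁻¹)⁻¹ * a⁻¹ * d⁻¹ := by
            rw [hφv, show ((x' : ↥Y) : M) = n' * x * n'⁻¹ from rfl]; group
        _ = n' * x * n'⁻¹ * (d * a) * (n' * x * n'⁻¹)⁻¹ * (d * a)⁻¹ := by rw [← hdx]; group
        _ = n' * (φ x : M) * n'⁻¹ := by rw [hφv, hd]; group
    have key := hR.noTwist U φ hmul hmem hinv hequ
    intro x hx
    have h1 := congrArg Subtype.val (key ⟨x, hx.2⟩ (hUm.2 hx.1))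
    rw [hφv, coe_one, mul_inv_eq_one, mul_inv_eq_iff_eq_mul] at h1
    exact h1
  have hAS : ∀ a ∈ A, a ∈ centralizer ((S : Subgroup M) : Set M) := fun a ha => by
    refine mem_centralizer_iff.mpr fun s hsS => ?_
    obtain ⟨t, ht, a', ha', rfl⟩ := hsplit s hsS
    rw [mul_assoc, hc a' ha' a ha, ← mul_assoc, htriv a ha t ht, mul_assoc]
  -- average over the normaliser of `S`
  intro a ha
  set Q := normalizer ((S : Subgroup M) : Set M) with hQ
  set S' := (S : Subgroup M).subgroupOf Q with hS'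
  have hnA : ∀ n ∈ Q, ∀ x ∈ A, n * x * n⁻¹ ∈ A := fun n hn x hx =>
    hA.2 x hx n ((mem_normalizer_iff.mp hn x).mp (hA.1 hx))
  letI : CommGroup ↥A :=
    { (inferInstance : Group ↥A) with mul_comm := fun x y => Subtype.ext (hc x x.2 y y.2) }
  haveI : Fintype (↥Q ⧸ S') := Fintype.ofFinite _
  set f : ↥Q ⧸ S' → ↥A := fun r =>
    ⟨(r.out : M) * a * (r.out : M)⁻¹, hnA _ r.out.2 a ha⟩ with hf
  have hfm : ∀ g : ↥Q, (f (QuotientGroup.mk g) : M) = (g : M) * a * (g : M)⁻¹ := fun g => by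
    obtain ⟨s, hs'⟩ := QuotientGroup.mk_out_eq_mul S' g
    have h := mem_centralizer_iff.mp (hAS a ha) _ (mem_subgroupOf.1 s.2)
    show ((QuotientGroup.mk g : ↥Q ⧸ S').out : M) * a *
      ((QuotientGroup.mk g : ↥Q ⧸ S').out : M)⁻¹ = _
    rw [hs', coe_mul, show (g : M) * (s : ↥Q) * a * ((g : M) * (s : ↥Q))⁻¹ =
      (g : M) * (((s : ↥Q) : M) * a * ((s : ↥Q) : M)⁻¹) * (g : M)⁻¹ by group, h,
      mul_inv_cancel_right]
  set a' : ↥A := ∏ r, f r with ha'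
  have hfix : ∀ n ∈ Q, n * (a' : M) * n⁻¹ = (a' : M) := by
    intro n hn
    let χ : ↥A →* ↥A :=
      { toFun := fun x => ⟨n * x * n⁻¹, hnA n hn x x.2⟩
        map_one' := Subtype.ext (by simp)
        map_mul' := fun x y => Subtype.ext (by simp only [coe_mul]; group) }
    show ((χ a' : ↥A) : M) = _
    rw [ha', map_prod]
    refine congrArg (fun x : ↥A => (x : M))
      (Fintype.prod_equiv (MulAction.toPerm (⟨n, hn⟩ : ↥Q)) _ _ fun r => ?_)
    obtain ⟨g, rfl⟩ := QuotientGroup.mk_surjective r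
    apply Subtype.ext
    show n * (f (QuotientGroup.mk g) : M) * n⁻¹ = (f (QuotientGroup.mk (⟨n, hn⟩ * g)) : M)
    rw [hfm, hfm, coe_mul]
    group
  have hodd : Odd (Fintype.card (↥Q ⧸ S')) := by
    rw [← Nat.card_eq_fintype_card, ← Nat.not_even_iff_odd, even_iff_two_dvd]
    exact (S.subtype le_normalizer).not_dvd_index
  have hπa : π (a' : M) = π a := by
    let ρ : ↥A →* M ⧸ Y := π.comp A.subtype
    have h1 : ∀ r, ρ (f r) = π a := fun r => by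
      obtain ⟨g, rfl⟩ := QuotientGroup.mk_surjective r
      show π (f (QuotientGroup.mk g) : M) = π a
      rw [hfm, map_mul, map_mul, hπc, map_inv, mul_inv_cancel_right]
    have hall : ∀ x y : M ⧸ Y, x * y = y * x := fun x y => by
      obtain ⟨g, rfl⟩ := QuotientGroup.mk_surjective x
      obtain ⟨h, rfl⟩ := QuotientGroup.mk_surjective y
      exact hπc g h
    letI : CommGroup (M ⧸ Y) := { (inferInstance : Group (M ⧸ Y)) with mul_comm := hall }
    show ρ a' = π a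
    rw [ha', map_prod, Finset.prod_congr rfl fun r _ => h1 r, Finset.prod_const, Finset.card_univ]
    obtain ⟨k, hk⟩ := hodd
    rw [hk, pow_succ, pow_mul, pow_two, ← map_mul, hsq a ha, map_one, one_pow, one_mul]
  have hdB : a * (a' : M)⁻¹ ∈ A ⊓ Y := by
    refine ⟨Subgroup.mul_mem _ ha (Subgroup.inv_mem _ a'.2), (QuotientGroup.eq_one_iff _).mp ?_⟩
    show π (a * (a' : M)⁻¹) = 1
    rw [map_mul, map_inv, hπa, mul_inv_cancel]
  suffices h : (a' : M) ∈ centralizer (Y : Set M) by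
    rw [show a = a * (a' : M)⁻¹ * (a' : M) by group]
    exact mul_mem (mem_sup_left hdB) (mem_sup_right ⟨a'.2, h⟩)
  rcases eq_or_ne (a' : M) 1 with h1 | h1
  · rw [h1]; exact one_mem _
  have hiso : ∀ g : M, g * (a' : M) * g⁻¹ ∈ S → g * (a' : M) * g⁻¹ = (a' : M) := by
    intro g hg
    have h2 := hAS _ (hA.2 _ a'.2 g hg)
    obtain ⟨n, hn, e⟩ := Sylow.conj_eq_normalizer_conj_of_mem_centralizer S (a' : M) g⁻¹
      (hAS _ a'.2) (by rwa [inv_inv])
    rw [inv_inv] at e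
    rw [e]
    have h3 := hfix n⁻¹ (inv_mem hn)
    rwa [inv_inv] at h3
  have hz := Cores.glaubermanZStar S (H39.orderOf_eq_two_of_mul_self (hsq _ a'.2) h1)
    (hA.1 a'.2) hiso
  refine mem_centralizer_iff.mpr fun y hy => ?_
  have hO := hz y
  haveI : (Cfsg.oddCore M).Characteristic := Cores.pPrimeCore_characteristic
  haveI : (Cfsg.oddCore M).Normal := inferInstance
  rcases (normal_subgroupOf_iff_le_normalizer (inf_le_right : Cfsg.oddCore M ⊓ Y ≤ Y)).2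
    (by rw [normalizer_eq_top]; exact le_top) |> Subgroup.Normal.eq_bot_or_eq_top with e | e
  · have h4 : (a' : M) * y * (a' : M)⁻¹ * y⁻¹ ∈ Cfsg.oddCore M ⊓ Y := ⟨hO, hcomm _ _⟩
    have h5 : (⟨_, h4.2⟩ : ↥Y) ∈ (Cfsg.oddCore M ⊓ Y).subgroupOf Y := mem_subgroupOf.2 h4
    rw [e, mem_bot] at h5
    have h6 := congrArg Subtype.val h5
    rw [coe_one, mul_inv_eq_one, mul_inv_eq_iff_eq_mul] at h6
    exact h6.symm
  · exfalso
    have hzO : z ∈ Cfsg.oddCore M := ((subgroupOf_eq_top.mp e) hzY).1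
    have h7 := (orderOf_dvd_natCard (⟨z, hzO⟩ : ↥(Cfsg.oddCore M)))
    rw [← Subgroup.orderOf_coe, H39.orderOf_eq_two_of_mul_self (hsq z hzA) hz1] at h7
    exact (Nat.not_even_iff_odd.mpr Cores.odd_card_oddCore) (even_iff_two_dvd.mpr h7)

end Cfsg.Agent.H48.WA
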