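import Cfsg.Agent.H6.StrongClosed.Irred

/-!
# No twists of a Sylow 2-subgroup in the groups of Bender's list

A homomorphism of a Sylow 2-subgroup `U` into its involutions that is trivial on the involutions and
commutes with the normaliser of `U` is trivial.
-/

set_option autoImplicit false
set_option linter.style.haveILetI false
set_option linter.unusedSectionVars false

namespace Cfsg.Agent.H48.WA

open Subgroup

universe u v

/-- There is no non-trivial twist. -/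
def NoTwist (M : Type*) [Group M] : Prop :=
  ∀ (U : Sylow 2 M) (φ : M → M),
    (∀ x ∈ (U : Subgroup M), ∀ y ∈ (U : Subgroup M), φ (x * y) = φ x * φ y) →
    (∀ x ∈ (U : Subgroup M), φ x ∈ (U : Subgroup M) ∧ φ x * φ x = 1) →
    (∀ x ∈ (U : Subgroup M), x * x = 1 → φ x = 1) →
    (∀ n ∈ normalizer ((U : Subgroup M) : Set M), ∀ x ∈ (U : Subgroup M),
      φ (n * x * n⁻¹) = n * φ x * n⁻¹) →
    ∀ x ∈ (U : Subgroup M), φ x = 1

/-- A Sylow subgroup of exponent two has no twist. -/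
theorem NoTwist.of_sq {M : Type*} [Group M]
    (h : ∀ U : Sylow 2 M, ∀ x ∈ (U : Subgroup M), x * x = 1) : NoTwist M :=
  fun U _ _ _ hinv _ x hx => hinv x hx (h U x hx)

/-- One Sylow subgroup suffices. -/
theorem NoTwist.of_one {M : Type*} [Group M] [Finite M] (U₀ : Sylow 2 M)
    (h : ∀ φ : M → M,
      (∀ x ∈ (U₀ : Subgroup M), ∀ y ∈ (U₀ : Subgroup M), φ (x * y) = φ x * φ y) →
      (∀ x ∈ (U₀ : Subgroup M), φ x ∈ (U₀ : Subgroup M) ∧ φ x * φ x = 1) →
      (∀ x ∈ (U₀ : Subgroup M), x * x = 1 → φ x = 1) →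
      (∀ n ∈ normalizer ((U₀ : Subgroup M) : Set M), ∀ x ∈ (U₀ : Subgroup M),
        φ (n * x * n⁻¹) = n * φ x * n⁻¹) →
      ∀ x ∈ (U₀ : Subgroup M), φ x = 1) : NoTwist M := by
  haveI : Fact (Nat.Prime 2) := ⟨Nat.prime_two⟩
  intro U φ hmul hmem hinv hequ
  obtain ⟨g, rfl⟩ := MulAction.exists_smul_eq M U₀ U
  have hm : ∀ {x : M}, x ∈ ((g • U₀ : Sylow 2 M) : Subgroup M) ↔ g⁻¹ * x * g ∈ (U₀ : Subgroup M) :=
    fun {x} => H39.mem_map_conj (H := (U₀ : Subgroup M))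
  have hback : ∀ {x : M}, g * x * g⁻¹ ∈ ((g • U₀ : Sylow 2 M) : Subgroup M) ↔ x ∈ (U₀ : Subgroup M) :=
    fun {x} => by rw [hm, show g⁻¹ * (g * x * g⁻¹) * g = x by group]
  set ψ : M → M := fun x => g⁻¹ * φ (g * x * g⁻¹) * g with hψ
  have key := h ψ (fun x hx y hy => by
      simp only [hψ]
      rw [show g * (x * y) * g⁻¹ = g * x * g⁻¹ * (g * y * g⁻¹) by group,
        hmul _ (hback.2 hx) _ (hback.2 hy)]
      group)
    (fun x hx => by
      obtain ⟨h1, h2⟩ := hmem _ (hback.2 hx)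
      refine ⟨hm.1 h1, ?_⟩
      simp only [hψ]
      rw [show g⁻¹ * φ (g * x * g⁻¹) * g * (g⁻¹ * φ (g * x * g⁻¹) * g) =
        g⁻¹ * (φ (g * x * g⁻¹) * φ (g * x * g⁻¹)) * g by group, h2, mul_one, inv_mul_cancel])
    (fun x hx hx2 => by
      simp only [hψ]
      rw [hinv _ (hback.2 hx) (by
        rw [show g * x * g⁻¹ * (g * x * g⁻¹) = g * (x * x) * g⁻¹ by group, hx2, mul_one,
          mul_inv_cancel]), mul_one, inv_mul_cancel])
    (fun n hn x hx => by
      have hn' : g * n * g⁻¹ ∈ normalizer (((g • U₀ : Sylow 2 M) : Subgroup M) : Set M) :=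
        mem_normalizer_iff.mpr fun y => by
          rw [hm, hm, show g⁻¹ * (g * n * g⁻¹ * y * (g * n * g⁻¹)⁻¹) * g =
            n * (g⁻¹ * y * g) * n⁻¹ by group]
          exact mem_normalizer_iff.mp hn _
      simp only [hψ]
      rw [show g * (n * x * n⁻¹) * g⁻¹ = g * n * g⁻¹ * (g * x * g⁻¹) * (g * n * g⁻¹)⁻¹ by group,
        hequ _ hn' _ (hback.2 hx)]
      group)
  intro x hx
  have h1 := key _ (hm.1 hx)
  simp only [hψ] at h1
  rw [show g * (g⁻¹ * x * g) * g⁻¹ = x by group] at h1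
  calc φ x = g * (g⁻¹ * φ x * g) * g⁻¹ := by group
    _ = 1 := by rw [h1, mul_one, mul_inv_cancel]

/-- Passage to a quotient by a subgroup without 2-elements. -/
theorem NoTwist.of_surjective {X : Type u} {N : Type v} [Group X] [Finite X] [Group N] {π : X →* N}
    (hπ : Function.Surjective π) (hker : ∀ x ∈ π.ker, ∀ k : ℕ, x ^ 2 ^ k = 1 → x = 1)
    (h : NoTwist X) : NoTwist N := by
  classical
  haveI : Fact (Nat.Prime 2) := ⟨Nat.prime_two⟩
  haveI : Finite N := Finite.of_surjective π hπ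
  intro U' φ hmul hmem hinv hequ
  obtain ⟨U, rfl⟩ := Sylow.mapSurjective_surjective hπ 2 U'
  rw [Sylow.coe_mapSurjective] at hmul hmem hinv hequ ⊢
  have hinj : ∀ {x y : X}, x ∈ (U : Subgroup X) → y ∈ (U : Subgroup X) → π x = π y → x = y :=
    fun {x y} hx hy e => by
      have h1 : π (x * y⁻¹) = 1 := by rw [map_mul, map_inv, e, mul_inv_cancel]
      obtain ⟨k, hk⟩ := U.isPGroup' ⟨x * y⁻¹, mul_mem hx (inv_mem hy)⟩
      exact mul_inv_eq_one.mp (hker _ h1 k (congrArg Subtype.val hk))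
  have hex : ∀ x : X, ∃ y : X, x ∈ (U : Subgroup X) → y ∈ (U : Subgroup X) ∧ π y = φ (π x) := by
    intro x
    by_cases hx : x ∈ (U : Subgroup X)
    · obtain ⟨y, hy, hyx⟩ := (hmem _ (mem_map_of_mem π hx)).1
      exact ⟨y, fun _ => ⟨hy, hyx⟩⟩
    · exact ⟨1, fun h' => absurd h' hx⟩
  choose ψ hψ using hex
  have key := h U ψ
    (fun x hx y hy => hinj (hψ _ (mul_mem hx hy)).1 (mul_mem (hψ x hx).1 (hψ y hy).1) (by
      rw [(hψ _ (mul_mem hx hy)).2, map_mul, map_mul, (hψ x hx).2, (hψ y hy).2,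
        hmul _ (mem_map_of_mem π hx) _ (mem_map_of_mem π hy)]))
    (fun x hx => ⟨(hψ x hx).1, hinj (mul_mem (hψ x hx).1 (hψ x hx).1) (one_mem _) (by
      rw [map_mul, (hψ x hx).2, (hmem _ (mem_map_of_mem π hx)).2, map_one])⟩)
    (fun x hx hx2 => hinj (hψ x hx).1 (one_mem _) (by
      rw [(hψ x hx).2, hinv _ (mem_map_of_mem π hx) (by rw [← map_mul, hx2, map_one]), map_one]))
    (fun n hn x hx => hinj (hψ _ ((mem_normalizer_iff.mp hn x).mp hx)).1
      ((mem_normalizer_iff.mp hn _).mp (hψ x hx).1) (by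
      rw [(hψ _ ((mem_normalizer_iff.mp hn x).mp hx)).2, map_mul, map_mul, map_mul, map_mul,
        map_inv, (hψ x hx).2, hequ _ (le_normalizer_map π ⟨n, hn, rfl⟩) _ (mem_map_of_mem π hx)]))
  rintro _ ⟨x, hx, rfl⟩
  rw [← (hψ x hx).2, key x hx, map_one]

theorem NoTwist.of_equiv {X : Type u} {N : Type v} [Group X] [Finite X] [Group N] (e : X ≃* N)
    (h : NoTwist X) : NoTwist N :=
  h.of_surjective (π := e.toMonoidHom) e.surjective fun _ hx _ _ => e.map_eq_one_iff.mp hx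

section Suzuki

variable {F : Type} [Field F] [Fintype F] (m : ℕ) [Suzuki.SzField F m]

/-- The Suzuki groups have no twist. -/
theorem noTwist_sz : NoTwist (Cfsg.Sz F m) := by
  haveI : Fact (Nat.Prime 2) := ⟨Nat.prime_two⟩
  refine NoTwist.of_one (Suzuki.sylowU m) fun φ hmul hmem hinv hequ => ?_
  rw [Suzuki.coe_sylowU] at hmul hmem hinv hequ ⊢
  have hz : ∀ d : F, φ (Suzuki.u m 0 d) = 1 := fun d => hinv _ (Suzuki.u_mem_U m _ _) (by
    rw [Suzuki.u_mul, Suzuki.th_zero, zero_mul, add_zero, add_zero, Suzuki.add_self m, Suzuki.u_zero])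
  have hshape : ∀ a : F, ∃ d : F, φ (Suzuki.u m a 0) = Suzuki.u m 0 d := fun a => by
    obtain ⟨h1, h2⟩ := hmem _ (Suzuki.u_mem_U m a 0)
    obtain ⟨c, d, e⟩ := (Suzuki.mem_U m).mp h1
    rw [e, Suzuki.u_mul, Suzuki.add_self m, ← Suzuki.u_zero m, Suzuki.u_inj] at h2
    have hc : c = 0 := by
      have h3 := h2.2
      rw [Suzuki.add_self m, zero_add, mul_eq_zero, Suzuki.th_eq_zero] at h3
      exact h3.elim id id
    exact ⟨d, by rw [e, hc]⟩
  choose g hg using hshape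
  have hsplit : ∀ a b : F, φ (Suzuki.u m a b) = φ (Suzuki.u m a 0) := fun a b => by
    have e : Suzuki.u m a 0 * Suzuki.u m 0 b = Suzuki.u m a b := by
      rw [Suzuki.u_mul, mul_zero, add_zero, add_zero, zero_add]
    rw [← e, hmul _ (Suzuki.u_mem_U m _ _) _ (Suzuki.u_mem_U m _ _), hz, mul_one]
  have gadd : ∀ a c : F, g (a + c) = g a + g c := fun a c => by
    have h1 := hmul _ (Suzuki.u_mem_U m a 0) _ (Suzuki.u_mem_U m c 0)
    rw [Suzuki.u_mul, hsplit, hg, hg, hg, Suzuki.u_mul, Suzuki.u_inj] at h1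
    simpa using h1.2
  have g0 : g 0 = 0 := by
    have h1 := gadd 0 0
    rw [add_zero, Suzuki.add_self m] at h1
    exact h1
  have gscale : ∀ s : F, g (Suzuki.th m s) = s ^ 2 * Suzuki.th m s * g 1 := fun s => by
    rcases eq_or_ne s 0 with rfl | hs
    · simp [g0]
    have h1 := hequ _ (Suzuki.B_le_normalizer_U m (Suzuki.T_le_B m
      (Suzuki.t_mem_T m (Units.mk0 s hs)))) _ (Suzuki.u_mem_U m 1 0)
    rw [Suzuki.t_u, mul_one, mul_zero, hg, hg, Suzuki.t_u, mul_zero, Suzuki.u_inj] at h1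
    simpa using h1.2
  have gc : ∀ c : F, g c = Suzuki.th m c * c * g 1 := fun c => by
    obtain ⟨s, rfl⟩ := (Suzuki.th_bijective (F := F) m).2 c
    rw [gscale, Suzuki.th_th]
  obtain ⟨b, hb⟩ : ∃ b : F, Suzuki.th m b ≠ b := by
    by_contra hall
    push Not at hall
    have h3 : Fintype.card F ≤ 2 := by
      classical
      rw [← Finset.card_univ]
      refine le_trans (Finset.card_le_card (t := {0, 1}) fun x _ => ?_) Finset.card_le_two
      rcases Suzuki.th_eq_self m (hall x) with h | h <;> simp [h]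
    rw [Suzuki.SzField.card_eq (F := F) (m := m)] at h3
    have := Nat.pow_le_pow_right (show 1 ≤ 2 by norm_num)
      (show 2 ≤ 2 * m + 1 by have := Suzuki.SzField.pos (F := F) (m := m); omega)
    omega
  have g1 : g 1 = 0 := by
    have h1 := gadd 1 b
    rw [gc (1 + b), gc b, Suzuki.th_add, Suzuki.th_one] at h1
    have h2 : (b + Suzuki.th m b) * g 1 = 0 := by linear_combination h1
    refine (mul_eq_zero.mp h2).resolve_left fun h3 => hb ?_
    calc Suzuki.th m b = b + b + Suzuki.th m b := by rw [Suzuki.add_self m, zero_add]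
      _ = b := by rw [add_assoc, h3, add_zero]
  intro x hx
  obtain ⟨a, c, rfl⟩ := (Suzuki.mem_U m).mp hx
  rw [hsplit, hg, gc, g1, mul_zero, Suzuki.u_zero]

end Suzuki

section Unitary

open Matrix hiding vec
open Cfsg Cfsg.Agent.Unitary Cfsg.Agent.H52.SUThree Cfsg.Agent.H67.RankOneFix

variable {F : Type} [Field F] [Fintype F] [CharP F 2] {q : ℕ}

/-- `SU₃(q)` has no twist. -/
theorem noTwist_su_three (hF : Fintype.card F = q ^ 2) (hq : 4 ≤ q) : NoTwist (Cfsg.SU 3 F q) := by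
  classical
  haveI : Fact (Nat.Prime 2) := ⟨Nat.prime_two⟩
  obtain ⟨u, w, f, hfr⟩ := exists_frame (F := F) hF
  have hu0 : u ≠ 0 := fun h => by
    have := hfr.uf; rw [h, herm_zero_left] at this; exact zero_ne_one this
  obtain ⟨U₀, hU₀⟩ := (suGeom 2 hF).stab u ⟨hu0, hfr.uu⟩
  have hU : ∀ g : SU 3 F q, g ∈ (U₀ : Subgroup (SU 3 F q)) ↔ ap g u = u := hU₀
  refine NoTwist.of_one U₀ fun φ hmul hmem hinv hequ => ?_
  have hEU : ∀ {b β : F} (h : Ok q b β), eSU hF (h.spec hfr) ∈ (U₀ : Subgroup (SU 3 F q)) :=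
    fun {b β} h => (hU _).mpr (E_fixes hF hfr h)
  have hz : ∀ {β : F} (h : Ok q (0 : F) β), φ (eSU hF (h.spec hfr)) = 1 := fun {β} h => by
    refine hinv _ (hEU h) (eq_of_ap hfr fun p r s => ?_)
    rw [ap_mul, ap_E hF hfr h, ap_E hF hfr h, ap_one, zero_pow (q_ne_zero hF)]
    congr 1
    · linear_combination (β * s) * CharTwo.two_eq_zero (R := F)
    · ring
  have hshape : ∀ x ∈ (U₀ : Subgroup (SU 3 F q)),
      ∃ γ, ∃ h : Ok q (0 : F) γ, φ x = eSU hF (h.spec hfr) := fun x hx => by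
    obtain ⟨h1, h2⟩ := hmem x hx
    obtain ⟨b, β, h, e⟩ := eq_E_of_fix hF hfr ((hU _).mp h1)
    have hb : b = 0 := by
      rw [e, E_mul hF hfr h h] at h2
      have h3 := congrArg (fun z => hermForm 3 F q (ap z (vec u w f 0 0 1)) f) h2
      simp only [ap_E hF hfr (h.add hF h), ap_one, hfr.coord_f] at h3
      simp only [mul_zero, sub_zero, zero_add, mul_one, CharTwo.add_self_eq_zero, zero_sub,
        neg_eq_zero, mul_eq_zero, pow_q_eq_zero_iff hF, or_self] at h3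
      exact h3
    subst hb
    exact ⟨β, h, e⟩
  obtain ⟨g, hg⟩ := IsCyclic.exists_ofOrder_eq_natCard (α := Fˣ)
  rw [Nat.card_units, Nat.card_eq_fintype_card, hF] at hg
  set μ : F := ((g ^ (q - 1) : Fˣ) : F) with hμdef
  have hμ : μ ≠ 0 := Units.ne_zero _
  have hsq : (q - 1) * (q + 1) = q ^ 2 - 1 := by
    obtain ⟨k, rfl⟩ : ∃ k, q = k + 1 := ⟨q - 1, by omega⟩
    have e : (k + 1) ^ 2 = k * (k + 1 + 1) + 1 := by ring
    rw [e, Nat.add_sub_cancel, Nat.add_sub_cancel]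
  have hμ1 : μ * μ ^ q = 1 := by
    rw [← pow_succ', hμdef, ← Units.val_pow_eq_pow_val, ← pow_mul, hsq, ← hg, pow_orderOf_eq_one,
      Units.val_one]
  have hμq : μ ^ q = μ⁻¹ := eq_inv_of_mul_eq_one_right hμ1
  obtain ⟨t, ht⟩ := exists_map hF hfr !![μ, 0, 0; 0, μ ^ q / μ, 0; 0, 0, (μ ^ q)⁻¹] (by
      rw [Matrix.det_fin_three]
      simp
      field_simp)
    (fun x y => by
      simp [Matrix.mulVec, dotProduct, Fin.sum_univ_three, mul_pow, inv_pow, div_pow, pow_q_q hF]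
      field_simp)
  have ht' : ∀ p r s, ap t (vec u w f p r s) =
      vec u w f (μ * p) (μ ^ q / μ * r) ((μ ^ q)⁻¹ * s) := fun p r s => by
    rw [ht p r s]
    congr 1 <;> simp [Matrix.mulVec, dotProduct, Fin.sum_univ_three]
  have htN : t ∈ normalizer ((U₀ : Subgroup (SU 3 F q)) : Set (SU 3 F q)) := by
    have htu : ap t u = μ • u := by
      conv_lhs => rw [← fr_u u w f]
      rw [ht']
      simp [vec]
    refine H39.mem_normalizer_of_conj_mem fun x hx => (hU _).mpr ?_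
    have h1 : ap t⁻¹ u = μ⁻¹ • u := by
      have h0 : ap t⁻¹ (ap t u) = u := ap_inv_ap t u
      rw [htu, ap_smul] at h0
      conv_rhs => rw [← h0, smul_smul, inv_mul_cancel₀ hμ, one_smul]
    rw [ap_mul, ap_mul, h1, ap_smul, (hU x).mp hx, ap_smul, htu, smul_smul, inv_mul_cancel₀ hμ,
      one_smul]
  set κ : F := μ ^ q / μ * μ ^ q with hκdef
  have hconj : ∀ {b β : F} (h : Ok q b β), ∃ h' : Ok q (κ * b) β,
      t * eSU hF (h.spec hfr) * t⁻¹ = eSU hF (h'.spec hfr) := fun {b β} h => by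
    have hok : Ok q (κ * b) (μ * μ ^ q * β) := by
      rw [Ok, hκdef]
      simp only [mul_pow, div_pow, pow_q_q hF]
      field_simp
      have h0 : β + β ^ q + b * b ^ q = 0 := h
      linear_combination (μ * μ ^ q) * h0
    have h' : Ok q (κ * b) β := by
      have h2 := hok
      rwa [hμ1, one_mul] at h2
    refine ⟨h', ?_⟩
    rw [E_congr hF hfr h' hok rfl (by rw [hμ1, one_mul]), mul_inv_eq_iff_eq_mul]
    refine eq_of_ap hfr fun p r s => ?_
    rw [ap_mul, ap_mul, ht', ap_E hF hfr hok, ap_E hF hfr h, ht', hκdef]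
    simp only [mul_pow, div_pow, pow_q_q hF]
    have hq0 : μ ^ q ≠ 0 := pow_ne_zero _ hμ
    congr 1 <;> field_simp
  have hκ1 : κ ≠ 1 := fun h => by
    rw [hκdef, hμq, div_eq_mul_inv] at h
    have h3 : μ ^ 3 = 1 := by
      calc μ ^ 3 = μ ^ 3 * (μ⁻¹ * μ⁻¹ * μ⁻¹) := by rw [h, mul_one]
        _ = 1 := by field_simp
    rw [hμdef, ← Units.val_pow_eq_pow_val, ← pow_mul, Units.val_eq_one] at h3
    have hd := orderOf_dvd_of_pow_eq_one h3
    rw [hg, ← hsq] at hd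
    have hq3 := Nat.le_of_dvd (by norm_num) ((Nat.mul_dvd_mul_iff_left (by omega : 0 < q - 1)).mp hd)
    omega
  have hfix : ∀ {γ : F} (h : Ok q (0 : F) γ),
      t * eSU hF (h.spec hfr) * t⁻¹ = eSU hF (h.spec hfr) := fun {γ} h => by
    obtain ⟨h', e⟩ := hconj h
    rw [e]
    exact E_congr hF hfr h' h (mul_zero κ) rfl
  intro x hx
  obtain ⟨b, β, h, rfl⟩ := eq_E_of_fix hF hfr ((hU x).mp hx)
  have hne : κ - 1 ≠ 0 := sub_ne_zero.mpr hκ1
  obtain ⟨β', h'⟩ := exists_ok hF (b / (κ - 1))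
  obtain ⟨h'', e''⟩ := hconj h'
  have hyU := hEU h'
  have htyU : t * eSU hF (h'.spec hfr) * t⁻¹ ∈ (U₀ : Subgroup (SU 3 F q)) := by
    rw [e'']; exact hEU h''
  have hφ1 : φ 1 = 1 := hinv 1 (one_mem _) (mul_one 1)
  have hφinv : φ (eSU hF (h'.spec hfr))⁻¹ = (φ (eSU hF (h'.spec hfr)))⁻¹ :=
    eq_inv_of_mul_eq_one_left (by rw [← hmul _ (inv_mem hyU) _ hyU, inv_mul_cancel, hφ1])
  obtain ⟨γ, hγ, eγ⟩ := hshape _ hyU
  have hcomm : φ (t * eSU hF (h'.spec hfr) * t⁻¹ * (eSU hF (h'.spec hfr))⁻¹) = 1 := by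
    rw [hmul _ htyU _ (inv_mem hyU), hequ t htN _ hyU, hφinv, eγ, hfix hγ, mul_inv_cancel]
  have hbe : κ * (b / (κ - 1)) + -(b / (κ - 1)) = b := by field_simp; ring
  obtain ⟨δ, hd, ec⟩ : ∃ δ, ∃ hd : Ok q b δ,
      t * eSU hF (h'.spec hfr) * t⁻¹ * (eSU hF (h'.spec hfr))⁻¹ = eSU hF (hd.spec hfr) := by
    have hh := h''.add hF (h'.neg hF)
    have hh' := hh
    rw [hbe] at hh'
    refine ⟨_, hh', ?_⟩
    rw [e'', E_inv hF hfr h', E_mul hF hfr h'' (h'.neg hF)]
    exact E_congr hF hfr hh hh' hbe rfl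
  have hdd := (hd.neg hF).add hF h
  obtain ⟨ε, hε, eε⟩ : ∃ ε, ∃ hε : Ok q (0 : F) ε,
      (eSU hF (hd.spec hfr))⁻¹ * eSU hF (h.spec hfr) = eSU hF (hε.spec hfr) := by
    have hdd' := hdd
    rw [neg_add_cancel] at hdd'
    refine ⟨_, hdd', ?_⟩
    rw [E_inv hF hfr hd, E_mul hF hfr (hd.neg hF) h]
    exact E_congr hF hfr hdd hdd' (neg_add_cancel b) rfl
  rw [← mul_inv_cancel_left (eSU hF (hd.spec hfr)) (eSU hF (h.spec hfr)), eε,
    hmul _ (hEU hd) _ (hEU hε), hz hε, mul_one, ← ec, hcomm]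

end Unitary

/-- The groups of Bender's list have no twist. -/
theorem noTwist_of_bender {G : Type u} [Group G] [Finite G]
    (hB : H76.PostBender.IsBenderGroup G) : NoTwist G := by
  rcases hB with ⟨F, _, _, hc, -, ⟨e⟩⟩ | h | ⟨F, _, _, q, hF, hq, h4, ⟨e⟩⟩
  · haveI := hc
    obtain ⟨e'⟩ := H76.PostBender.nonempty_equiv_sl_two e
    refine (NoTwist.of_sq fun U x hx => ?_).of_equiv e'.symm
    obtain ⟨k, hk⟩ := U.isPGroup' ⟨x, hx⟩
    exact H6.StrongClosed.sl_two_sq (congrArg Subtype.val hk)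
  · obtain ⟨F, _, _, m, hm, hF, ⟨e⟩⟩ := h
    haveI : Suzuki.SzField F m := ⟨hF, hm⟩
    exact ((noTwist_sz (F := F) m).of_equiv (Suzuki.lieEquiv m)).of_equiv e.symm
  · haveI := H76.PostBender.charP_two_of_card hF hq
    refine ((noTwist_su_three hF h4).of_surjective (π := QuotientGroup.mk' (center (Cfsg.SU 3 F q)))
      (QuotientGroup.mk'_surjective _) fun x hx k hk => ?_).of_equiv e.symm
    rw [QuotientGroup.ker_mk'] at hx
    obtain ⟨l, hl⟩ := Unitary.eq_smul_of_mem_center hF (by norm_num) hx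
    have hm := Unitary.mat_of_ap_smul hl
    have hm' : ((x : Matrix.SpecialLinearGroup (Fin 3) F) : Matrix (Fin 3) (Fin 3) F) =
        l • (1 : Matrix (Fin 3) (Fin 3) F) := hm
    have hl3 : l ^ 3 = 1 := by
      have h := (x : Matrix.SpecialLinearGroup (Fin 3) F).2
      rw [hm', Matrix.det_smul, Matrix.det_one, mul_one, Fintype.card_fin] at h
      exact h
    have hx3 : x ^ 3 = 1 := Subtype.ext (Subtype.ext (by
      simp only [SubmonoidClass.coe_pow, Matrix.SpecialLinearGroup.coe_pow, hm', smul_pow, one_pow,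
        hl3, one_smul]
      rfl))
    exact orderOf_eq_one_iff.mp (Nat.eq_one_of_dvd_coprimes
      ((by norm_num : Nat.Coprime 3 2).pow_right k) (orderOf_dvd_of_pow_eq_one hx3)
      (orderOf_dvd_of_pow_eq_one hk))

end Cfsg.Agent.H48.WA
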