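import Cfsg.Agent.H67.RankOneFix.SUThree
import Cfsg.Agent.H26.StronglyEmbedded
import Cfsg.Agent.H39.Dihedral
import Cfsg.Prelude.Def_Involutions

/-!
# `PSU₃(q)`, `q` even, has a strongly embedded subgroup

An involution of `SU₃(q)` fixes exactly one isotropic point.
-/

set_option autoImplicit false
set_option linter.style.haveILetI false

namespace Cfsg.Agent.H48.WA

open Matrix hiding vec
open Subgroup Cfsg Cfsg.Agent.Unitary Cfsg.Agent.H52.SUThree Cfsg.Agent.H67.RankOneFix

variable {F : Type} [Field F] [Fintype F] [CharP F 2] {q : ℕ}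

/-- The elements fixing the point of `u`. -/
def lineFixer (u : Fin 3 → F) : Subgroup (SU 3 F q) where
  carrier := {g | ∃ c : F, c ≠ 0 ∧ ap g u = c • u}
  one_mem' := ⟨1, one_ne_zero, by rw [ap_one, one_smul]⟩
  mul_mem' := by
    rintro g h ⟨c, hc, e⟩ ⟨d, hd, e'⟩
    exact ⟨d * c, mul_ne_zero hd hc, by rw [ap_mul, e', ap_smul, e, smul_smul]⟩
  inv_mem' := by
    rintro g ⟨c, hc, e⟩
    refine ⟨c⁻¹, inv_ne_zero hc, ap_injective g ?_⟩
    rw [ap_smul, e, smul_smul, inv_mul_cancel₀ hc, one_smul, ← ap_mul, mul_inv_cancel, ap_one]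

theorem mem_lineFixer {u : Fin 3 → F} {g : SU 3 F q} :
    g ∈ lineFixer u ↔ ∃ c : F, c ≠ 0 ∧ ap g u = c • u := Iff.rfl

/-- `PSU₃(q)`, `q` even, has a strongly embedded subgroup. -/
theorem exists_se_psu_three (hF : Fintype.card F = q ^ 2) :
    ∃ H : Subgroup (Cfsg.PSU 3 F q), Cfsg.IsStronglyEmbedded H := by
  classical
  haveI : Fact (Nat.Prime 2) := ⟨Nat.prime_two⟩
  have hq0 := q_ne_zero hF
  obtain ⟨u, w, f, hfr⟩ := exists_frame (F := F) hF
  have hu0 : u ≠ 0 := fun h => by
    have := hfr.uf; rw [h, herm_zero_left] at this; exact zero_ne_one this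
  set H : Subgroup (SU 3 F q) := lineFixer u with hH
  -- an involution of `H` fixes no other isotropic point
  have hkey : ∀ t ∈ H, t * t = 1 → t ≠ 1 → ∀ g : SU 3 F q, g * t * g⁻¹ ∈ H → g ∈ H := by
    intro t ht ht2 ht1 g hg
    obtain ⟨c, hc0, hc⟩ := mem_lineFixer.1 ht
    have hc1 : c = 1 := by
      have h := congrArg (fun x => ap x u) ht2
      simp only [ap_mul, hc, ap_smul, smul_smul, ap_one] at h
      have h' : c * c = 1 := smul_left_injective F hu0 (by simpa using h)
      rcases mul_self_eq_one_iff.1 h' with e | e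
      · exact e
      · rw [e, CharTwo.neg_eq]
    rw [hc1, one_smul] at hc
    obtain ⟨b, β, h, rfl⟩ := eq_E_of_fix hF hfr hc
    have hb : b = 0 := by
      rw [E_mul hF hfr h h] at ht2
      have h3 := congrArg (fun z => hermForm 3 F q (ap z (vec u w f 0 0 1)) f) ht2
      simp only [ap_E hF hfr (h.add hF h), ap_one, hfr.coord_f] at h3
      simp only [mul_zero, sub_zero, zero_add, mul_one, CharTwo.add_self_eq_zero, zero_sub,
        neg_eq_zero, mul_eq_zero, pow_q_eq_zero_iff hF, or_self] at h3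
      exact h3
    subst hb
    have hβ : β ≠ 0 := fun e => ht1 (eq_of_ap hfr fun p r s => by
      rw [ap_E hF hfr h, ap_one, e, zero_pow hq0]; simp)
    obtain ⟨d, hd0, hd⟩ := mem_lineFixer.1 hg
    set v := ap g⁻¹ u with hv
    have hvv : hermForm 3 F q v v = 0 := by rw [hv, herm_ap]; exact hfr.uu
    have htv : ap (eSU hF (h.spec hfr)) v = d • v := by
      rw [ap_mul, ap_mul] at hd
      refine ap_injective g ?_
      rw [hv, hd, ap_smul, ← ap_mul g g⁻¹, mul_inv_cancel, ap_one]
    set a := hermForm 3 F q v f with ha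
    set r := hermForm 3 F q v w with hr
    set s := hermForm 3 F q v u with hs
    have hve : v = vec u w f a r s := hfr.expand v
    rw [hve, ap_E hF hfr h] at htv
    have hs0 : s = 0 := by
      by_contra hs0
      have e1 := congrArg (fun y => hermForm 3 F q y u) htv
      have e2 := congrArg (fun y => hermForm 3 F q y f) htv
      simp only [herm_smul_left, hfr.coord_u, hfr.coord_f] at e1 e2
      have hd1 : d = 1 := mul_right_cancel₀ hs0 (by rw [← e1, one_mul])
      rw [hd1, one_mul, zero_pow hq0, zero_mul, sub_zero] at e2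
      exact mul_ne_zero hβ hs0 (by linear_combination e2)
    have hr0 : r = 0 := by
      have hnorm : a * s ^ q + r * r ^ q + s * a ^ q = 0 := by
        rw [← hfr.herm_vec hF, ← hve]; exact hvv
      rw [hs0, zero_pow hq0, mul_zero, zero_mul, zero_add, add_zero, mul_eq_zero,
        pow_eq_zero_iff hq0, or_self] at hnorm
      exact hnorm
    have hva : v = a • u := by rw [hve, hs0, hr0]; simp [vec]
    have ha0 : a ≠ 0 := fun e => hu0 (ap_injective g⁻¹ (by
      rw [ap_zero, ← hv, hva, e, zero_smul]))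
    refine mem_lineFixer.2 ⟨a⁻¹, inv_ne_zero ha0, smul_right_injective _ ha0 ?_⟩
    show a • ap g u = a • (a⁻¹ • u)
    rw [smul_smul, mul_inv_cancel₀ ha0, one_smul, ← ap_smul, ← hva, hv, ← ap_mul, mul_inv_cancel,
      ap_one]
  -- the quotient
  set Z := center (SU 3 F q) with hZdef
  set π := QuotientGroup.mk' Z
  have hπ : Function.Surjective π := QuotientGroup.mk'_surjective _
  have hZH : Z ≤ H := fun z hz => by
    obtain ⟨l, hl⟩ := eq_smul_of_mem_center hF (by norm_num) hz
    refine mem_lineFixer.2 ⟨l, fun e => hu0 (ap_injective z ?_), hl u⟩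
    rw [ap_zero, hl u, e, zero_smul]
  have hmem : ∀ {x : SU 3 F q}, π x ∈ H.map π → x ∈ H := fun {x} hx => by
    obtain ⟨y, hy, e⟩ := hx
    have hz : y⁻¹ * x ∈ Z := QuotientGroup.eq.1 e
    have h2 := H.mul_mem hy (hZH hz)
    rwa [mul_inv_cancel_left] at h2
  have hZodd : Odd (Nat.card Z) := by
    rw [hZdef, card_center_SU hF (by norm_num)]
    rcases (Nat.dvd_prime Nat.prime_three).1 (Nat.gcd_dvd_left 3 (q + 1)) with e | e <;> rw [e]
    exacts [odd_one, by decide]
  have hproper : H.map π ≠ ⊤ := fun e => by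
    obtain ⟨β, hβ⟩ := exists_ok hF (1 : F)
    set g := eSU hF (hβ.spec' hfr)
    obtain ⟨c, -, hc⟩ := mem_lineFixer.1 (hmem (e ▸ mem_top (π g)))
    rw [← fr_u u w f, ap_E' hF hfr hβ] at hc
    have h2 := congrArg (fun y => hermForm 3 F q y w) hc
    simp only [herm_smul_left, hfr.coord_w, mul_zero, mul_one, zero_add] at h2
    exact one_ne_zero h2
  have hok : Ok q (0 : F) 1 := by
    rw [Ok, one_pow, zero_mul, add_zero, CharTwo.add_self_eq_zero]
  set t₀ := eSU hF (hok.spec hfr)
  have ht₀H : t₀ ∈ H := mem_lineFixer.2 ⟨1, one_ne_zero, by rw [E_fixes hF hfr hok, one_smul]⟩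
  have ht₀2 : t₀ * t₀ = 1 := eq_of_ap hfr fun p r s => by
    rw [ap_mul, ap_E hF hfr hok, ap_E hF hfr hok, ap_one, zero_pow hq0]
    congr 1
    · linear_combination s * CharTwo.two_eq_zero (R := F)
    · ring
  have ht₀1 : t₀ ≠ 1 := fun e => by
    have h := congrArg (fun z => hermForm 3 F q (ap z (vec u w f 0 0 1)) f) e
    simp only [t₀, ap_E hF hfr hok, ap_one, hfr.coord_f, mul_zero, sub_zero, zero_add, mul_one] at h
    exact one_ne_zero h
  have hπt : π t₀ ≠ 1 := fun e => ht₀1 (orderOf_eq_one_iff.1 (Nat.eq_one_of_dvd_coprimes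
    (Nat.coprime_two_left.2 hZodd) (orderOf_dvd_of_pow_eq_one (by rw [pow_two]; exact ht₀2))
    (orderOf_dvd_natCard _ ((QuotientGroup.eq_one_iff _).1 e))))
  refine ⟨H.map π, (H26.isStronglyEmbedded_iff_involution _ hproper ?_).2 ?_⟩
  · have h2 : orderOf (⟨π t₀, mem_map_of_mem π ht₀H⟩ : ↥(H.map π)) = 2 := by
      rw [← Subgroup.orderOf_coe]
      exact H39.orderOf_eq_two_of_mul_self (by rw [← map_mul, ht₀2, map_one]) hπt
    exact even_iff_two_dvd.2 (h2 ▸ orderOf_dvd_natCard _)
  · intro x hx hx2 y hy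
    obtain ⟨t, ht, rfl⟩ := hx
    obtain ⟨g, rfl⟩ := hπ y
    rw [← map_inv, ← map_mul, ← map_mul] at hy
    obtain ⟨k, hk⟩ := hZodd
    have hpt : π (t ^ Nat.card Z) = π t := by
      rw [map_pow, hk, pow_succ, pow_mul, pow_two, H39.mul_self_of_orderOf_eq_two hx2, one_pow,
        one_mul]
    have htt : t * t ∈ Z := (QuotientGroup.eq_one_iff _).1 (by
      show π (t * t) = 1
      rw [map_mul, H39.mul_self_of_orderOf_eq_two hx2])
    have hsq : t ^ Nat.card Z * t ^ Nat.card Z = 1 := by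
      rw [← (Commute.refl t).mul_pow]
      exact congrArg Subtype.val (pow_card_eq_one' (x := (⟨t * t, htt⟩ : ↥Z)))
    refine mem_map_of_mem π (hkey (t ^ Nat.card Z) (H.pow_mem ht _) hsq (fun e => ?_) g (hmem ?_))
    · exact H39.ne_one_of_orderOf_eq_two hx2 (by rw [← hpt, e, map_one])
    · rw [map_mul, map_mul, hpt, ← map_mul, ← map_mul]
      exact hy

end Cfsg.Agent.H48.WA
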