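import Cfsg.Agent.H48.WA.TwoStart
import Cfsg.Agent.H77.WA.FourCentDefs

/-!
# `|A| ≤ 4`: assembly of the steps
-/

set_option autoImplicit false

namespace Cfsg.Agent.H48.WA

open Subgroup Cfsg.Agent

universe u

/-- The case `|A| ≤ 4` from its steps. -/
theorem rankTwoStep_of (hB : H77.WA.BarStruct.{u}) (h486 : UThreeFourHyp.{u})
    (hgood : H77.WA.GoodStep.{u}) (htorus : H77.WA.TorusStep.{u})
    (hsmall : H77.WA.SmallCentStep.{u}) (hfour : H77.WA.FourCentStep.{u}) :
    H77.WA.RankTwoStep.{u} := by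
  intro G _ _ S A h hA
  have hT := twoStart hB S A h hA
  by_cases hex : ∃ e, H77.WA.Outer A e
  · by_cases hall : H77.WA.AllToral A
    · rcases htorus G S A hT hall hex with hs | hf
      · exact hsmall G S A hT hs
      · exact hfour G S A hT hall hf
    · obtain ⟨e, he⟩ := not_forall.1 hall
      obtain ⟨he1, he2⟩ := Classical.not_imp.1 he
      exact hgood G S A hT ⟨e, he1, fun a ha ht => he2 ⟨a, ha, ht⟩⟩
  · exact noOuter h486 hT fun e he => hex ⟨e, he⟩

end Cfsg.Agent.H48.WA
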