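import Cfsg.Agent.H48.WA.Components
import Cfsg.Agent.H48.WA.Inner
import Cfsg.Agent.Components.Fitting

/-!
# The normal closure of a strongly closed elementary 2-subgroup

In a group `X` with trivial odd core let `A` be elementary abelian and strongly closed, and let the
central quotient of every component met by `A` be rigid.  Then `A` is `A ⊓ O₂(X)` times the
`A ⊓ L`, `L` met, and its normal closure is `A ⊓ O₂(X)` times the met components.
-/

set_option autoImplicit false
set_option linter.style.haveILetI false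

namespace Cfsg.Agent.H48.WA

open Subgroup Cfsg.Agent
open scoped commutatorElement Pointwise

universe u

local instance fact_two'' : Fact (Nat.Prime 2) := ⟨Nat.prime_two⟩

theorem Rigid.of_equiv {Y : Type u} {Y' : Type u} [Group Y] [Finite Y] [Group Y'] (e : Y ≃* Y')
    (h : Rigid Y) : Rigid Y' := by
  haveI : Finite Y' := Finite.of_equiv _ e.toEquiv
  refine ⟨fun U' a ha b hb ha2 hb2 => ?_, h.noTwist.of_equiv e⟩
  obtain ⟨U, rfl⟩ := Sylow.mapSurjective_surjective (f := e.toMonoidHom) e.surjective 2 U'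
  change a ∈ (U : Subgroup Y).map e.toMonoidHom at ha
  change b ∈ (U : Subgroup Y).map e.toMonoidHom at hb
  obtain ⟨x, hx, rfl⟩ := ha
  obtain ⟨y, hy, rfl⟩ := hb
  rw [orderOf_injective e.toMonoidHom e.injective] at ha2 hb2
  obtain ⟨n, hn, e'⟩ := h.conj U x hx y hy ha2 hb2
  exact ⟨e n, le_normalizer_map e.toMonoidHom ⟨n, hn, rfl⟩, by rw [← e']; simp⟩

variable {X : Type u} [Group X] [Finite X] {S : Sylow 2 X} {A : Subgroup X}

/-- **A met component: inner action.** -/
theorem le_inf_sup_centralizer (hA : Cfsg.IsStronglyClosed A (S : Subgroup X))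
    (hab : IsMulCommutative ↥A) (hsq : ∀ a ∈ A, a * a = 1) (hO : Cfsg.oddCore X = ⊥)
    {L : Subgroup X} (hL : Cfsg.IsComponent L) (hmet : ¬ A ⊓ L ≤ centralizer (L : Set X))
    (hR : Rigid (↥L ⧸ center ↥L)) : A ≤ A ⊓ L ⊔ A ⊓ centralizer (L : Set X) := by
  classical
  have hc : ∀ a ∈ A, ∀ b ∈ A, a * b = b * a := fun a ha b hb =>
    congrArg Subtype.val (mul_comm' (⟨a, ha⟩ : ↥A) ⟨b, hb⟩)
  have hAN := le_normalizer_component hA hab hO hL
  set M := L ⊔ A with hM
  have hLM : L ≤ M := le_sup_left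
  have hAM : A ≤ M := le_sup_right
  -- `S ⊓ M` is a Sylow subgroup of `M`
  obtain ⟨R, hR1⟩ := (S.isPGroup'.comap_subtype (K := M)).exists_le_sylow
  have hRS : ∀ r : ↥M, r ∈ (R : Subgroup ↥M) → (r : X) ∈ (S : Subgroup X) := by
    intro r hr
    have hr' : (r : X) ∈ ((L ⊔ A : Subgroup X) : Set X) := r.2
    rw [coe_mul_of_right_le_normalizer_left L A hAN] at hr'
    obtain ⟨l, hl, a, ha, e⟩ := hr'
    have haR : (⟨a, hAM ha⟩ : ↥M) ∈ (R : Subgroup ↥M) := hR1 (mem_subgroupOf.2 (hA.1 ha))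
    have hlR : (⟨l, hLM hl⟩ : ↥M) ∈ (R : Subgroup ↥M) := by
      have h := mul_mem hr (inv_mem haR)
      rwa [show (⟨l, hLM hl⟩ : ↥M) = r * (⟨a, hAM ha⟩ : ↥M)⁻¹ from Subtype.ext (by
        show l = (r : X) * a⁻¹
        rw [← e]; group)]
    obtain ⟨P, hP⟩ := Cfsg.Agent.S0542.result 2 L hL.1 S
    have hQ : IsPGroup 2 ↥((R : Subgroup ↥M).comap (Subgroup.inclusion hLM)) :=
      R.isPGroup'.comap_of_injective _ (Subgroup.inclusion_injective hLM)
    have hPQ : (P : Subgroup ↥L) ≤ (R : Subgroup ↥M).comap (Subgroup.inclusion hLM) := fun x hx => by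
      rw [hP, mem_subgroupOf] at hx
      exact hR1 (mem_subgroupOf.2 hx)
    have hlS : (⟨l, hl⟩ : ↥L) ∈ (P : Subgroup ↥L) := by
      rw [← P.is_maximal' hQ hPQ]; exact hlR
    rw [hP, mem_subgroupOf] at hlS
    rw [← e]
    exact mul_mem hlS (hA.1 ha)
  set A' := A.subgroupOf M with hA'
  have hA'cl : Cfsg.IsStronglyClosed A' (R : Subgroup ↥M) :=
    ⟨fun x hx => hR1 (mem_subgroupOf.2 (hA.1 (mem_subgroupOf.1 hx))),
      fun x hx g hg => mem_subgroupOf.2 (hA.2 x (mem_subgroupOf.1 hx) g (hRS _ hg))⟩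
  -- the quotient by the centre of `L`
  set Lm := L.subgroupOf M with hLm
  haveI : Lm.Normal :=
    (normal_subgroupOf_iff_le_normalizer hLM).2 (sup_le le_normalizer hAN)
  set Z := Lm ⊓ centralizer (Lm : Set ↥M) with hZ
  set π := QuotientGroup.mk' Z
  have hπ : Function.Surjective π := QuotientGroup.mk'_surjective Z
  set Y := Lm.map π
  haveI : Y.Normal := (inferInstance : Lm.Normal).map π hπ
  set f : ↥L →* ↥Y := (π.comp (Subgroup.inclusion hLM)).codRestrict Y
    fun x => ⟨_, mem_subgroupOf.2 x.2, rfl⟩ with hf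
  have hfs : Function.Surjective f := by
    rintro ⟨_, k, hk, rfl⟩
    exact ⟨⟨k, mem_subgroupOf.1 hk⟩, rfl⟩
  have hker : f.ker = center ↥L := by
    ext x
    rw [MonoidHom.mem_ker, Subtype.ext_iff]
    show (Subgroup.inclusion hLM x : ↥M ⧸ Z) = 1 ↔ _
    rw [QuotientGroup.eq_one_iff, mem_center_iff]
    refine ⟨fun hx y => Subtype.ext ?_, fun hx => ⟨mem_subgroupOf.2 x.2,
      mem_centralizer_iff.2 fun y hy => Subtype.ext (show (y : X) * (x : X) = (x : X) * (y : X) from
        congrArg (fun w : ↥L => (w : X)) (hx ⟨y, mem_subgroupOf.1 hy⟩))⟩⟩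
    exact congrArg (fun w : ↥M => (w : X))
      (mem_centralizer_iff.1 hx.2 ⟨y, hLM y.2⟩ (mem_subgroupOf.2 y.2))
  have eY : (↥L ⧸ center ↥L) ≃* ↥Y :=
    (QuotientGroup.quotientMulEquivOfEq hker.symm).trans
      (QuotientGroup.quotientKerEquivOfSurjective f hfs)
  haveI : Finite (↥L ⧸ center ↥L) := inferInstance
  haveI := hL.2.2
  have hs : IsSimpleGroup ↥Y := eY.symm.isSimpleGroup
  have hna : ¬ IsMulCommutative ↥Y := fun h => Components.qs_quotient_not_comm hL.2
    ⟨⟨fun x y => eY.injective (by rw [map_mul, map_mul, h.1.comm])⟩⟩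
  have hsup : Y ⊔ A'.map π = ⊤ := by
    have e : Lm ⊔ A' = ⊤ := by
      show L.subgroupOf M ⊔ A.subgroupOf M = ⊤
      rw [← subgroupOf_sup hLM hAM, subgroupOf_self]
    rw [← Subgroup.map_sup, e, Subgroup.map_top_of_surjective π hπ]
  have hsq' : ∀ b ∈ A'.map π, b * b = 1 := by
    rintro _ ⟨b, hb, rfl⟩
    rw [← map_mul, show b * b = 1 from Subtype.ext (hsq _ (mem_subgroupOf.1 hb)), map_one]
  have hab' : IsMulCommutative ↥(A'.map π) := by
    refine ⟨⟨?_⟩⟩
    rintro ⟨_, u, hu, rfl⟩ ⟨_, v, hv, rfl⟩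
    refine Subtype.ext ?_
    show π u * π v = π v * π u
    rw [← map_mul, ← map_mul,
      show u * v = v * u from Subtype.ext (hc _ (mem_subgroupOf.1 hu) _ (mem_subgroupOf.1 hv))]
  have hmet' : A'.map π ⊓ Y ≠ ⊥ := fun e => hmet fun w hw => by
    have h : π ⟨w, hLM hw.2⟩ ∈ A'.map π ⊓ Y :=
      ⟨mem_map_of_mem π (mem_subgroupOf.2 hw.1), mem_map_of_mem π (mem_subgroupOf.2 hw.2)⟩
    rw [e, mem_bot] at h
    exact mem_centralizer_iff.2 fun y hy => congrArg (fun z : ↥M => (z : X))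
      (mem_centralizer_iff.1 ((QuotientGroup.eq_one_iff _).1 h).2 ⟨y, hLM hy⟩
        (mem_subgroupOf.2 hy))
  have key := le_inf_sup_centralizer_of_normal (S := R.mapSurjective hπ) (A := A'.map π)
    (by rw [Sylow.coe_mapSurjective]; exact Cfsg.Agent.S1250.result R A' hA'cl Z) hab' hsq'
    hs hna (hR.of_equiv eY) hsup hmet'
  intro a ha
  have haM : π ⟨a, hAM ha⟩ ∈ A'.map π ⊓ Y ⊔ A'.map π ⊓ centralizer (Y : Set (↥M ⧸ Z)) :=
    key (mem_map_of_mem π (mem_subgroupOf.2 ha))
  have hle : A'.map π ⊓ centralizer (Y : Set (↥M ⧸ Z)) ≤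
      normalizer ((A'.map π ⊓ Y : Subgroup (↥M ⧸ Z)) : Set (↥M ⧸ Z)) := by
    refine le_trans (le_centralizer_iff.1 fun x hx => ?_) (centralizer_le_normalizer _)
    exact mem_centralizer_iff.2 fun y hy => (mem_centralizer_iff.1 hy.2 x hx.2).symm
  obtain ⟨b', hb', c', hc', e⟩ : π ⟨a, hAM ha⟩ ∈
      ((A'.map π ⊓ Y : Subgroup (↥M ⧸ Z)) : Set (↥M ⧸ Z)) *
        ((A'.map π ⊓ centralizer (Y : Set (↥M ⧸ Z)) : Subgroup (↥M ⧸ Z)) : Set (↥M ⧸ Z)) := by
    rw [← coe_mul_of_right_le_normalizer_left _ _ hle]; exact haM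
  obtain ⟨⟨b, hb, eb⟩, l, hl, el⟩ := hb'
  have hbL : (b : X) ∈ L := by
    have hz : l⁻¹ * b ∈ Z := QuotientGroup.eq.1 (el.trans eb.symm)
    have h := Lm.mul_mem hl hz.1
    rw [mul_inv_cancel_left] at h
    exact mem_subgroupOf.1 h
  have hbA : (b : X) ∈ A := mem_subgroupOf.1 hb
  set cM : ↥M := b⁻¹ * ⟨a, hAM ha⟩ with hcM
  have hcY : π cM ∈ centralizer (Y : Set (↥M ⧸ Z)) := by
    rw [hcM, map_mul, map_inv, eb, ← e]
    show b'⁻¹ * (b' * c') ∈ _
    rw [inv_mul_cancel_left]
    exact hc'.2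
  have h1 : ⁅zpowers cM, Lm⁆ ≤ Z := by
    rw [commutator_le]
    intro x hx k hk
    rw [← QuotientGroup.eq_one_iff (N := Z)]
    show π ⁅x, k⁆ = 1
    rw [map_commutatorElement, commutatorElement_eq_one_iff_mul_comm]
    obtain ⟨i, rfl⟩ := mem_zpowers_iff.1 hx
    rw [map_zpow]
    exact (mem_centralizer_iff.1 (zpow_mem hcY i) (π k) (mem_map_of_mem π hk)).symm
  have hp : ⁅Lm, Lm⁆ = Lm := by
    apply map_injective M.subtype_injective
    rw [map_commutator, hLm, map_subgroupOf_eq_of_le hLM, Components.component_perfect hL]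
  have h2 : ⁅zpowers cM, Lm⁆ = ⊥ := Components.commutator_eq_bot_of_perfect' hp (by
    rw [commutator_eq_bot_iff_le_centralizer]
    exact fun x hx => (h1 hx).2)
  have hcC : (cM : X) ∈ centralizer (L : Set X) := mem_centralizer_iff.2 fun y hy =>
    (congrArg Subtype.val (Components.commute_of_commutator_eq_bot h2 (mem_zpowers _)
      (show (⟨y, hLM hy⟩ : ↥M) ∈ Lm from mem_subgroupOf.2 hy))).symm
  rw [show a = (b : X) * (cM : X) by rw [hcM]; simp]
  exact mul_mem (mem_sup_left ⟨hbA, hbL⟩)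
    (mem_sup_right ⟨Subgroup.mul_mem _ (Subgroup.inv_mem _ hbA) ha, hcC⟩)

/-! ### The global form -/

/-- The components met by `A`. -/
def IsMet (A L : Subgroup X) : Prop :=
  Cfsg.IsComponent L ∧ ¬ A ⊓ L ≤ centralizer (L : Set X)

/-- The product of the met components. -/
def metJoin (A : Subgroup X) : Subgroup X :=
  sSup {L | IsMet A L}

/-- `A ⊓ O₂(X)` is normal. -/
theorem inf_pCore_normal (hA : Cfsg.IsStronglyClosed A (S : Subgroup X)) :
    (A ⊓ Cfsg.pCore 2 X).Normal := by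
  refine ⟨fun x hx g => ?_⟩
  have h : g * x * g⁻¹ ∈ Cfsg.pCore 2 X :=
    (inferInstance : (Cfsg.pCore 2 X).Normal).conj_mem x hx.2 g
  exact ⟨hA.2 x hx.1 g (Cores.pCore_le_sylow S h), h⟩

theorem fitting_eq_pCore_two (hO : Cfsg.oddCore X = ⊥) :
    Cfsg.fittingSubgroup X = Cfsg.pCore 2 X := by
  refine le_antisymm ?_ (Components.pCore_le_fitting 2)
  rw [Components.fitting_eq_iSup_pCore]
  refine iSup_le fun q => ?_
  by_cases hq : (q : ℕ) = 2
  · rw [hq]
  haveI := Fact.mk (Nat.prime_of_mem_primeFactors q.2)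
  refine le_trans (Cores.le_oddCore ?_) (hO.trans_le bot_le)
  obtain ⟨k, hk⟩ := IsPGroup.iff_card.1 (Components.isPGroup_pCore (q : ℕ) (G := X))
  rw [hk]
  exact ((Nat.prime_of_mem_primeFactors q.2).odd_of_ne_two hq).pow

/-- An element of `A` centralising the layer lies in `O₂(X)`. -/
theorem mem_pCore_of_centralizer_layer (hA : Cfsg.IsStronglyClosed A (S : Subgroup X))
    (hab : IsMulCommutative ↥A) (hsq : ∀ a ∈ A, a * a = 1) (hO : Cfsg.oddCore X = ⊥) {a : X}
    (ha : a ∈ A) (haE : a ∈ centralizer (Cfsg.layer X : Set X)) : a ∈ Cfsg.pCore 2 X := by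
  classical
  set P := Cfsg.pCore 2 X
  set A0 := A ⊓ P with hA0
  haveI hn0 : A0.Normal := inf_pCore_normal hA
  set N : Subgroup X := centralizer (Cfsg.layer X : Set X) ⊓
    centralizer (A0 : Set X) with hN
  -- elements of `N` centralising `O₂(X)` modulo `A ⊓ O₂(X)`
  set K : Subgroup X :=
    N ⊓ (centralizer ((P.map (QuotientGroup.mk' A0) : Subgroup (X ⧸ A0)) : Set (X ⧸ A0))).comap
      (QuotientGroup.mk' A0) with hK
  haveI : (P.map (QuotientGroup.mk' A0)).Normal :=
    (inferInstance : P.Normal).map _ (QuotientGroup.mk'_surjective _)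
  haveI hKn : K.Normal := inferInstance
  have hPA : ∀ o ∈ P, a * o * a⁻¹ * o⁻¹ ∈ A0 := by
    intro o ho
    have hoS : o ∈ (S : Subgroup X) := Cores.pCore_le_sylow S ho
    have h1 : o * a * o⁻¹ ∈ A :=
      hA.2 a ha o (Subgroup.mul_mem _ (Subgroup.mul_mem _ hoS (hA.1 ha)) (Subgroup.inv_mem _ hoS))
    refine ⟨?_, Subgroup.mul_mem _ ((inferInstance : P.Normal).conj_mem o ho a) (Subgroup.inv_mem _ ho)⟩
    rw [show a * o * a⁻¹ * o⁻¹ = a * (o * a * o⁻¹)⁻¹ by group]
    exact Subgroup.mul_mem _ ha (Subgroup.inv_mem _ h1)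
  have haK : a ∈ K := by
    refine ⟨⟨haE, mem_centralizer_iff.2 fun y hy =>
      congrArg Subtype.val (mul_comm' (⟨y, hy.1⟩ : ↥A) ⟨a, ha⟩)⟩, ?_⟩
    show QuotientGroup.mk' A0 a ∈ centralizer _
    rw [mem_centralizer_iff]
    rintro _ ⟨o, ho, rfl⟩
    rw [eq_comm, ← commutatorElement_eq_one_iff_mul_comm, ← map_commutatorElement,
      QuotientGroup.mk'_apply, QuotientGroup.eq_one_iff, commutatorElement_def]
    exact hPA o ho
  have hsqK : ∀ k ∈ K, k * k ∈ P := by
    intro k hk
    have hCP : k * k ∈ centralizer (P : Set X) := mem_centralizer_iff.2 fun o ho => by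
      have h1 := mem_centralizer_iff.1 (mem_comap.1 hk.2) _
        (mem_map_of_mem (QuotientGroup.mk' A0) ho)
      rw [← map_mul, ← map_mul, QuotientGroup.mk'_apply, QuotientGroup.mk'_apply,
        QuotientGroup.eq] at h1
      -- `k o = o k d` with `d` fixed by `k` and of square one
      set d := (o * k)⁻¹ * (k * o) with hd
      have hdA : d ∈ A0 := h1
      have hdk : d * k = k * d := (mem_centralizer_iff.1 hk.1.2 d hdA)
      have hd2 : d * d = 1 := hsq d hdA.1
      have e : k * o = o * k * d := by rw [hd]; group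
      symm
      calc k * k * o = k * (o * k * d) := by rw [← e, mul_assoc]
        _ = k * o * k * d := by group
        _ = o * k * d * k * d := by rw [e]
        _ = o * k * (d * k) * d := by group
        _ = o * (k * k) * (d * d) := by rw [hdk]; group
        _ = o * (k * k) := by rw [hd2, mul_one]
    have hCF : k * k ∈ centralizer (Cfsg.generalizedFittingSubgroup X : Set X) := by
      refine mem_centralizer_iff.2 fun y hy => ?_
      have hle : Cfsg.generalizedFittingSubgroup X ≤ centralizer ({k * k} : Set X) :=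
        sup_le (fun z hz => mem_centralizer_singleton_iff.2
          (mem_centralizer_iff.1 (mul_mem hk.1.1 hk.1.1) z hz)) (by
          rw [fitting_eq_pCore_two hO]
          exact fun z hz => mem_centralizer_singleton_iff.2 (mem_centralizer_iff.1 hCP z hz))
      exact mem_centralizer_singleton_iff.1 (hle hy)
    have hn : Group.IsNilpotent
        ↥(centralizer (Cfsg.generalizedFittingSubgroup X : Set X)) := by
      haveI : IsMulCommutative ↥(centralizer (Cfsg.generalizedFittingSubgroup X : Set X)) :=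
        ⟨⟨fun u v => Subtype.ext
          (mem_centralizer_iff.1 v.2 u (Components.centralizer_genFitting_le u.2))⟩⟩
      exact @CommGroup.isNilpotent _ { (inferInstance : Group _) with mul_comm := mul_comm' }
    have hle2 : centralizer (Cfsg.generalizedFittingSubgroup X : Set X) ≤
        Cfsg.fittingSubgroup X :=
      Components.normal_nilpotent_le_fitting inferInstance hn
    show k * k ∈ Cfsg.pCore 2 X
    rw [← fitting_eq_pCore_two hO]
    exact hle2 hCF
  have hKp : IsPGroup 2 ↥K := fun k => by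
    obtain ⟨j, hj⟩ := Components.isPGroup_pCore 2 (G := X) ⟨_, hsqK k k.2⟩
    refine ⟨j + 1, Subtype.ext ?_⟩
    have h := congrArg Subtype.val hj
    simp only [SubmonoidClass.coe_pow, coe_one] at h ⊢
    rw [pow_succ', pow_mul, pow_two]
    exact h
  exact Components.le_pCore hKn hKp haK

/-- The met components are permuted. -/
theorem isMet_conj (hA : Cfsg.IsStronglyClosed A (S : Subgroup X)) {L : Subgroup X}
    (hL : IsMet A L) (g : X) : IsMet A (L.map (MulAut.conj g).toMonoidHom) := by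
  set L' := L.map (MulAut.conj g).toMonoidHom with hL'
  have hLc : Cfsg.IsComponent L' := Components.component_conj hL.1 g
  refine ⟨hLc, fun hall => hL.2 fun w hw => ?_⟩
  set y := g * w * g⁻¹ with hy
  have hyL : y ∈ L' := ⟨w, hw.2, rfl⟩
  obtain ⟨P, hP⟩ := Cfsg.Agent.S0542.result 2 L' hLc.1 S
  have hy2 : IsPGroup 2 ↥(zpowers (⟨y, hyL⟩ : ↥L')) := by
    obtain ⟨k, hk⟩ := S.isPGroup' ⟨w, hA.1 hw.1⟩
    have hk' : w ^ 2 ^ k = 1 := congrArg Subtype.val hk
    intro z
    obtain ⟨i, hi⟩ := mem_zpowers_iff.1 z.2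
    refine ⟨k, Subtype.ext (Subtype.ext ?_)⟩
    simp only [SubmonoidClass.coe_pow, coe_one, ← hi, SubgroupClass.coe_zpow]
    rw [← zpow_natCast, ← zpow_mul, mul_comm, zpow_mul, zpow_natCast, hy, conj_pow, hk', mul_one,
      mul_inv_cancel, one_zpow]
  obtain ⟨Q, hQ⟩ := hy2.exists_le_sylow
  obtain ⟨l, hl⟩ := MulAction.exists_smul_eq (↥L') Q P
  have hlP : l * ⟨y, hyL⟩ * l⁻¹ ∈ (P : Subgroup ↥L') := by
    rw [← hl]; exact ⟨_, hQ (mem_zpowers _), rfl⟩
  rw [hP, mem_subgroupOf] at hlP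
  have hlA : (l : X) * y * (l : X)⁻¹ ∈ A := by
    have h := hA.2 w hw.1 ((l : X) * g) (by
      simpa [hy, mul_assoc] using hlP)
    simpa [hy, mul_assoc] using h
  have hlc := hall ⟨hlA, L'.mul_mem (L'.mul_mem l.2 hyL) (L'.inv_mem l.2)⟩
  have hyc : y ∈ centralizer (L' : Set X) := by
    have hcl := mem_centralizer_iff.1 hlc l l.2
    rwa [show y = (l : X)⁻¹ * ((l : X) * y * (l : X)⁻¹) * l by group, mul_assoc, ← hcl,
      inv_mul_cancel_left]
  refine mem_centralizer_iff.2 fun z hz => ?_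
  have h := mem_centralizer_iff.1 hyc (g * z * g⁻¹) ⟨z, hz, rfl⟩
  rw [hy] at h
  refine mul_left_cancel (a := g) (mul_right_cancel (b := g⁻¹) ?_)
  calc g * (z * w) * g⁻¹ = g * z * g⁻¹ * (g * w * g⁻¹) := by group
    _ = g * w * g⁻¹ * (g * z * g⁻¹) := h
    _ = g * (w * z) * g⁻¹ := by group

theorem metJoin_normal (hA : Cfsg.IsStronglyClosed A (S : Subgroup X)) : (metJoin A).Normal := by
  refine ⟨fun x hx g => ?_⟩
  have hle : (metJoin A).map (MulAut.conj g).toMonoidHom ≤ metJoin A := by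
    rw [metJoin, sSup_eq_iSup', Subgroup.map_iSup]
    exact iSup_le fun L => (le_sSup (show L.1.map (MulAut.conj g).toMonoidHom ∈ {L | IsMet A L} from
      isMet_conj hA L.2 g)).trans (sSup_eq_iSup' _).le
  exact hle ⟨x, hx, rfl⟩

/-- **The structure of `A`.** -/
theorem le_pCore_sup_met (hA : Cfsg.IsStronglyClosed A (S : Subgroup X))
    (hab : IsMulCommutative ↥A) (hsq : ∀ a ∈ A, a * a = 1) (hO : Cfsg.oddCore X = ⊥)
    (hR : ∀ L : Subgroup X, IsMet A L → Rigid (↥L ⧸ center ↥L)) :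
    A ≤ A ⊓ Cfsg.pCore 2 X ⊔ ⨆ L ∈ {L | IsMet A L}, A ⊓ L := by
  classical
  set W : Subgroup X := ⨆ L ∈ {L | IsMet A L}, A ⊓ L with hW
  have step : ∀ s : Finset (Subgroup X), (∀ L ∈ s, IsMet A L) → ∀ a ∈ A,
      ∃ w ∈ W, ∃ c ∈ A, a = w * c ∧ ∀ L ∈ s, c ∈ centralizer (L : Set X) := by
    intro s
    induction s using Finset.induction with
    | empty => exact fun _ a ha => ⟨1, one_mem _, a, ha, (one_mul a).symm, by simp⟩
    | @insert L s hLs ih =>
      intro hs a ha
      obtain ⟨w, hw, c, hcA, rfl, hc⟩ := ih (fun L' h => hs L' (Finset.mem_insert_of_mem h)) a ha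
      have hLm := hs L (Finset.mem_insert_self L s)
      have h := le_inf_sup_centralizer hA hab hsq hO hLm.1 hLm.2 (hR L hLm) hcA
      have hle : A ⊓ centralizer (L : Set X) ≤ normalizer ((A ⊓ L : Subgroup X) : Set X) :=
        le_trans (le_centralizer_iff.1 fun x hx => mem_centralizer_iff.2 fun y hy =>
          congrArg Subtype.val (mul_comm' (⟨y, (mem_inf.1 hy).1⟩ : ↥A) ⟨x, (mem_inf.1 hx).1⟩))
          (centralizer_le_normalizer _)
      have h' : c ∈ ((A ⊓ L : Subgroup X) : Set X) *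
          ((A ⊓ centralizer (L : Set X) : Subgroup X) : Set X) := by
        rw [← coe_mul_of_right_le_normalizer_left _ _ hle]; exact h
      obtain ⟨l, hl, c', hc', rfl⟩ := h'
      refine ⟨w * l, mul_mem hw ((le_iSup₂ (f := fun L' (_ : L' ∈ {L | IsMet A L}) => A ⊓ L')
        L hLm) hl), c', hc'.1, (mul_assoc w l c').symm, fun L' hL' => ?_⟩
      rcases Finset.mem_insert.1 hL' with rfl | hL'
      · exact hc'.2
      have hlc : l ∈ centralizer (L' : Set X) := commutator_eq_bot_iff_le_centralizer.1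
        (Components.components_commute hLm.1 (hs L' (Finset.mem_insert_of_mem hL')).1
          fun e => hLs (e ▸ hL')) hl.2
      have h2 := mul_mem (inv_mem hlc) (hc L' hL')
      rwa [inv_mul_cancel_left] at h2
  intro a ha
  haveI : Fintype (Subgroup X) := Fintype.ofFinite _
  obtain ⟨w, hw, c, hcA, rfl, hc⟩ := step (Finset.univ.filter (IsMet A))
    (fun L h => (Finset.mem_filter.1 h).2) a ha
  have hcE : c ∈ centralizer (Cfsg.layer X : Set X) := by
    have hle : Cfsg.layer X ≤ centralizer ({c} : Set X) := Components.layer_le_iff.2 fun L hL => by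
      have hcL : c ∈ centralizer (L : Set X) := by
        rcases component_dichotomy hA hab hO hL with h | h
        · exact h hcA
        · exact hc L (Finset.mem_filter.2 ⟨Finset.mem_univ _, hL, h⟩)
      exact fun z hz => mem_centralizer_singleton_iff.2 (mem_centralizer_iff.1 hcL z hz)
    exact mem_centralizer_iff.2 fun z hz => mem_centralizer_singleton_iff.1 (hle hz)
  exact mul_mem (mem_sup_right hw) (mem_sup_left
    ⟨hcA, mem_pCore_of_centralizer_layer hA hab hsq hO hcA hcE⟩)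

/-- **The normal closure of `A`.** -/
theorem normalClosure_eq (hA : Cfsg.IsStronglyClosed A (S : Subgroup X))
    (hab : IsMulCommutative ↥A) (hsq : ∀ a ∈ A, a * a = 1) (hO : Cfsg.oddCore X = ⊥)
    (hR : ∀ L : Subgroup X, IsMet A L → Rigid (↥L ⧸ center ↥L)) :
    normalClosure (A : Set X) = A ⊓ Cfsg.pCore 2 X ⊔ metJoin A := by
  haveI := inf_pCore_normal hA
  haveI := metJoin_normal hA
  refine le_antisymm (normalClosure_le_normal ?_) (sup_le ?_ ?_)
  · exact (le_pCore_sup_met hA hab hsq hO hR).trans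
      (sup_le_sup_left (iSup₂_le fun L hL => inf_le_right.trans (le_sSup hL)) _)
  · exact inf_le_left.trans le_normalClosure
  · refine sSup_le fun L hL => ?_
    rcases Components.component_le_or_commutator_eq_bot_normal hL.1
      (normalClosure (A : Set X)) with h | h
    · exact h
    · exfalso
      refine hL.2 fun w hw => mem_centralizer_iff.2 fun y hy => ?_
      exact Components.commute_of_commutator_eq_bot h hy (le_normalClosure hw.1)

end Cfsg.Agent.H48.WA
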