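import Cfsg.Agent.H48.WA.Shapes
import Cfsg.Agent.H48.WA.Structure
import Cfsg.Agent.H30.RankInt.BenderFacts
import Cfsg.Agent.H50.Walter.ShapeData

/-!
# The groups of the induction are rigid
-/

set_option autoImplicit false
set_option linter.style.haveILetI false

namespace Cfsg.Agent.H48.WA

open Subgroup Cfsg.Agent

universe u

/-- A simple group with the conclusion of Goldschmidt's theorem is rigid. -/
theorem rigid_of_concl {Y : Type u} [Group Y] [Finite Y] (hs : IsSimpleGroup Y)
    (hna : ¬ IsMulCommutative Y) (h : Concl Y) : Rigid Y := by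
  rcases h with h | ⟨H, hH⟩
  · have hd := fun U : Sylow 2 Y =>
      H50.Walter.shapeData Y hs hna h (H10.Walter.walterHyp Y hs hna h) U
    refine ⟨fun U a ha b hb ha2 hb2 => ?_, NoTwist.of_sq fun U => (hd U).sq⟩
    obtain ⟨y, hy, hyt⟩ := (hd U).cyc
    obtain ⟨k, hk⟩ := hyt a ha b hb (H39.ne_one_of_orderOf_eq_two ha2)
      (H39.ne_one_of_orderOf_eq_two hb2)
    exact ⟨y ^ k, pow_mem hy k, hk⟩
  · haveI := hs
    refine ⟨(H30.RankInt.tiSimple_of_se hna H hH).conj, noTwist_of_bender (Bridge.bender Y ?_ H hH)⟩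
    by_contra hne
    push Not at hne
    exact hna ⟨⟨hne⟩⟩

/-- The central quotient of a met component is rigid. -/
theorem component_rigid {X : Type u} [Group X] [Finite X] {n : ℕ} (hsmall : Small.{u} n)
    (hn : Nat.card X < n) {S : Sylow 2 X} {A : Subgroup X}
    (hA : Cfsg.IsStronglyClosed A (S : Subgroup X)) (hab : IsMulCommutative ↥A) {L : Subgroup X}
    (hL : IsMet A L) : Rigid (↥L ⧸ center ↥L) :=
  rigid_of_concl hL.1.2.2 (Components.qs_quotient_not_comm hL.1.2)
    (component_concl hsmall hn hA hab hL.1 hL.2)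

end Cfsg.Agent.H48.WA
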