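import Cfsg.Agent.H48.WA.Components
import Cfsg.Agent.H10.Walter.Final
import Cfsg.Agent.Bridge.Bender

/-!
# The shapes of the components met by a strongly closed abelian 2-subgroup

By induction such a component is, modulo its centre, a Bender group or has abelian Sylow 2-subgroups
and the shape given by Walter's theorem.
-/

set_option autoImplicit false
set_option linter.style.haveILetI false

namespace Cfsg.Agent.H48.WA

open Subgroup Cfsg.Agent

universe u

/-- The conclusion of Goldschmidt's theorem for one group. -/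
def Concl (Y : Type u) [Group Y] : Prop :=
  H10.Walter.AbSyl Y ∨ ∃ H : Subgroup Y, Cfsg.IsStronglyEmbedded H

/-- Goldschmidt's theorem below `n`. -/
def Small (n : ℕ) : Prop :=
  ∀ (Y : Type u) [Group Y] [Finite Y], Nat.card Y < n → IsSimpleGroup Y →
    ¬ IsMulCommutative Y → ∀ (R : Sylow 2 Y) (B : Subgroup Y), B ≠ ⊥ → IsMulCommutative ↥B →
      Cfsg.IsStronglyClosed B (R : Subgroup Y) → Concl Y

/-- A simple group with the conclusion: a Bender group, or the shape of Walter's theorem. -/
def Shape (Y : Type u) [Group Y] : Prop :=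
  H76.PostBender.IsBenderGroup Y ∨ (H10.Walter.AbSyl Y ∧ H10.Walter.Shape Y)

theorem Small.mono {m n : ℕ} (h : Small.{u} n) (hmn : m ≤ n) : Small.{u} m :=
  fun Y _ _ hY => h Y (hY.trans_le hmn)

/-- The conclusion gives the shape. -/
theorem shape_of_concl {Y : Type u} [Group Y] [Finite Y] (hs : IsSimpleGroup Y)
    (hna : ¬ IsMulCommutative Y) (h : Concl Y) : Shape Y := by
  rcases h with h | ⟨H, hH⟩
  · exact Or.inr ⟨h, H10.Walter.walterHyp Y hs hna h⟩
  · haveI := hs
    refine Or.inl (Bridge.bender Y ?_ H hH)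
    by_contra hne
    push Not at hne
    exact hna ⟨⟨hne⟩⟩

/-- The induction behind Goldschmidt's theorem. -/
theorem small_of_cfg
    (h : ∀ (G : Type u) [Group G] [Finite G], IsSimpleGroup G → ¬ IsMulCommutative G →
      Small.{u} (Nat.card G) → ∀ (S : Sylow 2 G) (A : Subgroup G), A ≠ ⊥ → IsMulCommutative ↥A →
        Cfsg.IsStronglyClosed A (S : Subgroup G) → Concl G) : ∀ n : ℕ, Small.{u} n := by
  intro n
  induction n with
  | zero => intro Y _ _ hY; exact absurd hY (Nat.not_lt_zero _)
  | succ n ih =>
    intro Y _ _ hY hs hna R B hB hBc hcl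
    exact h Y hs hna (ih.mono (by omega)) R B hB hBc hcl

/-- The central quotient of a met component satisfies the conclusion. -/
theorem component_concl {X : Type u} [Group X] [Finite X] {n : ℕ} (hsmall : Small.{u} n)
    (hn : Nat.card X < n) {S : Sylow 2 X} {A : Subgroup X}
    (hA : Cfsg.IsStronglyClosed A (S : Subgroup X)) (hab : IsMulCommutative ↥A) {L : Subgroup X}
    (hL : Cfsg.IsComponent L) (hmet : ¬ A ⊓ L ≤ centralizer (L : Set X)) :
    Concl (↥L ⧸ center ↥L) := by
  obtain ⟨R, B, hB, hBc, hcl⟩ := met_quotient hA hab hmet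
  have hna := Components.qs_quotient_not_comm hL.2
  refine hsmall _ (lt_of_le_of_lt ?_ hn) hL.2.2 hna R B hB hBc hcl
  exact (Nat.card_le_card_of_surjective _ (QuotientGroup.mk'_surjective (center ↥L))).trans
    (card_le_card_group L)

/-- **The shape of a met component.** -/
theorem component_shape {X : Type u} [Group X] [Finite X] {n : ℕ} (hsmall : Small.{u} n)
    (hn : Nat.card X < n) {S : Sylow 2 X} {A : Subgroup X}
    (hA : Cfsg.IsStronglyClosed A (S : Subgroup X)) (hab : IsMulCommutative ↥A) {L : Subgroup X}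
    (hL : Cfsg.IsComponent L) (hmet : ¬ A ⊓ L ≤ centralizer (L : Set X)) :
    Shape (↥L ⧸ center ↥L) :=
  shape_of_concl hL.2.2 (Components.qs_quotient_not_comm hL.2)
    (component_concl hsmall hn hA hab hL hmet)

end Cfsg.Agent.H48.WA
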