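import Cfsg.Agent.H77.WA.RankTwoDefs
import Cfsg.Agent.H59.StrongClosure
import Cfsg.Agent.Fusion.Basic
import Cfsg.Agent.Cores.GlaubermanZStar
import Cfsg.Agent.H48.WA.PSUSe
import Cfsg.Agent.S0516
import Mathlib.FieldTheory.Finite.GaloisField

/-!
# A strongly closed four-group: the start

`N(A)` induces a group of order three on `A`, a Sylow 2-subgroup centralises `A`, and no component
of a centraliser modulo its core is met; with no involution of `C(A)` outside `A` the Sylow
2-subgroup is that of `U₃(4)`, which is impossible.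
-/

set_option autoImplicit false
set_option linter.style.haveILetI false
set_option linter.unusedSectionVars false

namespace Cfsg.Agent.H48.WA

open Subgroup Cfsg.Agent
open scoped commutatorElement

universe u

variable {G : Type u} [Group G] [Finite G]

local instance fact_two_ts : Fact (Nat.Prime 2) := ⟨Nat.prime_two⟩

/-- A simple group with Sylow 2-subgroups as in `U₃(4)` is `U₃(4)` (the statement S0486). -/
def UThreeFourHyp : Prop :=
  ∀ (G : Type u) [Group G] [Finite G] [IsSimpleGroup G] (F : Type) [Field F] [Fintype F],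
    Fintype.card F = 16 → ∀ (S : Sylow 2 G) (P : Sylow 2 (Cfsg.PSU 3 F 4)),
      Nonempty ((S : Subgroup G) ≃* (P : Subgroup (Cfsg.PSU 3 F 4))) →
        Nonempty (G ≃* Cfsg.PSU 3 F 4)

theorem card_eq_four {S : Sylow 2 G} {A : Subgroup G} (h : H77.WA.Cfg S A)
    (hA : Nat.card A ≤ 4) : Nat.card A = 4 := by
  have hAp : IsPGroup 2 ↥A := S.isPGroup'.to_le h.closed.1
  obtain ⟨k, hk⟩ := IsPGroup.iff_card.1 hAp
  have hk2 : k ≤ 2 := by
    by_contra hlt
    push Not at hlt
    have h8 := Nat.pow_le_pow_right (show 1 ≤ 2 by norm_num) hlt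
    rw [← hk] at h8
    norm_num at h8
    omega
  interval_cases k
  · exact absurd (card_eq_one.1 (hk.trans (pow_zero 2))) h.ne_bot
  · exfalso
    obtain ⟨a, ha, ha1⟩ := (A.bot_or_exists_ne_one).resolve_left h.ne_bot
    have ha2 : a * a = 1 := by rw [← pow_two]; exact h.elem.2 a ha
    have ho := H39.orderOf_eq_two_of_mul_self ha2 ha1
    have hall : ∀ b ∈ A, b ≠ 1 → b = a := fun b hb hb1 => by
      have e : zpowers a = A := Subgroup.eq_of_le_of_card_ge (zpowers_le.2 ha)
        (by rw [hk, Nat.card_zpowers, ho, pow_one])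
      obtain ⟨i, hi⟩ := mem_zpowers_iff.1 (e.symm ▸ hb : b ∈ zpowers a)
      rcases Int.even_or_odd i with ⟨j, rfl⟩ | ⟨j, rfl⟩
      · exact absurd (by rw [← hi, ← two_mul, zpow_mul, zpow_two, ha2, one_zpow]) hb1
      · rw [← hi, zpow_add, zpow_mul, zpow_two, ha2, one_zpow, one_mul, zpow_one]
    have hz := Cores.glaubermanZStar S ho (h.closed.1 ha) fun g hg =>
      hall _ (h.closed.2 a ha g hg) fun e => ha1 (by simpa using e)
    haveI := h.simple
    haveI : (Cfsg.oddCore G).Characteristic := Cores.pPrimeCore_characteristic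
    rcases (inferInstance : (Cfsg.oddCore G).Normal).eq_bot_or_eq_top with e | e
    · have hac : a ∈ center G := mem_center_iff.2 fun g => by
        have h' := hz g
        rw [e, mem_bot, mul_inv_eq_one, mul_inv_eq_iff_eq_mul] at h'
        exact h'.symm
      rcases (inferInstance : (center G).Normal).eq_bot_or_eq_top with e' | e'
      · rw [e', mem_bot] at hac; exact ha1 hac
      · exact h.nonab ⟨⟨fun x y => mem_center_iff.1 (e' ▸ mem_top y) x⟩⟩
    · have h1 : Odd (Nat.card G) := by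
        rw [← card_top (G := G), ← e]; exact Cores.odd_card_oddCore
      exact (Nat.not_even_iff_odd.2 h1) (even_iff_two_dvd.2 (ho ▸ orderOf_dvd_natCard a))
  · exact hk

/-- Even permutations of three points. -/
theorem perm_three {α : Type*} [Fintype α] [DecidableEq α] (hα : Fintype.card α = 3)
    (p : Equiv.Perm α) (hp : Equiv.Perm.sign p = 1) :
    p ^ 3 = 1 ∧ ∀ x, p x = x → p = 1 := by
  let e : α ≃ Fin 3 := Fintype.equivFinOfCardEq hα
  have hs : Equiv.Perm.sign (e.permCongr p) = 1 := by rw [Equiv.Perm.sign_permCongr, hp]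
  have key : ∀ q : Equiv.Perm (Fin 3), Equiv.Perm.sign q = 1 →
      q ^ 3 = 1 ∧ ∀ i, q i = i → q = 1 := by decide
  obtain ⟨h3, hf⟩ := key _ hs
  refine ⟨e.permCongrHom.injective (by rw [map_pow, map_one]; exact h3), fun x hx => ?_⟩
  exact e.permCongrHom.injective (by rw [map_one]; exact hf (e x) (by simp [hx]))

/-- `N(A)` acts evenly on `A#`. -/
theorem normalizer_facts {S : Sylow 2 G} {A : Subgroup G} (h : H77.WA.Cfg S A)
    (hA : Nat.card A = 4) :
    (∀ n ∈ normalizer (A : Set G), (∃ k : ℕ, n ^ 2 ^ k = 1) → n ∈ centralizer (A : Set G)) ∧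
      ∀ n ∈ normalizer (A : Set G), ∀ a ∈ A, a ≠ 1 → n * a * n⁻¹ = a →
        n ∈ centralizer (A : Set G) := by
  classical
  set N := normalizer (A : Set G) with hN
  let X := {a : G // a ∈ A ∧ a ≠ 1}
  haveI : Fintype X := Fintype.ofFinite _
  have hX : Fintype.card X = 3 := by
    let e : X ≃ {a : ↥A // a ≠ 1} :=
      { toFun := fun x => ⟨⟨x.1, x.2.1⟩, fun e => x.2.2 (congrArg Subtype.val e)⟩
        invFun := fun x => ⟨x.1.1, x.1.2, fun e => x.2 (Subtype.ext e)⟩
        left_inv := fun _ => rfl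
        right_inv := fun _ => rfl }
    haveI : Fintype ↥A := Fintype.ofFinite _
    rw [← Nat.card_eq_fintype_card, Nat.card_congr e, Nat.card_eq_fintype_card,
      Fintype.card_subtype_compl, Fintype.card_subtype_eq, ← Nat.card_eq_fintype_card, hA]
  let act : ↥N →* Equiv.Perm X := MonoidHom.mk'
    (fun n =>
      { toFun := fun x => ⟨(n : G) * x.1 * (n : G)⁻¹, (mem_normalizer_iff.1 n.2 _).1 x.2.1,
          fun e => x.2.2 (conj_eq_one_iff.1 e)⟩
        invFun := fun x => ⟨(n : G)⁻¹ * x.1 * (n : G), by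
            refine ⟨?_, fun e => x.2.2 ?_⟩
            · have h' := (mem_normalizer_iff.1 (inv_mem n.2) _).1 x.2.1
              rwa [inv_inv] at h'
            · rw [show x.1 = (n : G) * ((n : G)⁻¹ * x.1 * (n : G)) * (n : G)⁻¹ by group, e,
                mul_one, mul_inv_cancel]⟩
        left_inv := fun x => Subtype.ext (by show (n : G)⁻¹ * _ * (n : G) = _; group)
        right_inv := fun x => Subtype.ext (by show (n : G) * _ * (n : G)⁻¹ = _; group) })
    (fun m n => Equiv.ext fun x => Subtype.ext (by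
      show ((m * n : ↥N) : G) * x.1 * ((m * n : ↥N) : G)⁻¹ =
        (m : G) * ((n : G) * x.1 * (n : G)⁻¹) * (m : G)⁻¹
      rw [coe_mul]; group))
  have hact1 : ∀ n : ↥N, act n = 1 → (n : G) ∈ centralizer (A : Set G) := fun n hn =>
    mem_centralizer_iff.2 fun a ha => by
      rcases eq_or_ne a 1 with rfl | ha1
      · simp
      have e : (n : G) * a * (n : G)⁻¹ = a :=
        congrArg Subtype.val (Equiv.ext_iff.1 hn ⟨a, ha, ha1⟩)
      exact (mul_inv_eq_iff_eq_mul.1 e).symm
  -- the sign is trivial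
  obtain ⟨T, hAT, hT⟩ := H59.controlsStrongFusion_of_stronglyClosed S A h.elem.1 h.closed
  obtain ⟨g, hg⟩ := MulAction.exists_smul_eq G T S
  have hgT : ∀ y ∈ (T : Subgroup G), g * y * g⁻¹ ∈ (S : Subgroup G) := fun y hy => by
    rw [← hg]; exact ⟨y, hy, rfl⟩
  have hgN : g ∈ N := H39.mem_normalizer_of_conj_mem fun a ha =>
    h.closed.2 a ha g (hgT a (hAT ha))
  have hTN : (T : Subgroup G) ≤ N := fun t ht => H39.mem_normalizer_of_conj_mem fun a ha => by
    have h1 := h.closed.2 a ha (g * t)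
      (by
        have h2 := hgT _ (mul_mem (mul_mem ht (hAT ha)) (inv_mem ht))
        simpa [mul_assoc] using h2)
    exact (mem_normalizer_iff.1 hgN _).2 (by simpa [mul_assoc] using h1)
  have hcomm : commutator G = ⊤ := by
    haveI := h.simple
    rcases (inferInstance : (commutator G).Normal).eq_bot_or_eq_top with e | e
    · refine absurd ⟨⟨fun x y => ?_⟩⟩ h.nonab
      have h' : ⁅x, y⁆ ∈ commutator G := commutator_mem_commutator (mem_top x) (mem_top y)
      rwa [e, mem_bot, commutatorElement_eq_one_iff_mul_comm] at h'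
    · exact e
  have hce : Fusion.ControlsElementFusion N (T : Subgroup G) := fun x hx y hy => by
    obtain ⟨m, hm, e⟩ := (hT {x} (Set.singleton_subset_iff.2 hx)).2 y (by
      rintro _ ⟨z, rfl, rfl⟩; exact hy)
    exact ⟨m, hm, (e x rfl).symm⟩
  have hTc := Fusion.commutator_inf_eq_of_controls T hTN hce
  rw [hcomm, top_inf_eq] at hTc
  set σ : ↥N →* ℤˣ := Equiv.Perm.sign.comp act with hσ
  have hTker : (T : Subgroup G).subgroupOf N ≤ σ.ker := by
    intro x hx
    have hx' : (x : G) ∈ ⁅N, N⁆ := (hTc ▸ mem_subgroupOf.1 hx : (x : G) ∈ ⁅N, N⁆ ⊓ _).1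
    have hmap : (commutator ↥N).map N.subtype = ⁅N, N⁆ := by
      rw [commutator_def, map_commutator, ← MonoidHom.range_eq_map, Subgroup.range_subtype]
    rw [← hmap] at hx'
    obtain ⟨z, hz, e⟩ := hx'
    rw [← Subtype.ext e]
    exact Abelianization.commutator_subset_ker σ hz
  have hσ1 : ∀ n : ↥N, Equiv.Perm.sign (act n) = 1 := by
    have hdvd : σ.ker.index ∣ 2 := by
      rw [index_ker, show (2 : ℕ) = Nat.card ℤˣ by rw [Nat.card_eq_fintype_card]; rfl]
      exact card_subgroup_dvd_card _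
    have hndvd : ¬ 2 ∣ σ.ker.index := fun hd => (T.subtype hTN).not_dvd_index
      (hd.trans (index_dvd_of_le hTker))
    have h1 : σ.ker.index = 1 := ((Nat.dvd_prime Nat.prime_two).1 hdvd).resolve_right
      fun e => hndvd (e ▸ dvd_rfl)
    intro n
    exact MonoidHom.mem_ker.1 ((index_eq_one.1 h1).symm ▸ mem_top n : n ∈ σ.ker)
  refine ⟨fun n hn hk => ?_, fun n hn a ha ha1 he => ?_⟩
  · obtain ⟨k, hk⟩ := hk
    refine hact1 ⟨n, hn⟩ (orderOf_eq_one_iff.1 (Nat.eq_one_of_dvd_coprimes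
      ((by norm_num : Nat.Coprime 3 2).pow_right k)
      (orderOf_dvd_of_pow_eq_one (perm_three hX _ (hσ1 _)).1) (orderOf_dvd_of_pow_eq_one ?_)))
    rw [← map_pow, show (⟨n, hn⟩ : ↥N) ^ 2 ^ k = 1 from Subtype.ext hk, map_one]
  · exact hact1 ⟨n, hn⟩ ((perm_three hX _ (hσ1 ⟨n, hn⟩)).2 ⟨a, ha, ha1⟩ (Subtype.ext he))

/-- **The start of the case `|A| = 4`.** -/
theorem twoStart (hB : H77.WA.BarStruct.{u}) (S : Sylow 2 G) (A : Subgroup G)
    (h : H77.WA.Cfg S A) (hA : Nat.card A ≤ 4) : H77.WA.TwoCfg S A := by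
  have h4 := card_eq_four h hA
  obtain ⟨h2c, hfix⟩ := normalizer_facts h h4
  have hcA : ∀ a ∈ A, ∀ b ∈ A, b * a = a * b := fun a ha b hb =>
    congrArg Subtype.val (h.elem.1.is_comm.comm ⟨b, hb⟩ ⟨a, ha⟩)
  have hSN : (S : Subgroup G) ≤ normalizer (A : Set G) := fun s hs =>
    H39.mem_normalizer_of_conj_mem fun a ha =>
      h.closed.2 a ha s (mul_mem (mul_mem hs (h.closed.1 ha)) (inv_mem hs))
  have hcent : (S : Subgroup G) ≤ centralizer (A : Set G) := fun s hs => by
    obtain ⟨k, hk⟩ := S.isPGroup' ⟨s, hs⟩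
    exact h2c s (hSN hs) ⟨k, congrArg Subtype.val hk⟩
  have hcover : ∀ a ∈ A, a ≠ 1 →
      centralizer ({a} : Set G) ≤ H88.Walter.core a ⊔ centralizer (A : Set G) := by
    intro a ha ha1
    set M := centralizer ({a} : Set G) with hM
    have hAM : A ≤ M := fun b hb => mem_centralizer_singleton_iff.2 (hcA a ha b hb)
    have haA : a ∈ centralizer (A : Set G) := mem_centralizer_iff.2 fun b hb => hcA a ha b hb
    have ho : orderOf a = 2 :=
      H39.orderOf_eq_two_of_mul_self (by rw [← pow_two]; exact h.elem.2 a ha) ha1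
    have hst := hB G S A h a haA ho
    set π := H21.Walter.coreProj a
    have hinj : ∀ b : ↥M, (b : G) ∈ A → π b = 1 → b = 1 := fun b hb hπ =>
      H21.Walter.coreProj_injOn h.elem hb hπ
    have hnomet : ∀ L, ¬ H77.WA.Met (H21.Walter.coreImage a A) L := by
      intro L hL
      have h4' := hst.four L hL
      have hcard : Nat.card ↥(H21.Walter.coreImage a A) ≤ 4 := by
        refine (Nat.le_of_dvd Nat.card_pos (card_map_dvd _ _)).trans ?_
        rw [Nat.card_congr (subgroupOfEquivOfLe hAM).toEquiv, h4]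
      have hne : H21.Walter.coreImage a A ⊓ centralizer (L : Set (H88.Walter.Bb a)) ≠ ⊥ := by
        refine fun e => ?_
        have hmem : π ⟨a, hAM ha⟩ ∈
            H21.Walter.coreImage a A ⊓ centralizer (L : Set (H88.Walter.Bb a)) := by
          refine ⟨mem_map_of_mem _ (mem_subgroupOf.2 ha), mem_centralizer_iff.2 fun y _ => ?_⟩
          obtain ⟨z, rfl⟩ := H88.Walter.coreProj_surjective a y
          rw [← map_mul, ← map_mul]
          exact congrArg _ (Subtype.ext (mem_centralizer_singleton_iff.1 z.2))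
        rw [e, mem_bot] at hmem
        exact ha1 (congrArg Subtype.val (hinj _ ha hmem))
      have := one_lt_card_iff_ne_bot _ |>.2 hne
      omega
    have hn : (H21.Walter.coreImage a A).Normal := by
      have h1 := hst.two_part_normal
      have h2 : H21.Walter.coreImage a A ⊓ Cfsg.pCore 2 (H88.Walter.Bb a) =
          H21.Walter.coreImage a A := by
        rw [hst.two_part]
        exact inf_eq_left.2 (le_iInf fun L => absurd L.2 (hnomet L.1))
      rwa [h2] at h1
    set A' := A.subgroupOf M with hA'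
    set K := Cfsg.pPrimeCore 2 ↥M with hK
    set N0 : Subgroup ↥M := (H21.Walter.coreImage a A).comap π with hN0
    haveI : N0.Normal := hn.comap π
    have hA'N : A' ≤ N0 := fun x hx => mem_map_of_mem π hx
    obtain ⟨P, hP⟩ := (((S.isPGroup'.to_le h.closed.1).comap_subtype (K := M)).comap_subtype
      (K := N0)).exists_le_sylow
    have hPmap : (P : Subgroup ↥N0).map N0.subtype = A' := by
      refine le_antisymm ?_ fun x hx => ⟨⟨x, hA'N hx⟩, hP hx, rfl⟩
      rintro _ ⟨p, hp, rfl⟩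
      obtain ⟨b, hb, e⟩ := p.2
      have hbP : (⟨b, hA'N hb⟩ : ↥N0) ∈ (P : Subgroup ↥N0) := hP hb
      set k : ↥N0 := (⟨b, hA'N hb⟩ : ↥N0)⁻¹ * p
      obtain ⟨j, hj⟩ := P.isPGroup' ⟨k, mul_mem (inv_mem hbP) hp⟩
      have hkK : (k : ↥M) ∈ K := (QuotientGroup.eq_one_iff _).1 (by
        show π (b⁻¹ * (p : ↥M)) = 1
        rw [map_mul, map_inv, e, inv_mul_cancel])
      have hk1 : (k : ↥M) = 1 := orderOf_eq_one_iff.1 (Nat.eq_one_of_dvd_coprimes
        (Nat.Coprime.pow_left j (Nat.coprime_two_left.2 (Cores.odd_card_oddCore (G := ↥M))))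
        (orderOf_dvd_of_pow_eq_one (congrArg (fun y => ((Subtype.val y : ↥N0) : ↥M)) hj))
        (orderOf_dvd_natCard _ hkK))
      have e' : b⁻¹ * (p : ↥M) = 1 := hk1
      rw [inv_mul_eq_one] at e'
      show (p : ↥M) ∈ A'
      rw [← e']
      exact hb
    intro c hc
    have hmem : (⟨c, hc⟩ : ↥M) ∈ N0 ⊔ normalizer ((A' : Subgroup ↥M) : Set ↥M) := by
      rw [← hPmap, sup_comm, Sylow.normalizer_sup_eq_top P]; exact mem_top _
    obtain ⟨x, hx, n, hn', e⟩ := mem_sup_of_normal_left.1 hmem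
    obtain ⟨b, hb, eb⟩ := (hx : π x ∈ H21.Walter.coreImage a A)
    have hbx : (x * b⁻¹ : ↥M) ∈ K := (QuotientGroup.eq_one_iff _).1 (by
      show π (x * b⁻¹) = 1
      rw [map_mul, map_inv, eb, mul_inv_cancel])
    have hnA : (n : G) ∈ centralizer (A : Set G) :=
      hfix _ (H39.mem_normalizer_of_conj_mem fun y hy => by
        have h' := (mem_normalizer_iff.1 hn' ⟨y, hAM hy⟩).1 (mem_subgroupOf.2 hy)
        exact mem_subgroupOf.1 h') a ha ha1
        (mul_inv_eq_iff_eq_mul.2 (mem_centralizer_singleton_iff.1 n.2))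
    have hbC : (b : G) ∈ centralizer (A : Set G) :=
      mem_centralizer_iff.2 fun y hy => hcA _ (mem_subgroupOf.1 hb) y hy
    have e2 : c = ((x * b⁻¹ : ↥M) : G) * ((b : G) * (n : G)) := by
      rw [show c = ((x * n : ↥M) : G) from (congrArg Subtype.val e).symm]
      simp only [coe_mul, coe_inv]; group
    rw [e2]
    exact mul_mem (mem_sup_left (mem_map_of_mem _ hbx)) (mem_sup_right (mul_mem hbC hnA))
  refine ⟨h, h4, hcent, h2c, hcover, fun a ha ha1 => ?_⟩
  -- the two cores
  set M := centralizer ({a} : Set G) with hM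
  set C := centralizer (A : Set G) with hC
  have hCM : C ≤ M := fun x hx =>
    mem_centralizer_singleton_iff.2 (mem_centralizer_iff.1 hx a ha).symm
  set O := Cfsg.centralizerSubgroupPPrimeCore 2 A with hO
  have hOC : O ≤ C := map_subtype_le _
  refine le_antisymm ?_ ?_
  · have hn : ((H88.Walter.core a).subgroupOf C).Normal := ⟨fun x hx g =>
      mem_subgroupOf.2 ((mem_normalizer_iff.1 (H88.Walter.core_normal a (hCM g.2)) _).1
        (mem_subgroupOf.1 hx))⟩
    have hle : (H88.Walter.core a).subgroupOf C ≤ Cfsg.pPrimeCore 2 ↥C := by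
      haveI := hn
      refine Cores.le_oddCore ?_
      have hdvd : Nat.card ↥((H88.Walter.core a).subgroupOf C) ∣ Nat.card ↥(H88.Walter.core a) := by
        rw [← card_map_of_injective C.subtype_injective, subgroupOf_map_subtype]
        exact card_dvd_of_le inf_le_left
      exact (H88.Walter.core_odd a).of_dvd_nat hdvd
    exact fun x hx => ⟨⟨x, hx.2⟩, hle (mem_subgroupOf.2 hx.1), rfl⟩
  · refine le_inf ?_ hOC
    set π := H21.Walter.coreProj a
    set Ob := (O.subgroupOf M).map π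
    haveI : Ob.Normal := by
      refine ⟨fun y hy z => ?_⟩
      obtain ⟨w, rfl⟩ := H88.Walter.coreProj_surjective a z
      obtain ⟨o, ho, rfl⟩ := hy
      obtain ⟨k, hk, c, hc', e⟩ : ∃ k ∈ H88.Walter.core a, ∃ c ∈ C, k * c = (w : G) := by
        have hmem := hcover a ha ha1 w.2
        have hnn : C ≤ normalizer (H88.Walter.core a : Set G) := fun x hx =>
          H88.Walter.core_normal a (hCM hx)
        rw [← SetLike.mem_coe, coe_mul_of_right_le_normalizer_left _ _ hnn] at hmem
        obtain ⟨k, hk, c, hc', e⟩ := hmem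
        exact ⟨k, hk, c, hc', e⟩
      have hkM : k ∈ M := H88.Walter.core_le a hk
      have hw : π w = π ⟨c, hCM hc'⟩ := by
        rw [show w = (⟨k, hkM⟩ : ↥M) * ⟨c, hCM hc'⟩ from Subtype.ext e.symm, map_mul,
          H88.Walter.proj_eq_one hkM hk, one_mul]
      rw [hw, ← map_inv, ← map_mul, ← map_mul]
      refine mem_map_of_mem π (mem_subgroupOf.2 ?_)
      obtain ⟨o', ho', eo⟩ := (mem_subgroupOf.1 ho : (o : G) ∈ O)
      refine ⟨⟨c, hc'⟩ * o' * ⟨c, hc'⟩⁻¹,
        (Cfsg.pPrimeCore_normal 2 ↥C).conj_mem o' ho' _, ?_⟩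
      simp only [map_mul, map_inv]
      rw [eo]
      rfl
    have hodd : Odd (Nat.card Ob) := by
      have hO1 : Odd (Nat.card O) := by
        rw [hO, Cfsg.centralizerSubgroupPPrimeCore, card_map_of_injective C.subtype_injective]
        exact Cores.odd_card_oddCore
      have hdvd : Nat.card Ob ∣ Nat.card O := (card_map_dvd _ _).trans (by
        rw [← card_map_of_injective M.subtype_injective, subgroupOf_map_subtype]
        exact card_dvd_of_le inf_le_left)
      exact hO1.of_dvd_nat hdvd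
    have hbot : Ob = ⊥ := le_bot_iff.1
      ((Cores.le_oddCore hodd).trans (H10.Walter.oddCore_bar _).le)
    intro x hx
    have hxM : x ∈ M := hCM (hOC hx)
    have h1 : π ⟨x, hxM⟩ = 1 :=
      mem_bot.1 (hbot ▸ mem_map_of_mem π (mem_subgroupOf.2 hx) : π ⟨x, hxM⟩ ∈ (⊥ : Subgroup _))
    exact ⟨⟨x, hxM⟩, (QuotientGroup.eq_one_iff _).1 h1, rfl⟩

/-- **No involution of `C(A)` outside `A`.** -/
theorem noOuter (h486 : UThreeFourHyp.{u}) {S : Sylow 2 G} {A : Subgroup G}
    (hT : H77.WA.TwoCfg S A) (hno : ∀ e, ¬ H77.WA.Outer A e) : False := by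
  classical
  have h := hT.cfg
  haveI := h.simple
  have hinv : ∀ x ∈ (S : Subgroup G), x * x = 1 → x ∈ A := fun x hx hx2 => by
    rcases eq_or_ne x 1 with rfl | hx1
    · exact one_mem _
    by_contra hxA
    exact hno x ⟨hT.cent hx, H39.orderOf_eq_two_of_mul_self hx2 hx1, hxA⟩
  have hcom : ∀ x y : ↥(S : Subgroup G), x * x = 1 → y * y = 1 → x * y = y * x :=
    fun x y hx hy => Subtype.ext (show (x : G) * y = y * x from congrArg Subtype.val (h.elem.1.is_comm.comm
      (⟨_, hinv x x.2 (congrArg Subtype.val hx)⟩ : ↥A) ⟨_, hinv y y.2 (congrArg Subtype.val hy)⟩))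
  have h2 : Cfsg.PRankLE 2 2 G := by
    intro E hE hE2
    obtain ⟨Q, hQ⟩ := (show IsPGroup 2 ↥E from fun x => ⟨1, Subtype.ext (by
      rw [pow_one, SubmonoidClass.coe_pow]; exact hE2 x x.2)⟩).exists_le_sylow
    obtain ⟨g, hg⟩ := MulAction.exists_smul_eq G Q S
    have ec : Nat.card ↥(E.map (MulAut.conj g).toMonoidHom) = Nat.card E :=
      card_map_of_injective (MulAut.conj g).injective
    rw [← ec]
    refine (Nat.le_of_dvd Nat.card_pos (card_dvd_of_le (K := A) ?_)).trans hT.card.le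
    rintro _ ⟨x, hx, rfl⟩
    refine hinv _ (hg ▸ ⟨x, hQ hx, rfl⟩) ?_
    show g * x * g⁻¹ * (g * x * g⁻¹) = 1
    rw [show g * x * g⁻¹ * (g * x * g⁻¹) = g * (x * x) * g⁻¹ by group, ← pow_two, hE2 x hx,
      mul_one, mul_inv_cancel]
  haveI : Fintype (GaloisField 2 4) := Fintype.ofFinite _
  have hF : Fintype.card (GaloisField 2 4) = 16 := by
    rw [← Nat.card_eq_fintype_card, GaloisField.card 2 4 (by norm_num)]; norm_num
  obtain ⟨P⟩ : Nonempty (Sylow 2 (Cfsg.PSU 3 (GaloisField 2 4) 4)) := inferInstance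
  rcases Cfsg.Agent.S0516.result h.nonab h2 S hF P with ⟨n, hn, ⟨e⟩⟩ | hq | hw | he
  · by_cases hn2 : n = 2
    · subst hn2
      have hc : ∀ a b : DihedralGroup 2, a * b = b * a := by decide
      exact h.sylow_nonab ⟨⟨fun x y => e.injective (by rw [map_mul, map_mul, hc])⟩⟩
    have hs : ∀ i : ZMod n, e.symm (DihedralGroup.sr i) * e.symm (DihedralGroup.sr i) = 1 :=
      fun i => by rw [← map_mul, DihedralGroup.sr_mul_sr, sub_self]; exact map_one _
    have h1 := hcom _ _ (hs 0) (hs 1)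
    rw [← map_mul, ← map_mul, e.symm.injective.eq_iff, DihedralGroup.sr_mul_sr,
      DihedralGroup.sr_mul_sr, DihedralGroup.r.injEq] at h1
    have h20 : ((2 : ℕ) : ZMod n) = 0 := by push_cast; linear_combination h1
    have := Nat.le_of_dvd (by norm_num) ((ZMod.natCast_eq_zero_iff _ _).1 h20)
    omega
  · obtain ⟨n, hn, -, x, y, hx, hy, hxy⟩ := hq
    have hy2 := H39.mul_self_of_orderOf_eq_two hy
    have hpow : ∀ i : ℕ, y * x ^ i * y⁻¹ = x ^ ((2 ^ (n - 1) - 1) * i) := fun i => by
      rw [← conj_pow, hxy, pow_mul]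
    obtain ⟨m, rfl⟩ : ∃ m, n = m + 1 := ⟨n - 1, by omega⟩
    rw [Nat.add_sub_cancel] at hpow
    have hm : 4 ≤ 2 ^ m := Nat.pow_le_pow_right (show 1 ≤ 2 by norm_num) (show 2 ≤ m by omega)
    have hz : x ^ 2 * y * (x ^ 2 * y) = 1 := by
      rw [show x ^ 2 * y * (x ^ 2 * y) = x ^ 2 * (y * x ^ 2 * y⁻¹) * (y * y) by group, hpow, hy2,
        mul_one, ← pow_add, show 2 + (2 ^ m - 1) * 2 = 2 ^ (m + 1) by rw [pow_succ]; omega, ← hx,
        pow_orderOf_eq_one]
    have h1 := hcom _ _ hy2 hz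
    have h2' : x ^ 2 * x ^ 2 = 1 := by
      have h3 : y * x ^ 2 * y⁻¹ = x ^ 2 := by
        rw [mul_inv_eq_iff_eq_mul]
        calc y * x ^ 2 = y * (x ^ 2 * y) * y⁻¹ := by group
          _ = x ^ 2 * y * y * y⁻¹ := by rw [h1]
          _ = x ^ 2 * y := by group
      have h4 := hpow 2
      rw [h3] at h4
      calc x ^ 2 * x ^ 2 = x ^ 2 * x ^ ((2 ^ m - 1) * 2) := by rw [← h4]
        _ = x ^ 2 ^ (m + 1) := by
          rw [← pow_add, show 2 + (2 ^ m - 1) * 2 = 2 ^ (m + 1) by rw [pow_succ]; omega]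
        _ = 1 := by rw [← hx, pow_orderOf_eq_one]
    have h5 := orderOf_dvd_of_pow_eq_one (show x ^ 4 = 1 by rw [← h2', ← pow_add])
    rw [hx] at h5
    have := Nat.le_of_dvd (by norm_num) h5
    rw [pow_succ] at this
    omega
  · obtain ⟨n, hn, -, x, y, z, hx, -, hdis, hz, hzx⟩ := hw
    obtain ⟨m, rfl⟩ : ∃ m, n = m + 1 := ⟨n - 1, by omega⟩
    set u := x ^ 2 ^ m with hu
    have hu2 : u * u = 1 := by rw [hu, ← pow_add, ← two_mul, ← pow_succ', ← hx, pow_orderOf_eq_one]
    have h1 := hcom _ _ (H39.mul_self_of_orderOf_eq_two hz) hu2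
    have h3 : u ∈ zpowers y := by
      have : z * u * z⁻¹ = y ^ 2 ^ m := by rw [hu, ← conj_pow, hzx]
      rw [h1, mul_inv_cancel_right] at this
      rw [this]
      exact pow_mem (mem_zpowers y) _
    have h4 : u ∈ zpowers x ⊓ zpowers y := ⟨pow_mem (mem_zpowers x) _, h3⟩
    rw [hdis, mem_bot] at h4
    have h5 := orderOf_dvd_of_pow_eq_one h4
    rw [hx] at h5
    have := Nat.le_of_dvd (by positivity) h5
    rw [pow_succ] at this
    have := Nat.one_le_two_pow (n := m)
    omega
  · obtain ⟨e⟩ := h486 G (GaloisField 2 4) hF S P he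
    obtain ⟨H, hH⟩ := exists_se_psu_three (F := GaloisField 2 4) (q := 4) (by rw [hF]; norm_num)
    refine h.noSE ⟨H.map e.symm.toMonoidHom, ?_⟩
    have hne : H.map e.symm.toMonoidHom ≠ ⊤ := fun htop => hH.1 (eq_top_iff.2 fun y _ => by
      obtain ⟨w, hw', ew⟩ := (htop ▸ mem_top (e.symm y) : e.symm y ∈ H.map e.symm.toMonoidHom)
      exact e.symm.injective ew ▸ hw')
    have heven : Even (Nat.card ↥(H.map e.symm.toMonoidHom)) := by
      rw [card_map_of_injective e.symm.injective]; exact hH.2.1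
    refine (H26.isStronglyEmbedded_iff_involution _ hne heven).2 fun t ht ht2 g hg => ?_
    obtain ⟨s, hs, rfl⟩ := ht
    obtain ⟨w, hw', ew⟩ := hg
    refine ⟨e g, ?_, e.symm_apply_apply g⟩
    refine (H26.isStronglyEmbedded_iff_involution H hH.1 hH.2.1).1 hH s hs
      ((orderOf_injective e.symm.toMonoidHom e.symm.injective s).symm.trans ht2)
      (e g) ?_
    have e1 : e (e.symm w) = e (g * e.symm s * g⁻¹) := congrArg e ew
    rw [e.apply_symm_apply, map_mul, map_mul, map_inv, e.apply_symm_apply] at e1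
    rwa [← e1]

end Cfsg.Agent.H48.WA
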